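import Groth.Agent.DualityLC.DualS2
import Groth.Agent.LC.GorRows
import Groth.Agent.LC.ExtBridge

/-!
# Duality over Gorenstein local rings
-/

set_option autoImplicit false
set_option linter.style.haveILetI false
set_option backward.isDefEq.respectTransparency false

universe u v w

open CategoryTheory CategoryTheory.Limits Pretriangulated IsLocalRing Opposite

attribute [local instance] HasDerivedCategory.standard

namespace Groth.Agent.DualityLC

variable {A : Type u} [CommRing A] [IsLocalRing A]

theorem isInjectiveHull_equiv {E E' : Type u} [AddCommGroup E] [Module A E] [AddCommGroup E'] [Module A E']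
    {f : ResidueField A →ₗ[A] E} (hf : InjHull.IsInjectiveHull f) (e : E ≃ₗ[A] E') :
    InjHull.IsInjectiveHull (e.toLinearMap ∘ₗ f) := by
  haveI := hf.isInjective
  exact { LC.isEssentialInj_comp hf.toIsEssentialInj
            (g := e.toLinearMap) (LC.isEssentialInj_iff.2 ⟨e.injective, fun x hx => ⟨1, by
              rw [one_smul, LinearEquiv.range]; exact ⟨trivial, hx⟩⟩⟩) with
          isInjective := Module.Baer.injective ((Module.Baer.of_injective (R := A) (Q := E)
            inferInstance).of_equiv e) }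

variable [IsNoetherianRing A]

variable (A) in
theorem exists_nat_ringKrullDim : ∃ d : ℕ, ringKrullDim A = d := by
  have h1 : ringKrullDim A ≠ ⊥ := ringKrullDim_ne_bot
  have h2 : ringKrullDim A < ⊤ := ringKrullDim_lt_top
  generalize ringKrullDim A = z at h1 h2 ⊢
  induction z with
  | bot => exact absurd rfl h1
  | coe z => induction z with
    | top => exact absurd h2 (lt_irrefl _)
    | coe d => exact ⟨d, rfl⟩

/-- Some shift of a dualizing complex of a local ring is normalized. -/
theorem exists_normalized_shift {ω : Dual.D A} (hω : Dual.IsDualizing A ω) :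
    ∃ e : ℤ, Dual.IsNormalized A (ω⟦e⟧) := by
  haveI := KFlatLib.hasLTen A
  haveI := KFlatLib.hasRHom (A := A)
  obtain ⟨e, he, -⟩ := KFlatLib.exists_unique_ext_point (maximalIdeal A) hω
  exact ⟨e, fun i hi => @Equiv.subsingleton _ _ (Linear.homCongr A (Iso.refl _)
    ((shiftFunctorAdd' (Dual.D A) e i (e + i) rfl).app ω)).toEquiv.symm (he (e + i) (by omega))⟩

/-- Over a Gorenstein local ring of dimension `n` the shift `A[n]` is a normalized dualizing complex. -/
theorem gorenstein_normalized (hA : LocCoh.IsGorensteinLocalRing A) (n : ℕ) (hn : ringKrullDim A = n) :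
    Dual.IsDualizing A ((Dual.inD A A)⟦(n : ℤ)⟧) ∧ Dual.IsNormalized A ((Dual.inD A A)⟦(n : ℤ)⟧) := by
  have hD := (LC.gorenstein_iff_isDualizing A).1 hA
  refine ⟨KFlatLib.isDualizing_shift hD _, ?_⟩
  obtain ⟨e, he⟩ := exists_normalized_shift hD
  suffices e = (n : ℤ) by rw [← this]; exact he
  have h := KFlatLib.nontrivial_ext_neg_supportDim (KFlatLib.isDualizing_shift hD e) he A n
    (by rw [Module.supportDim_self_eq_ringKrullDim, hn])
  obtain ⟨c⟩ := KFlatLib.exists_homRingLEquiv ((Dual.inD A A)⟦e⟧) (-(n : ℤ))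
  by_contra hne
  haveI := subsingleton_hd_inD (A := A) A (i := e + -(n : ℤ)) (by omega)
  haveI : Subsingleton (Dual.inD A A ⟶ ((Dual.inD A A)⟦e⟧)⟦-(n : ℤ)⟧) :=
    (c.trans (hdShiftIso (Dual.inD A A) e (-(n : ℤ)) (e + -(n : ℤ)) rfl)).toEquiv.subsingleton
  exact not_subsingleton _ this

/-- Ext into the ring as maps into the normalized complex. -/
noncomputable def extShiftEquiv (M : Type u) [AddCommGroup M] [Module A M] (n : ℕ) (i : ℕ) (c : ℤ)
    (hc : (n : ℤ) + c = i) :
    Abelian.Ext (ModuleCat.of A M) (ModuleCat.of A A) i ≃ₗ[A]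
      (Dual.inD A M ⟶ ((Dual.inD A A)⟦(n : ℤ)⟧)⟦c⟧) :=
  (Abelian.Ext.homLinearEquiv (R := A)).trans (Linear.homCongr A (Iso.refl (Dual.inD A M))
    ((shiftFunctorAdd' (Dual.D A) (n : ℤ) c (i : ℤ) hc).app (Dual.inD A A)))

/-- Ext vanishing below the codimension over a Gorenstein local ring. -/
theorem subsingleton_ext_of_lt (hA : LocCoh.IsGorensteinLocalRing A) (M : Type u) [AddCommGroup M] [Module A M]
    [Module.Finite A M] (p : ℕ) (hdim : Module.supportDim A M + p ≤ ringKrullDim A) (i : ℕ) (hi : i < p) :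
    Subsingleton (Abelian.Ext (ModuleCat.of A M) (ModuleCat.of A A) i) := by
  obtain ⟨n, hn⟩ := exists_nat_ringKrullDim A
  obtain ⟨hD, hN⟩ := gorenstein_normalized hA n hn
  rw [hn] at hdim
  rcases subsingleton_or_nontrivial M with h | h
  · haveI := subsingleton_hom_of_supportDim_le hD hN M 0
      (by rw [(Module.supportDim_eq_bot_iff_subsingleton A M).2 h]; exact bot_le)
    by_cases hin : (i : ℤ) < n
    · haveI := this ((i : ℤ) - n) (by simp; omega)
      exact (extShiftEquiv M n i ((i : ℤ) - n) (by omega)).toEquiv.subsingleton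
    · refine subsingleton_of_forall_eq 0 fun x => ?_
      have hz : 𝟙 (ModuleCat.of A M) = 0 := ModuleCat.hom_ext (LinearMap.ext fun z => Subsingleton.elim _ _)
      rw [← Abelian.Ext.mk₀_id_comp x, hz, Abelian.Ext.mk₀_zero, Abelian.Ext.zero_comp]
  obtain ⟨d, hd, hdp⟩ : ∃ d : ℕ, Module.supportDim A M = d ∧ d + p ≤ n := by
    have h1 := Module.supportDim_ne_bot_of_nontrivial A M
    have h2 : Module.supportDim A M < ⊤ := (Module.supportDim_le_ringKrullDim _ _).trans_lt ringKrullDim_lt_top
    generalize Module.supportDim A M = z at h1 h2 hdim ⊢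
    induction z with
    | bot => exact absurd rfl h1
    | coe z => induction z with
      | top => exact absurd h2 (lt_irrefl _)
      | coe d => exact ⟨d, rfl, by exact_mod_cast hdim⟩
  haveI := subsingleton_hom_of_supportDim_le hD hN M d hd.le ((i : ℤ) - n) (by omega)
  exact (extShiftEquiv M n i ((i : ℤ) - n) (by omega)).toEquiv.subsingleton

/-- Duality of finite length modules over a Gorenstein local ring. -/
theorem finLen_ext (hA : LocCoh.IsGorensteinLocalRing A) (n : ℕ) (hn : ringKrullDim A = n)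
    (M : Type u) [AddCommGroup M] [Module A M] (hM : IsFiniteLength A M) :
    (∀ i : ℕ, i ≠ n → Subsingleton (Abelian.Ext (ModuleCat.of A M) (ModuleCat.of A A) i)) ∧
      Module.length A (Abelian.Ext (ModuleCat.of A M) (ModuleCat.of A A) n) = Module.length A M := by
  obtain ⟨hD, hN⟩ := gorenstein_normalized hA n hn
  obtain ⟨h1, h2⟩ := finLen_hom hD hN M hM
  refine ⟨fun i hi => ?_, ?_⟩
  · haveI := h1 ((i : ℤ) - n) (by omega)
    exact (extShiftEquiv M n i ((i : ℤ) - n) (by omega)).toEquiv.subsingleton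
  · rw [((extShiftEquiv M n n 0 (by omega)).trans (homShiftZero _ _)).length_eq, h2]

/-- Top local cohomology of a Gorenstein local ring is an injective hull of the residue field. -/
theorem exists_hull_localCohomology (hA : LocCoh.IsGorensteinLocalRing A) (n : ℕ) (hn : ringKrullDim A = n) :
    ∃ f : ResidueField A →ₗ[A] LocCoh.H (maximalIdeal A) n A, InjHull.IsInjectiveHull f := by
  obtain ⟨hD, hN⟩ := gorenstein_normalized hA n hn
  obtain ⟨E, _, _, f, hf⟩ := LC.exists_injectiveHull A (ResidueField A)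
  obtain ⟨e⟩ := exists_HEquiv hD hN hf A n
  obtain ⟨c⟩ := KFlatLib.exists_homRingLEquiv ((Dual.inD A A)⟦(n : ℤ)⟧) (-(n : ℤ))
  obtain ⟨c0⟩ := exists_hdInDEquiv (A := A) A
  let r : (Dual.inD A A ⟶ ((Dual.inD A A)⟦(n : ℤ)⟧)⟦-(n : ℤ)⟧) ≃ₗ[A] A :=
    c.trans ((hdShiftIso (Dual.inD A A) (n : ℤ) (-(n : ℤ)) 0 (by omega)).trans c0)
  exact ⟨_, isInjectiveHull_equiv hf
    (e.trans ((LinearEquiv.arrowCongr r (LinearEquiv.refl A E)).trans (LinearMap.ringLmapEquivSelf A A E))).symm⟩

end Groth.Agent.DualityLC
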