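import Groth.Agent.DualityLC.CMLocus
import Groth.Agent.LC.GorDualizing

/-!
# The Gorenstein locus in the presence of a dualizing complex
-/

set_option autoImplicit false
set_option linter.style.haveILetI false
set_option backward.isDefEq.respectTransparency false

universe u v w

open CategoryTheory CategoryTheory.Limits Pretriangulated IsLocalRing

attribute [local instance] HasDerivedCategory.standard

namespace Groth.Agent.DualityLC

variable {A : Type u} [CommRing A]

/-- Cohomology of a shift. -/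
noncomputable def hdShiftIso (X : Dual.D A) (n i k : ℤ) (h : n + i = k) :
    Dual.HD A (X⟦n⟧) i ≃ₗ[A] Dual.HD A X k :=
  (((DerivedCategory.homologyFunctor (ModuleCat.{u} A) 0).shiftIso n i k h).app X).toLinearEquiv

/-- The degree-zero cohomology of a module. -/
theorem exists_hdInDEquiv (M : Type u) [AddCommGroup M] [Module A M] :
    Nonempty (Dual.HD A (Dual.inD A M) 0 ≃ₗ[A] M) :=
  ⟨((DerivedCategory.homologyFunctor (ModuleCat.{u} A) 0).mapIso
      ((DerivedCategory.singleFunctorIsoCompQ (ModuleCat.{u} A) 0).app (ModuleCat.of A M)) ≪≫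
    (DerivedCategory.homologyFunctorFactors (ModuleCat.{u} A) 0).app _ ≪≫
    HomologicalComplex.singleObjHomologySelfIso (ComplexShape.up ℤ) 0 (ModuleCat.of A M)).toLinearEquiv⟩

/-- An object concentrated in one degree is a shifted module. -/
theorem exists_iso_inD_of_concentrated (X : Dual.D A) (m : ℤ) (M : Type u) [AddCommGroup M] [Module A M]
    (h : ∀ j, j ≠ m → Subsingleton (Dual.HD A X j)) (e : Dual.HD A X m ≃ₗ[A] M) :
    Nonempty (X⟦m⟧ ≅ Dual.inD A M) := by
  have h' : ∀ i : ℤ, i ≠ 0 → IsZero ((DerivedCategory.homologyFunctor (ModuleCat.{u} A) i).obj (X⟦m⟧)) :=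
    fun i hi => by
      haveI := h (m + i) (by omega)
      have this : Subsingleton (Dual.HD A (X⟦m⟧) i) := (hdShiftIso X m i (m + i) rfl).toEquiv.subsingleton
      exact @ModuleCat.isZero_of_subsingleton _ _ ((DerivedCategory.homologyFunctor (ModuleCat.{u} A) i).obj (X⟦m⟧)) this
  haveI : (X⟦m⟧).IsGE 0 := (DerivedCategory.isGE_iff _ 0).2 fun i hi => h' i (by omega)
  haveI : (X⟦m⟧).IsLE 0 := (DerivedCategory.isLE_iff _ 0).2 fun i hi => h' i (by omega)
  obtain ⟨Y, ⟨eY⟩⟩ := DerivedCategory.exists_iso_singleFunctor_obj_of_isGE_of_isLE (X⟦m⟧) 0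
  obtain ⟨c⟩ := exists_hdInDEquiv (A := A) Y
  have e2 : Y ≃ₗ[A] M :=
    c.symm.trans ((((DerivedCategory.homologyFunctor (ModuleCat.{u} A) 0).mapIso eY).toLinearEquiv).symm.trans
      ((hdShiftIso X m 0 m (by omega)).trans e))
  exact ⟨eY ≪≫ (DerivedCategory.singleFunctor (ModuleCat.{u} A) 0).mapIso e2.toModuleIso⟩

variable [IsNoetherianRing A] {ω : Dual.D A}

/-- A localization is Gorenstein exactly when one cohomology module survives and it is free of rank one. -/
theorem gorenstein_iff_free_rank_one (hω : Dual.IsDualizing A ω) (P : PrimeSpectrum A) :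
    LocCoh.IsGorensteinLocalRing (Localization.AtPrime P.asIdeal) ↔
      ∃ i : ℤ, (∀ j, j ≠ i → P ∉ Module.support A (Dual.HD A ω j)) ∧
        P ∈ Module.freeLocus A (Dual.HD A ω i) ∧ Module.rankAtStalk (Dual.HD A ω i) P = 1 := by
  haveI : Module.Flat A (Localization.AtPrime P.asIdeal) := IsLocalization.flat _ P.asIdeal.primeCompl
  haveI := KFlatLib.hasLBase (algebraMap A (Localization.AtPrime P.asIdeal))
  have hD := isDualizing_locD P.asIdeal hω
  have eL : ∀ j : ℤ, Nonempty (Dual.HD (Localization.AtPrime P.asIdeal) (locD P.asIdeal ω) j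
      ≃ₗ[Localization.AtPrime P.asIdeal] LocalizedModule P.asIdeal.primeCompl (Dual.HD A ω j)) := fun j => by
    obtain ⟨e⟩ := KFlatLib.exists_hdLBaseLEquiv (B := Localization.AtPrime P.asIdeal) ω j
    exact ⟨e.trans (LocalizedModule.equivTensorProduct P.asIdeal.primeCompl _).symm⟩
  rw [LC.gorenstein_iff_isDualizing]
  constructor
  · intro h
    haveI := KFlatLib.hasLTen (Localization.AtPrime P.asIdeal)
    haveI := KFlatLib.hasRHom (A := Localization.AtPrime P.asIdeal)
    obtain ⟨m, ⟨e⟩⟩ := KFlatLib.exists_iso_shift_of_isDualizing h hD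
    let c : ∀ j : ℤ, Dual.HD (Localization.AtPrime P.asIdeal) (locD P.asIdeal ω) j ≃ₗ[Localization.AtPrime P.asIdeal]
        Dual.HD (Localization.AtPrime P.asIdeal)
          (Dual.inD (Localization.AtPrime P.asIdeal) (Localization.AtPrime P.asIdeal)) (m + j) := fun j =>
      ((DerivedCategory.homologyFunctor (ModuleCat.{u} (Localization.AtPrime P.asIdeal)) j).mapIso e).toLinearEquiv.trans
        (hdShiftIso _ m j (m + j) rfl)
    obtain ⟨cm⟩ := eL (-m)
    obtain ⟨c0⟩ := exists_hdInDEquiv (A := Localization.AtPrime P.asIdeal) (Localization.AtPrime P.asIdeal)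
    have E : Localization.AtPrime P.asIdeal ≃ₗ[Localization.AtPrime P.asIdeal]
        LocalizedModule P.asIdeal.primeCompl (Dual.HD A ω (-m)) :=
      c0.symm.trans (((LinearEquiv.cast (R := Localization.AtPrime P.asIdeal)
        (M := fun k : ℤ => (Dual.HD (Localization.AtPrime P.asIdeal)
          (Dual.inD (Localization.AtPrime P.asIdeal) (Localization.AtPrime P.asIdeal)) k : Type u))
        (show m + -m = 0 by omega)).symm).trans ((c (-m)).symm.trans cm))
    refine ⟨-m, fun j hj => ?_, Module.Free.of_equiv E, E.finrank_eq.symm.trans (Module.finrank_self _)⟩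
    obtain ⟨ej⟩ := eL j
    haveI := subsingleton_hd_inD (A := Localization.AtPrime P.asIdeal) (Localization.AtPrime P.asIdeal)
      (i := m + j) (by omega)
    rw [Module.notMem_support_iff]
    exact ((c j).symm.trans ej).symm.toEquiv.subsingleton
  · rintro ⟨i, hne, hfree, hrk⟩
    haveI : Module.Free (Localization.AtPrime P.asIdeal) (LocalizedModule P.asIdeal.primeCompl (Dual.HD A ω i)) :=
      hfree
    haveI := hω.finite_cohomology i
    obtain ⟨e1⟩ : Nonempty (LocalizedModule P.asIdeal.primeCompl (Dual.HD A ω i) ≃ₗ[Localization.AtPrime P.asIdeal]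
        Localization.AtPrime P.asIdeal) :=
      FiniteDimensional.nonempty_linearEquiv_of_finrank_eq (hrk.trans (Module.finrank_self _).symm)
    obtain ⟨ei⟩ := eL i
    obtain ⟨e⟩ := exists_iso_inD_of_concentrated (locD P.asIdeal ω) i (Localization.AtPrime P.asIdeal)
      (fun j hj => by
        obtain ⟨ej⟩ := eL j
        haveI := Module.notMem_support_iff.1 (hne j hj)
        exact ej.toEquiv.subsingleton) (ei.trans e1)
    exact KFlatLib.isDualizing_of_iso e (KFlatLib.isDualizing_shift hD i)

/-- The Gorenstein locus is open. -/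
theorem isOpen_gorensteinLocus (hω : Dual.IsDualizing A ω) :
    IsOpen {p : PrimeSpectrum A | LocCoh.IsGorensteinLocalRing (Localization.AtPrime p.asIdeal)} := by
  obtain ⟨a, b, hab⟩ := hω.finite_injective_dimension
  have hrange : ∀ (j : ℤ) (p : PrimeSpectrum A), p ∈ Module.support A (Dual.HD A ω j) → j ∈ Finset.Icc a b :=
    fun j p hj => by
      by_contra hc
      rw [Finset.mem_Icc] at hc
      haveI := hab A j (by omega)
      obtain ⟨e⟩ := KFlatLib.exists_homRingLEquiv ω j
      haveI : Subsingleton (Dual.HD A ω j) := e.toEquiv.symm.subsingleton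
      rw [Module.support_eq_empty] at hj
      exact hj
  rw [isOpen_iff_forall_mem_open]
  intro P hP
  obtain ⟨i, hne, hfree, hrk⟩ := (gorenstein_iff_free_rank_one hω P).1 hP
  haveI := hω.finite_cohomology i
  haveI : Module.FinitePresentation A (Dual.HD A ω i) := Module.finitePresentation_of_finite A _
  have hV : IsOpen (Subtype.val '' ((fun x : Module.freeLocus A (Dual.HD A ω i) =>
      Module.rankAtStalk (Dual.HD A ω i) x.1) ⁻¹' {1})) :=
    Module.isOpen_freeLocus.isOpenMap_subtype_val _ (Module.isLocallyConstant_rankAtStalk_freeLocus {1})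
  refine ⟨(⋂ j ∈ (Finset.Icc a b).erase i, (Module.support A (Dual.HD A ω j))ᶜ) ∩ Subtype.val ''
      ((fun x : Module.freeLocus A (Dual.HD A ω i) => Module.rankAtStalk (Dual.HD A ω i) x.1) ⁻¹' {1}),
    fun Q hQ => ?_, ?_, ?_⟩
  · obtain ⟨hQ1, ⟨x, hx, rfl⟩⟩ := hQ
    refine (gorenstein_iff_free_rank_one hω x.1).2 ⟨i, fun j hj hmem => ?_, x.2, hx⟩
    simp only [Set.mem_iInter, Set.mem_compl_iff] at hQ1
    exact hQ1 j (Finset.mem_erase.2 ⟨hj, hrange j _ hmem⟩) hmem
  · refine IsOpen.inter (isOpen_biInter_finset fun j _ => ?_) hV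
    exact (isClosed_support_finite (hω.finite_cohomology j)).isOpen_compl
  · refine ⟨?_, ⟨⟨P, hfree⟩, hrk, rfl⟩⟩
    simp only [Set.mem_iInter, Set.mem_compl_iff]
    exact fun j hj => hne j (Finset.mem_erase.1 hj).1

end Groth.Agent.DualityLC
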