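import Groth.Agent.DualityLC.CMLocus
import Groth.Agent.KFlatLib.Scheme.CohD
import Groth.Agent.LC.LiaisonLocal
import Groth.Prelude.Def_DualSch

/-!
# Dualizing complexes on schemes: stalks of cohomology sheaves, Cohen–Macaulay locus
-/

set_option autoImplicit false
set_option linter.style.haveILetI false
set_option backward.isDefEq.respectTransparency false

universe u

open CategoryTheory CategoryTheory.Limits AlgebraicGeometry

attribute [local instance] HasDerivedCategory.standard

namespace Groth.Agent.DualityLC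

theorem additive_tilde (R : CommRingCat.{u}) : (tilde.functor R).Additive := inferInstance

variable {X : Scheme.{u}}
  [∀ (U : Scheme.{u}) (j : U ⟶ X) [IsOpenImmersion j], PreservesFiniteLimits (Scheme.Modules.restrictFunctor j)]
  [∀ (R : CommRingCat.{u}), PreservesFiniteLimits (tilde.functor R)]

/-- On a chart, the stalk of a cohomology sheaf is a localization of the cohomology module. -/
theorem exists_stalkHDEquiv_aux {R : CommRingCat.{u}} (j : Spec R ⟶ X) [IsOpenImmersion j]
    {K : DCoh.D X} {w : Dual.D R}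
    (e : (DCoh.restrictD j).obj K ≅ (DCoh.tildeD R).obj w) (y : PrimeSpectrum R) (i : ℤ) :
    Nonempty (((DCoh.HD K i).presheaf.stalk (j.base y) : Type u) ≃+
      LocalizedModule y.asIdeal.primeCompl (Dual.HD R w i)) := by
  let N : ModuleCat.{u} R := (DerivedCategory.homologyFunctor (ModuleCat.{u} R) i).obj w
  let i₁ : (Scheme.Modules.restrictFunctor j).obj (DCoh.HD K i) ≅ (tilde.functor R).obj N :=
    ((KFlatLib.mapDCHomologyIso (Scheme.Modules.restrictFunctor j) i).app K).symm ≪≫
      (DerivedCategory.homologyFunctor _ i).mapIso e ≪≫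
        (KFlatLib.mapDCHomologyIso (tilde.functor R) i).app w
  let F : (Spec R).Modules ⥤ Ab.{u} := Scheme.Modules.toPresheaf _ ⋙ TopCat.Presheaf.stalkFunctor Ab.{u} y
  let i₂ : (F.obj ((Scheme.Modules.restrictFunctor j).obj (DCoh.HD K i)) : Type u) ≃+ (F.obj (tilde N) : Type u) :=
    (F.mapIso i₁).addCommGroupIsoToAddEquiv
  let i₃ : ((DCoh.HD K i).presheaf.stalk (j.base y) : Type u) ≃+ (F.obj (tilde N) : Type u) :=
    ((Scheme.Modules.restrictStalkNatIso j y).app _).addCommGroupIsoToAddEquiv.symm.trans i₂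
  exact ⟨i₃.trans (IsLocalizedModule.iso y.asIdeal.primeCompl (tilde.toStalk N y).hom).symm.toAddEquiv⟩

/-- On a chart, the stalk of a cohomology sheaf is a localization of the cohomology module. -/
theorem exists_stalkHDEquiv {A : Type u} [CommRing A] (j : Spec (CommRingCat.of A) ⟶ X) [IsOpenImmersion j]
    {K : DCoh.D X} {w : Dual.D A}
    (e : (DCoh.restrictD j).obj K ≅ (DCoh.tildeD (CommRingCat.of A)).obj w) (y : PrimeSpectrum A) (i : ℤ) :
    Nonempty (((DCoh.HD K i).presheaf.stalk (j.base y) : Type u) ≃+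
      LocalizedModule y.asIdeal.primeCompl (Dual.HD A w i)) :=
  exists_stalkHDEquiv_aux (R := CommRingCat.of A) j e y i

omit [∀ (U : Scheme.{u}) (j : U ⟶ X) [IsOpenImmersion j], PreservesFiniteLimits (Scheme.Modules.restrictFunctor j)]
  [∀ (R : CommRingCat.{u}), PreservesFiniteLimits (tilde.functor R)] in
/-- On a chart, local rings are localizations. -/
theorem cmLocalRing_stalk_iff [IsLocallyNoetherian X] {A : Type u} [CommRing A] [IsNoetherianRing A] (j : Spec (CommRingCat.of A) ⟶ X) [IsOpenImmersion j]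
    (y : PrimeSpectrum A) :
    LocCoh.IsCohenMacaulayLocalRing (X.presheaf.stalk (j.base y)) ↔
      LocCoh.IsCohenMacaulayLocalRing (Localization.AtPrime y.asIdeal) := by
  let e : (X.presheaf.stalk (j.base y) : Type u) ≃+* Localization.AtPrime y.asIdeal :=
    (asIso (j.stalkMap y) ≪≫ Spec.stalkIso (CommRingCat.of A) y).commRingCatIsoToRingEquiv
  haveI : IsNoetherianRing (Localization.AtPrime y.asIdeal) := IsLocalization.isNoetherianRing y.asIdeal.primeCompl _ inferInstance
  exact ⟨fun h => LC.Liaison.isCMLocal_of_ringEquiv e, fun h => LC.Liaison.isCMLocal_of_ringEquiv e.symm⟩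

/-- The Cohen–Macaulay points of a scheme with a dualizing complex. -/
theorem cmLocalRing_stalk_iff_existsUnique [IsLocallyNoetherian X] {K : DCoh.D X}
    (hK : Dual2.IsDualizingSch X K) :
    (∀ x : X, LocCoh.IsCohenMacaulayLocalRing (X.presheaf.stalk x) ↔
      ∃! i : ℤ, Nontrivial ((DCoh.HD K i).presheaf.stalk x)) ∧
    IsOpen {x : X | LocCoh.IsCohenMacaulayLocalRing (X.presheaf.stalk x)} := by
  constructor
  · intro x
    obtain ⟨R, hR, j, hj, y, rfl⟩ := KFlatLib.exists_chart x
    haveI := hR
    haveI := hj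
    obtain ⟨w, hw, ⟨e⟩⟩ := hK R j
    rw [show LocCoh.IsCohenMacaulayLocalRing (X.presheaf.stalk (j.base y)) ↔ _ from cmLocalRing_stalk_iff j y,
      cmLocalRing_iff_existsUnique hw]
    refine existsUnique_congr fun i => ?_
    obtain ⟨e'⟩ := exists_stalkHDEquiv j e y i
    exact e'.toEquiv.nontrivial_congr.symm
  · rw [isOpen_iff_forall_mem_open]
    intro x hx
    obtain ⟨R, hR, j, hj, y, rfl⟩ := KFlatLib.exists_chart x
    haveI := hR
    haveI := hj
    obtain ⟨w, hw, ⟨e⟩⟩ := hK R j
    refine ⟨j.base '' {p | LocCoh.IsCohenMacaulayLocalRing (Localization.AtPrime p.asIdeal)}, ?_,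
      j.isOpenEmbedding.isOpenMap _ (isOpen_cmLocalRingLocus hw), y, (cmLocalRing_stalk_iff j y).1 hx, rfl⟩
    rintro _ ⟨p, hp, rfl⟩
    exact (cmLocalRing_stalk_iff j p).2 hp

end Groth.Agent.DualityLC
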