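import Groth.Agent.DualityLC.DualS2

/-!
# Support and depth of the dualizing module
-/

set_option autoImplicit false
set_option linter.style.haveILetI false
set_option backward.isDefEq.respectTransparency false

universe u v w

open CategoryTheory CategoryTheory.Limits Pretriangulated IsLocalRing RingTheory.Sequence

attribute [local instance] HasDerivedCategory.standard

namespace Groth.Agent.DualityLC

variable {A : Type u} [CommRing A] [IsNoetherianRing A] {ω : Dual.D A}

omit [IsNoetherianRing A] in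
theorem exists_le_extDegree {n : PrimeSpectrum A → ℤ} (hmono : StrictMono n) (P : PrimeSpectrum A) (h : ℕ)
    (hh : P.asIdeal.height = h) : ∃ q : PrimeSpectrum A, q ≤ P ∧ n q + h ≤ n P := by
  rw [PrimeSpectrum.height_eq_orderHeight] at hh
  obtain ⟨l, hlast, hlen⟩ := Order.exists_series_of_height_eq_coe P hh
  have key : ∀ (i : ℕ) (hi : i < l.length + 1), n l.head + i ≤ n (l ⟨i, hi⟩) := by
    intro i
    induction i with
    | zero => intro hi; simp [RelSeries.head]
    | succ i ih =>
      intro hi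
      have h1 := ih (by omega)
      have h2 := hmono (l.step ⟨i, by omega⟩)
      have h2' : n (l ⟨i, by omega⟩) < n (l ⟨i + 1, hi⟩) := h2
      push_cast
      omega
  refine ⟨l.head, hlast ▸ l.head_le_last, ?_⟩
  have h3 := key l.length (by omega)
  have h4 : n (l ⟨l.length, by omega⟩) = n P := congrArg n hlast
  omega

variable [IsLocalRing A]

/-- The bottom cohomology at a prime. -/
theorem mem_support_bottom_iff (hω : Dual.IsDualizing A ω) (hN : Dual.IsNormalized A ω) (d : ℕ)
    (hd : ringKrullDim A = d) (p : PrimeSpectrum A) :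
    p ∈ Module.support A (Dual.HD A ω (-(d : ℤ))) ↔ ∃ q ∈ minimalPrimes A, q ≤ p.asIdeal ∧ ringKrullDim (A ⧸ q) = d := by
  constructor
  · intro hp
    obtain ⟨n, hn, -, hmono, -, hdim⟩ := KFlatLib.exists_normalized_degree hω hN
    obtain ⟨k, δ, hk, hδ⟩ := exists_depth_dim p A (mem_support_self p)
    obtain ⟨hr, -, -⟩ := ext_range_at hω hn p A (mem_support_self p) k δ hk hδ
    obtain ⟨e⟩ := KFlatLib.exists_homRingLEquiv ω (-(d : ℤ))
    have h1 := (hr _ ((nontrivial_localized_congr e).2 (Module.mem_support_iff.1 hp))).1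
    have hht : p.asIdeal.height = δ := by
      rw [Module.supportDim_eq_of_equiv (LC.selfLoc p.asIdeal.primeCompl), Module.supportDim_self_eq_ringKrullDim,
        IsLocalization.AtPrime.ringKrullDim_eq_height p.asIdeal (Localization.AtPrime p.asIdeal)] at hδ
      exact_mod_cast hδ
    obtain ⟨q, hqp, hq⟩ := exists_le_extDegree hmono p δ hht
    obtain ⟨m, hm, hmq⟩ := Ideal.exists_minimalPrimes_le (bot_le : (⊥ : Ideal A) ≤ q.asIdeal)
    haveI := hm.1.1
    obtain ⟨ε, hε, hε'⟩ := hdim ⟨m, inferInstance⟩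
    have h2 : n ⟨m, inferInstance⟩ ≤ n q := hmono.monotone (show (⟨m, inferInstance⟩ : PrimeSpectrum A) ≤ q from hmq)
    have h3 : ε ≤ d := by
      have := ringKrullDim_quotient_le m
      rw [show ringKrullDim (A ⧸ m) = (ε : WithBot ℕ∞) from hε, hd] at this
      exact_mod_cast this
    refine ⟨m, hm, hmq.trans hqp, ?_⟩
    rw [show ringKrullDim (A ⧸ m) = (ε : WithBot ℕ∞) from hε, show ε = d by omega]
  · rintro ⟨q, hq, hqp, hdim⟩
    haveI := hq.1.1
    refine Module.mem_support_mono (p := ⟨q, inferInstance⟩) hqp ?_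
    exact Module.mem_support_iff.2 ((KFlatLib.nontrivial_localized_hd_iff hω hN q hq d hdim _).2 rfl)

/-- The bottom cohomology satisfies (S₂). -/
theorem hasSk_two_bottom (hω : Dual.IsDualizing A ω) (hN : Dual.IsNormalized A ω) (d : ℕ)
    (hd : ringKrullDim A = d) : LocCoh.HasSk 2 A (Dual.HD A ω (-(d : ℤ))) := by
  intro p _
  rcases subsingleton_or_nontrivial (LocalizedModule p.primeCompl (Dual.HD A ω (-(d : ℤ)))) with h | h
  · rw [(Module.supportDim_eq_bot_iff_subsingleton (Localization.AtPrime p) _).2 h]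
    exact (min_le_right _ _).trans bot_le
  let P : PrimeSpectrum A := ⟨p, inferInstance⟩
  obtain ⟨n, hn, -, hmono, -, hdim⟩ := KFlatLib.exists_normalized_degree hω hN
  obtain ⟨k, δ, hk, hδ⟩ := exists_depth_dim P A (mem_support_self P)
  obtain ⟨hr, -, -⟩ := ext_range_at hω hn P A (mem_support_self P) k δ hk hδ
  obtain ⟨e₁⟩ := KFlatLib.exists_homRingLEquiv ω (-(d : ℤ))
  have h1 := (hr _ ((nontrivial_localized_congr e₁).2 h)).1
  rw [Module.supportDim_eq_of_equiv (LC.selfLoc P.asIdeal.primeCompl), Module.supportDim_self_eq_ringKrullDim] at hδ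
  obtain ⟨q, hq, hqp, hdq⟩ := (mem_support_bottom_iff hω hN d hd P).1 (Module.mem_support_iff.2 h)
  haveI := hq.1.1
  -- the dimensions add up
  have h2 : n P - δ = -(d : ℤ) := by
    have hht : P.asIdeal.height = δ := by
      rw [IsLocalization.AtPrime.ringKrullDim_eq_height P.asIdeal (Localization.AtPrime P.asIdeal)] at hδ
      exact_mod_cast hδ
    obtain ⟨q', hqP, hq'⟩ := exists_le_extDegree hmono P δ hht
    obtain ⟨ε, hε, hε'⟩ := hdim q'
    have h4 : ε ≤ d := by
      have := ringKrullDim_quotient_le q'.asIdeal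
      rw [hε, hd] at this
      exact_mod_cast this
    omega
  haveI := KFlatLib.hasLBase (algebraMap A (Localization.AtPrime p))
  haveI : Module.Flat A (Localization.AtPrime p) := IsLocalization.flat _ p.primeCompl
  have hD := KFlatLib.isDualizing_shift (isDualizing_locD p hω) (n P)
  have hDN := isNormalized_locD_shift p hω hn
  obtain ⟨rs, hlen, hreg, hmem⟩ := exists_regularSeq_top_hom hD hDN (Localization.AtPrime p) δ
    (by rw [Module.supportDim_self_eq_ringKrullDim]; exact hδ.le)
  obtain ⟨e₂⟩ := KFlatLib.exists_homRingLEquiv ((locD p ω)⟦n P⟧) (-(δ : ℤ))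
  obtain ⟨e₃⟩ := KFlatLib.exists_hdLBaseLEquiv (B := Localization.AtPrime p) ω (-(d : ℤ))
  let e : (Dual.inD (Localization.AtPrime p) (Localization.AtPrime p) ⟶ ((locD p ω)⟦n P⟧)⟦-(δ : ℤ)⟧)
      ≃ₗ[Localization.AtPrime p] LocalizedModule p.primeCompl (Dual.HD A ω (-(d : ℤ))) :=
    e₂.trans ((hdShiftIso (locD p ω) (n P) (-(δ : ℤ)) (-(d : ℤ)) (by omega)).trans
      (e₃.trans (LocalizedModule.equivTensorProduct p.primeCompl _).symm))
  have h6 := min_le_depth (LocalizedModule p.primeCompl (Dual.HD A ω (-(d : ℤ)))) δ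
    ⟨rs, hlen, (e.isWeaklyRegular_congr rs).1 hreg, hmem⟩
  refine le_trans ?_ (WithBot.coe_le_coe.2 h6)
  refine (min_le_min_left _ (Module.supportDim_le_ringKrullDim _ _)).trans ?_
  rw [hδ]
  rcases le_total 2 δ with h7 | h7
  · rw [min_eq_left h7]; exact min_le_left _ _
  · rw [min_eq_right h7]; exact min_le_right _ _

end Groth.Agent.DualityLC
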