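import Groth.Agent.DualityLC.TildeRHom

/-!
# Affine duality: `RSheafHom(E, L^~) ≅ RHom(K, L)^~` for `E ≅ K^~`
-/

set_option autoImplicit false
set_option linter.style.haveILetI false
set_option backward.isDefEq.respectTransparency false
set_option backward.isDefEq.respectTransparency.types false
set_option maxHeartbeats 1000000

universe u

open CategoryTheory CategoryTheory.Limits AlgebraicGeometry MonoidalCategory

attribute [local instance] HasDerivedCategory.standard
attribute [local instance] Groth.Agent.DualityLC.additive_tilde_functor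

namespace Groth.Agent.DualityLC

open Groth.Agent.KFlatLib Groth.Agent.H9Misc.DRingHomCx

variable {R : CommRingCat.{u}} [IsNoetherianRing R] [PreservesFiniteLimits (tilde.functor R)]

/-- Affine duality. -/
theorem nonempty_RSheafHom_tildeD (K : DRing.Cx R)
    (hK : ∀ i : ℤ, Module.Finite R (Dual.HD R (DRing.toD K) i)) [DRing.HasRHomCx K]
    (L : Dual.D R) (hL : DRing.HasFiniteInjDim R L) (E : CochainComplex (Spec R).Modules ℤ)
    (hE : Nonempty (DCoh.toD (Spec R) E ≅ (DCoh.tildeD R).obj (DRing.toD K)))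
    [DCoh.HasLTensorCx E] [DCoh.HasRSheafHom E] :
    Nonempty ((DCoh.RSheafHom E).obj ((DCoh.tildeD R).obj L) ≅
      (DCoh.tildeD R).obj ((DRing.RHomCx K).obj L)) := by
  obtain ⟨a, b, I, hv, hinj, ⟨eI⟩⟩ := hL
  haveI : I.IsStrictlyGE a := (CochainComplex.isStrictlyGE_iff _ _).2 fun i hi => hv i (Or.inl hi)
  haveI : I.IsStrictlyLE b := (CochainComplex.isStrictlyLE_iff _ _).2 fun i hi => hv i (Or.inr hi)
  haveI : ∀ n, Injective (I.X n) := fun n => by
    haveI := hinj n
    exact Module.injective_object_of_injective_module R (I.X n)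
  haveI : I.IsKInjective := CochainComplex.isKInjective_of_injective I a
  let P := (ringCover R).P.obj K
  let β : P ⟶ K := (ringCover R).ψ.app K
  haveI : QuasiIso β := (ringCover R).quasiIso_ψ K
  haveI : IsIso (DerivedCategory.Q.map β) := (DerivedCategory.isIso_Q_map_iff_quasiIso _ _).2 inferInstance
  haveI := quasiIso_homCxPre_of_isKInjective β I
  haveI : IsIso (DerivedCategory.Q.map (homCxPre β I)) :=
    (DerivedCategory.isIso_Q_map_iff_quasiIso _ _).2 inferInstance
  let eR : (DRing.RHomCx K).obj L ≅ DerivedCategory.Q.obj (DRing.homCx P I) :=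
    (DRing.RHomCx K).mapIso eI.symm ≪≫ (isoOfKInjective K I).symm ≪≫
      asIso (DerivedCategory.Q.map (homCxPre β I))
  let Ef := (tildeCx R).obj P
  obtain ⟨eE⟩ := hE
  let tQ : ∀ N : DRing.Cx R, (DCoh.tildeD R).obj (DerivedCategory.Q.obj N) ≅
      DerivedCategory.Q.obj ((tildeCx R).obj N) :=
    fun N => (tilde.functor R).mapDerivedCategoryFactors.app N
  haveI := KFlatLib.hasLTensorCx Ef
  obtain ⟨eT⟩ := nonempty_LTensorCx_congr_D (P := Ef) (E := E)
    ((tQ P).symm ≪≫ (DCoh.tildeD R).mapIso (asIso (DerivedCategory.Q.map β)) ≪≫ eE.symm)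
  haveI : DCoh.HasRSheafHom Ef := ((DCoh.RSheafHomAdj E).ofNatIsoLeft eT.symm).isLeftAdjoint
  let eH : DCoh.RSheafHom E ≅ DCoh.RSheafHom Ef :=
    ((DCoh.RSheafHomAdj E).ofNatIsoLeft eT.symm).rightAdjointUniq (DCoh.RSheafHomAdj Ef)
  have hPf : ∀ i : ℤ, Module.Finite R (Dual.HD R (DRing.toD P) i) := fun i => by
    haveI := hK i
    exact Module.Finite.equiv ((DerivedCategory.homologyFunctor (ModuleCat.{u} R) i).mapIso
      (asIso (DerivedCategory.Q.map β))).symm.toLinearEquiv
  obtain ⟨e⟩ := nonempty_tilde_RSheafHom_iso P (kFlat_ringRes K) hPf I hinj a b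
  exact ⟨eH.app _ ≪≫ (DCoh.RSheafHom Ef).mapIso ((DCoh.tildeD R).mapIso eI.symm ≪≫ tQ I) ≪≫ e.symm ≪≫
    (DCoh.tildeD R).mapIso eR.symm⟩

end Groth.Agent.DualityLC
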