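import Groth.Agent.LC.Matlis
import Mathlib.RingTheory.AdicCompletion.Algebra
import Mathlib.Logic.Small.Set
import Mathlib.Algebra.Module.Shrink

/-!
# The double Matlis dual of a finite module is its completion
-/

set_option autoImplicit false
set_option linter.style.haveILetI false

universe u v

open CategoryTheory IsLocalRing

namespace Groth.Agent.DualityLC

variable {A : Type u} [CommRing A]

/-- Finite modules are small. -/
theorem exists_small_copy (X : Type v) [AddCommGroup X] [Module A X] [Module.Finite A X] :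
    ∃ (M : Type u) (_ : AddCommGroup M) (_ : Module A M), Nonempty (X ≃ₗ[A] M) := by
  obtain ⟨k, π, hπ⟩ := Module.Finite.exists_fin' A X
  exact ⟨_, inferInstance, inferInstance, ⟨(π.quotKerEquivOfSurjective hπ).symm⟩⟩

variable [IsNoetherianRing A] [IsLocalRing A] {E : Type u} [AddCommGroup E] [Module A E]
  {f : ResidueField A →ₗ[A] E}

theorem exists_bidualEquiv_completion (hf : InjHull.IsInjectiveHull f) (M : Type u) [AddCommGroup M]
    [Module A M] [Module.Finite A M] :
    Nonempty (AdicCompletion (maximalIdeal A) M ≃ₗ[A] ((M →ₗ[A] E) →ₗ[A] E)) := by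
  let J : ℕ → Submodule A M := fun n => maximalIdeal A ^ n • ⊤
  have hfl : ∀ n, IsFiniteLength A (M ⧸ J n) := by
    intro n
    obtain ⟨k, π, hπ⟩ := Module.Finite.exists_fin' A M
    let g : (Fin k → A ⧸ maximalIdeal A ^ n) →ₗ[A] M ⧸ J n :=
      ∑ j, ((maximalIdeal A ^ n).liftQ (LinearMap.toSpanSingleton A _ (Submodule.Quotient.mk (π (Pi.single j 1))))
        (fun a ha => by
          rw [LinearMap.mem_ker, LinearMap.toSpanSingleton_apply, ← Submodule.Quotient.mk_smul,
            Submodule.Quotient.mk_eq_zero]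
          exact Submodule.smul_mem_smul ha trivial)) ∘ₗ LinearMap.proj j
    have hg : Function.Surjective g := by
      intro z
      obtain ⟨m, rfl⟩ := Submodule.Quotient.mk_surjective _ z
      obtain ⟨c, rfl⟩ := hπ m
      refine ⟨fun j => Submodule.Quotient.mk (c j), ?_⟩
      simp only [g, LinearMap.sum_apply, LinearMap.comp_apply, LinearMap.proj_apply, Submodule.liftQ_apply,
        LinearMap.toSpanSingleton_apply]
      rw [← Submodule.mkQ_apply (J n) (π c), ← Finset.univ_sum_single c, map_sum, map_sum]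
      refine Finset.sum_congr rfl fun j _ => ?_
      rw [Submodule.mkQ_apply, ← Submodule.Quotient.mk_smul, ← map_smul, ← Pi.single_smul, Finset.univ_sum_single]
      simp
    haveI : IsNoetherian A (A ⧸ maximalIdeal A ^ n) :=
      (isFiniteLength_iff_isNoetherian_isArtinian.1 (LC.isFiniteLength_quot_pow n)).1
    haveI : IsArtinian A (A ⧸ maximalIdeal A ^ n) :=
      (isFiniteLength_iff_isNoetherian_isArtinian.1 (LC.isFiniteLength_quot_pow n)).2
    exact isFiniteLength_iff_isNoetherian_isArtinian.2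
      ⟨isNoetherian_of_surjective g (LinearMap.range_eq_top.2 hg), isArtinian_of_surjective _ g hg⟩
  let ev : ∀ n, (M ⧸ J n) ≃ₗ[A] ((M ⧸ J n →ₗ[A] E) →ₗ[A] E) := fun n =>
    LinearEquiv.ofBijective _ (LC.applyₗ_bijective_of_isFiniteLength hf _ (hfl n))
  have ev_apply : ∀ n (z : M ⧸ J n) (ψ : M ⧸ J n →ₗ[A] E), ev n z ψ = ψ z := fun _ _ _ => rfl
  -- every form factors through some level
  have hfac : ∀ φ : M →ₗ[A] E, ∃ (n : ℕ) (ψ : M ⧸ J n →ₗ[A] E), ψ ∘ₗ (J n).mkQ = φ := by
    intro φ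
    obtain ⟨k, g, hg⟩ := Submodule.fg_iff_exists_fin_generating_family.1 (Module.Finite.fg_top (R := A) (M := M))
    choose N hN using fun i => LC.hull_isPowerTorsion hf (φ (g i))
    have hker : ∀ a ∈ maximalIdeal A ^ Finset.univ.sup N, a • φ = 0 := fun a ha => by
      refine LinearMap.ext_on hg ?_
      rintro _ ⟨i, rfl⟩
      exact hN i a (Ideal.pow_le_pow_right (Finset.le_sup (Finset.mem_univ i)) ha)
    refine ⟨Finset.univ.sup N, (J _).liftQ φ ?_, Submodule.liftQ_mkQ _ _ _⟩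
    refine Submodule.smul_le.2 fun a ha m _ => ?_
    rw [LinearMap.mem_ker, map_smul, ← LinearMap.smul_apply, hker a ha, LinearMap.zero_apply]
  choose N ψ hψ using hfac
  let trans : ∀ {m n : ℕ}, m ≤ n → (M ⧸ J n →ₗ[A] M ⧸ J m) := fun h =>
    AdicCompletion.transitionMap (maximalIdeal A) M h
  have trans_mkQ : ∀ {m n : ℕ} (h : m ≤ n), trans h ∘ₗ (J n).mkQ = (J m).mkQ :=
    fun h => LinearMap.ext fun x => rfl
  have key : ∀ (ξ : AdicCompletion (maximalIdeal A) M) (φ : M →ₗ[A] E) (n : ℕ) (χ : M ⧸ J n →ₗ[A] E),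
      χ ∘ₗ (J n).mkQ = φ → ψ φ (ξ.1 (N φ)) = χ (ξ.1 n) := by
    intro ξ φ n χ hχ
    have h1 : ψ φ ∘ₗ trans (le_max_left (N φ) n) = χ ∘ₗ trans (le_max_right (N φ) n) := by
      refine Submodule.linearMap_qext _ ?_
      rw [LinearMap.comp_assoc, LinearMap.comp_assoc, trans_mkQ, trans_mkQ, hψ, hχ]
    have h2 := LinearMap.congr_fun h1 (ξ.1 (max (N φ) n))
    simp only [LinearMap.comp_apply, trans] at h2
    rwa [ξ.2, ξ.2] at h2
  let Φ : AdicCompletion (maximalIdeal A) M →ₗ[A] ((M →ₗ[A] E) →ₗ[A] E) :=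
    LinearMap.mk₂ A (fun ξ φ => ψ φ (ξ.1 (N φ)))
      (fun ξ ξ' φ => map_add (ψ φ) (ξ.1 (N φ)) (ξ'.1 (N φ)))
      (fun r ξ φ => map_smul (ψ φ) r (ξ.1 (N φ)))
      (fun ξ φ φ' => by
        rw [key ξ φ (max (N φ) (N φ')) (ψ φ ∘ₗ trans (le_max_left _ _))
            (by rw [LinearMap.comp_assoc, trans_mkQ, hψ]),
          key ξ φ' (max (N φ) (N φ')) (ψ φ' ∘ₗ trans (le_max_right _ _))
            (by rw [LinearMap.comp_assoc, trans_mkQ, hψ]),
          key ξ (φ + φ') (max (N φ) (N φ')) (ψ φ ∘ₗ trans (le_max_left _ _) + ψ φ' ∘ₗ trans (le_max_right _ _))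
            (by rw [LinearMap.add_comp, LinearMap.comp_assoc, LinearMap.comp_assoc, trans_mkQ, trans_mkQ, hψ, hψ])]
        rfl)
      (fun r ξ φ => by
        rw [key ξ (r • φ) (N φ) (r • ψ φ) (by rw [LinearMap.smul_comp, hψ])]
        rfl)
  refine ⟨LinearEquiv.ofBijective Φ ⟨?_, fun θ => ?_⟩⟩
  · rw [injective_iff_map_eq_zero]
    intro ξ hξ
    refine AdicCompletion.ext fun n => (ev n).injective (LinearMap.ext fun χ => ?_)
    rw [ev_apply, ← key ξ _ n χ rfl]
    refine (LinearMap.congr_fun hξ (χ ∘ₗ (J n).mkQ)).trans ?_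
    simp
  · let z : ∀ n, M ⧸ J n := fun n => (ev n).symm (θ ∘ₗ LinearMap.lcomp A E (J n).mkQ)
    have hz : ∀ n (χ : M ⧸ J n →ₗ[A] E), χ (z n) = θ (χ ∘ₗ (J n).mkQ) := fun n χ => by
      have := LinearMap.congr_fun ((ev n).apply_symm_apply (θ ∘ₗ LinearMap.lcomp A E (J n).mkQ)) χ
      rw [ev_apply] at this
      exact this
    refine ⟨⟨z, fun {m n} hmn => (ev m).injective (LinearMap.ext fun χ => ?_)⟩, LinearMap.ext fun φ => ?_⟩
    · rw [ev_apply, ev_apply, hz]
      refine (hz n (χ ∘ₗ trans hmn)).trans ?_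
      rw [LinearMap.comp_assoc, trans_mkQ]
    · show ψ φ (z (N φ)) = θ φ
      rw [hz, hψ]

end Groth.Agent.DualityLC
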