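import Groth.Agent.KFlatLib.Scheme.InnerHom
import Groth.Agent.KFlatLib.Scheme.InnerDevissage
import Groth.Agent.KFlatLib.SymmNat

/-!
# The biduality map of `iHom(-, I)` on complexes of sheaves of modules
-/

set_option autoImplicit false
set_option linter.style.haveILetI false
set_option backward.isDefEq.respectTransparency false

universe u

open CategoryTheory CategoryTheory.Limits AlgebraicGeometry

attribute [local instance] HasDerivedCategory.standard

namespace Groth.Agent.DualityLC

open Groth.Agent.KFlatLib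

variable {X : Scheme.{u}}

/-- The dual `iHom(P, I)`. -/
noncomputable abbrev dualI (I P : CochainComplex X.Modules ℤ) : CochainComplex X.Modules ℤ :=
  (iHom P).obj I

/-- The symmetry of tensor products of complexes of sheaves. -/
noncomputable abbrev braidCx (L K : CochainComplex X.Modules ℤ) :
    (DCoh.tensorCx.obj L).obj K ≅ (DCoh.tensorCx.obj K).obj L :=
  (symmIso (tensorBiFlipIso X) K).app L

/-- The biduality map. -/
noncomputable def bidualI (I P : CochainComplex X.Modules ℤ) : P ⟶ dualI I (dualI I P) :=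
  (iHomAdj (dualI I P)).homEquiv P I ((braidCx P (dualI I P)).hom ≫ (iHomAdj P).counit.app I)

/-- The biduality map, with the inverse symmetry. -/
noncomputable def bidualI' (I P : CochainComplex X.Modules ℤ) : P ⟶ dualI I (dualI I P) :=
  (iHomAdj (dualI I P)).homEquiv P I ((braidCx (dualI I P) P).inv ≫ (iHomAdj P).counit.app I)

/-- The triangle identity. -/
theorem bidualI'_comp (I P : CochainComplex X.Modules ℤ) :
    bidualI' I (dualI I P) ≫ (iHomMap (bidualI I P)).app I = 𝟙 (dualI I P) := by
  let D := dualI I P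
  let η := bidualI I P
  refine ((iHomAdj P).homEquiv D I).symm.injective ?_
  rw [Inner.homEquiv_innerMap, bidualI', Equiv.symm_apply_apply, Adjunction.homEquiv_counit,
    CategoryTheory.Functor.map_id]
  have h1 : (DCoh.tensorCx.obj D).map η ≫ (braidCx (dualI I D) D).inv =
      (braidCx P D).inv ≫ (DCoh.tensorCx.map η).app D := by
    rw [Iso.comp_inv_eq, Category.assoc, Iso.eq_inv_comp]
    exact ((symmIso (tensorBiFlipIso X) D).hom.naturality η).symm
  have h2 : (DCoh.tensorCx.map η).app D ≫ (iHomAdj D).counit.app I =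
      (braidCx P D).hom ≫ (iHomAdj P).counit.app I := by
    refine ((iHomAdj D).homEquiv_counit (g := η)).symm.trans ?_
    exact Equiv.symm_apply_apply _ _
  refine Eq.trans ?_ (Category.id_comp _).symm
  refine ((Category.assoc _ _ _).symm.trans (congrArg (· ≫ _) h1)).trans ?_
  exact (Category.assoc _ _ _).trans ((congrArg ((braidCx P D).inv ≫ ·) h2).trans (Iso.inv_hom_id_assoc _ _))

/-- The degreewise split sequence `P ⟶ Q ⊞ cone(𝟙) ⟶ coker`. -/
theorem exists_split_seq {P Q : CochainComplex X.Modules ℤ} (η : P ⟶ Q) :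
    ∃ (S : ShortComplex (CochainComplex X.Modules ℤ)) (p : S.X₂ ⟶ Q) (i : P ≅ S.X₁), S.ShortExact ∧
      (∀ n, Nonempty (S.map (HomologicalComplex.eval _ _ n)).Splitting) ∧ QuasiIso p ∧ i.hom ≫ S.f ≫ p = η := by
  let C := CochainComplex.mappingCone (𝟙 P)
  let f : P ⟶ Q ⊞ C := biprod.lift η (CochainComplex.mappingCone.inr (𝟙 P))
  let S := ShortComplex.mk f (cokernel.π f) (cokernel.condition f)
  let r : ∀ n, (Q ⊞ C).X n ⟶ P.X n := fun n =>
    (biprod.snd : Q ⊞ C ⟶ C).f n ≫ (CochainComplex.mappingCone.snd (𝟙 P)).v n n (add_zero n)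
  have hr : ∀ n, f.f n ≫ r n = 𝟙 _ := fun n => by
    simp only [r]
    rw [← Category.assoc, ← HomologicalComplex.comp_f, biprod.lift_snd]
    exact CochainComplex.mappingCone.inr_f_snd_v (𝟙 P) n
  have hex : ∀ n, (S.map (HomologicalComplex.eval _ _ n)).Exact := fun n =>
    (ShortComplex.exact_of_g_is_cokernel S (cokernelIsCokernel f)).map _
  haveI : ∀ n, Epi ((S.map (HomologicalComplex.eval _ _ n)).g) := fun n =>
    inferInstanceAs (Epi ((HomologicalComplex.eval _ _ n).map (cokernel.π f)))
  let sp : ∀ n, (S.map (HomologicalComplex.eval _ _ n)).Splitting := fun n =>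
    ShortComplex.Splitting.ofExactOfRetraction _ (hex n) (r n) (hr n) inferInstance
  refine ⟨S, biprod.fst, Iso.refl _, HomologicalComplex.shortExact_of_degreewise_shortExact S
    fun n => (sp n).shortExact, fun n => ⟨sp n⟩, ?_, ?_⟩
  · have hC : Homotopy (𝟙 C) 0 := CochainComplex.mappingCone.homotopyToZeroOfId P
    let h : HomotopyEquiv (Q ⊞ C) Q :=
      { hom := biprod.fst
        inv := biprod.inl
        homotopyHomInvId :=
          ((Homotopy.ofEq (zero_add _).symm).trans
            ((((Homotopy.ofEq (by rw [zero_comp, comp_zero])).trans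
                (((hC.compRight (biprod.inr : C ⟶ Q ⊞ C)).compLeft (biprod.snd : Q ⊞ C ⟶ C)).symm.trans
                  (Homotopy.ofEq (by rw [Category.id_comp])))) :
              Homotopy (0 : Q ⊞ C ⟶ Q ⊞ C) (biprod.snd ≫ biprod.inr)).add
              (Homotopy.refl (biprod.fst ≫ biprod.inl : Q ⊞ C ⟶ Q ⊞ C)))).trans
            (Homotopy.ofEq (by rw [add_comm]; exact biprod.total))
        homotopyInvHomId := Homotopy.ofEq (by simp) }
    exact homotopyEquivalences_le_quasiIso _ _ _ ⟨h, rfl⟩
  · exact (Category.id_comp _).trans (biprod.lift_fst _ _)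

end Groth.Agent.DualityLC
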