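import Groth.Agent.KFlatLib.Ring.HasRHom
import Groth.Agent.H9Misc.DRingHomTensor
import Groth.Agent.H9Misc.DRingHomCxPre

/-!
# The internal hom is the Hom complex, and the two derived homs agree
-/

set_option autoImplicit false
set_option linter.style.haveILetI false
set_option backward.isDefEq.respectTransparency false

universe u

open CategoryTheory CategoryTheory.Limits MonoidalCategory
open CochainComplex.HomComplex
open Groth.Agent.KFlatLib

attribute [local instance] HasDerivedCategory.standard

namespace Groth.Agent.DualityLC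

variable {A : Type u} [CommRing A]

open Groth.Agent.H9Misc.DRingHomTensor

section Adj

variable {P X X' : DRing.Cx A} {I I' : DRing.Cx A}

/-- Maps out of a tensor product as maps into the Hom complex. -/
noncomputable def curryHom (f : (tenCx P).obj X ⟶ I) : X ⟶ DRing.homCx P I :=
  Cocycle.homOf (Cocycle.mk (curry (K := X) (L := P) (Cochain.ofHom f)) 1 (zero_add 1) (by
    apply (curryEquiv X P I 1).injective
    show uncurry (δ 0 (0 + 1) (curry (K := X) (L := P) (Cochain.ofHom f))) = uncurry 0
    rw [← δ_uncurry, uncurry_curry, δ_ofHom]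
    exact (map_zero (curryEquiv X P I 1)).symm))

/-- Maps into the Hom complex as maps out of a tensor product. -/
noncomputable def uncurryHom (g : X ⟶ DRing.homCx P I) : (tenCx P).obj X ⟶ I :=
  Cocycle.homOf (F := (X ⊗ P : DRing.Cx A)) (Cocycle.mk (uncurry (Cochain.ofHom g)) 1 (zero_add 1) (by
    show δ 0 (0 + 1) (uncurry (Cochain.ofHom g)) = 0
    rw [δ_uncurry, δ_ofHom]
    exact map_zero (curryEquiv X P I 1)))

theorem curryHom_f (f : (tenCx P).obj X ⟶ I) (p : ℤ) :
    (curryHom f).f p = (curry (K := X) (L := P) (Cochain.ofHom f)).v p p (add_zero p) := rfl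

theorem uncurryHom_f (g : X ⟶ DRing.homCx P I) (a : ℤ) :
    (uncurryHom g).f a = (uncurry (Cochain.ofHom g)).v a a (add_zero a) := rfl

theorem ofHom_curryHom (f : (tenCx P).obj X ⟶ I) :
    Cochain.ofHom (curryHom f) = curry (K := X) (L := P) (Cochain.ofHom f) :=
  Cocycle.cochain_ofHom_homOf_eq_coe _

theorem ofHom_uncurryHom (g : X ⟶ DRing.homCx P I) :
    Cochain.ofHom (F := (X ⊗ P : DRing.Cx A)) (uncurryHom g) = uncurry (Cochain.ofHom g) :=
  Cocycle.cochain_ofHom_homOf_eq_coe _

/-- The bijection. -/
noncomputable def curryHomEquiv (X P I : DRing.Cx A) : ((tenCx P).obj X ⟶ I) ≃ (X ⟶ DRing.homCx P I) where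
  toFun := curryHom
  invFun := uncurryHom
  left_inv f := by
    apply Cochain.ofHom_injective
    exact (ofHom_uncurryHom (curryHom f)).trans (by rw [ofHom_curryHom, uncurry_curry])
  right_inv g := by
    apply Cochain.ofHom_injective
    rw [ofHom_curryHom]
    exact (congrArg curry (ofHom_uncurryHom g)).trans (curry_uncurry _)

theorem tenCx_map_pure (g : X ⟶ X') (p q a : ℤ) (h : p + q = a) (x : X.X p) (y : P.X q) :
    (((tenCx P).map g).f a).hom (pure X P p q a h x y) = pure X' P p q a h ((g.f p).hom x) y := by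
  have := HomologicalComplex.ι_mapBifunctorMap (f₁ := g) (f₂ := 𝟙 P) (F := curriedTensor (ModuleCat.{u} A))
    (c := ComplexShape.up ℤ) p q a h
  have h' := ConcreteCategory.congr_hom this (x ⊗ₜ[A] y)
  refine h'.trans ?_
  simp [Groth.Agent.H9Misc.DRingHomTensor.pure]
  rfl

variable (P) in
/-- `- ⊗ P` is left adjoint to the Hom complex out of `P`. -/
noncomputable def tenHomAdj : tenCx P ⊣ DRing.homCxFunctor P :=
  Adjunction.mkOfHomEquiv
    { homEquiv := fun X I => curryHomEquiv X P I
      homEquiv_naturality_left_symm := fun {X' X I} g f => by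
        show uncurryHom (g ≫ f) = (tenCx P).map g ≫ uncurryHom f
        refine HomologicalComplex.hom_ext _ _ fun a => hom_ext (K := X') (L := P) fun p q hpq x y => ?_
        change _ = ((uncurryHom f).f a).hom ((((tenCx P).map g).f a).hom _)
        refine Eq.trans ?_ (congrArg ((uncurryHom f).f a).hom (tenCx_map_pure g p q a hpq x y)).symm
        refine (uncurry_pure (Cochain.ofHom (g ≫ f)) p q a a hpq (add_zero a) x y).trans ?_
        refine Eq.trans ?_ (uncurry_pure (Cochain.ofHom f) p q a a hpq (add_zero a) ((g.f p).hom x) y).symm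
        obtain rfl : p + q = a := hpq
        simp only [comp₂, LinearMap.coe_mk, AddHom.coe_mk]
        congr! <;> simp
      homEquiv_naturality_right := fun {X I I'} f k => by
        show curryHom (f ≫ k) = curryHom f ≫ DRing.homCxMap P k
        refine HomologicalComplex.hom_ext _ _ fun p => ModuleCat.hom_ext (LinearMap.ext fun x => ?_)
        refine Cochain.ext (F := P) (G := I') _ _ fun q b hqb => ModuleCat.hom_ext (LinearMap.ext fun y => ?_)
        rw [HomologicalComplex.comp_f, curryHom_f, curryHom_f]
        refine (curry_apply (Cochain.ofHom (f ≫ k)) p p q b (add_zero p) hqb x y).trans ?_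
        change _ = ((show Cochain P I p from ((curry (K := X) (L := P) (Cochain.ofHom f)).v p p _).hom x).comp
          (Cochain.ofHom k) (add_zero p)).v q b hqb y
        rw [Cochain.comp_v _ _ (add_zero p) q b b hqb (add_zero b)]
        obtain rfl : p + q = b := by omega
        simp only [Cochain.ofHom_v, ModuleCat.hom_comp, LinearMap.comp_apply, HomologicalComplex.comp_f]
        congr 1 }

/-- The internal hom is the Hom complex. -/
noncomputable def innerHomIso (P : DRing.Cx A) : innerHom P ≅ DRing.homCxFunctor P :=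
  (innerAdj P).rightAdjointUniq (tenHomAdj P)

end Adj

open Groth.Agent.H9Misc.DRingHomCx in
/-- The two derived homs agree. -/
theorem exists_rhomCxIso [DTen.HasLTen A] [DTen.HasRHom A] (K : DRing.Cx A) [DRing.HasRHomCx K] (X : Dual.D A) :
    Nonempty ((DRing.RHomCx K).obj X ≅ (DTen.RHomR A (DerivedCategory.Q.obj K)).obj X) := by
  let P := (ringCover A).P.obj K
  let β : P ⟶ K := (ringCover A).ψ.app K
  haveI : QuasiIso β := (ringCover A).quasiIso_ψ K
  obtain ⟨J, s, hJ, hs, -, hinj⟩ := TriCat.exists_kInjective_resolution'.{u} (DerivedCategory.Q.objPreimage X)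
  haveI := hJ
  haveI := hs
  haveI := hinj
  let eJ : X ≅ DerivedCategory.Q.obj J :=
    (DerivedCategory.Q.objObjPreimageIso X).symm ≪≫ asIso (DerivedCategory.Q.map s)
  haveI := isIso_innerCmp (kFlat_ringRes K) J
  haveI : IsIso (DerivedCategory.Q.map β) := (DerivedCategory.isIso_Q_map_iff_quasiIso _ _).2 inferInstance
  haveI := quasiIso_homCxPre_of_isKInjective β J
  exact ⟨(DRing.RHomCx K).mapIso eJ ≪≫ (isoOfKInjective K J).symm ≪≫
    asIso (DerivedCategory.Q.map (homCxPre β J)) ≪≫
    DerivedCategory.Q.mapIso ((innerHomIso P).app J).symm ≪≫ asIso (innerCmp P J) ≪≫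
    ((DTen.RHom A).mapIso (asIso (DerivedCategory.Q.map β)).op).symm.app _ ≪≫
    (DTen.RHomR A (DerivedCategory.Q.obj K)).mapIso eJ.symm⟩

end Groth.Agent.DualityLC
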