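import Groth.Agent.DualityLC.BidualGen
import Groth.Agent.DualityLC.AffineDuality
import Groth.Agent.KZ.PerfCoh
import Groth.Agent.QCoh.Stalk
import Groth.Agent.S1819
import Groth.Prelude.Def_DualSch

/-!
# Biduality for a dualizing complex on a scheme
-/

set_option autoImplicit false
set_option linter.style.haveILetI false
set_option backward.isDefEq.respectTransparency false
set_option maxHeartbeats 1000000

universe u

open CategoryTheory CategoryTheory.Limits AlgebraicGeometry CategoryTheory.Pretriangulated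
open scoped ZeroObject

attribute [local instance] HasDerivedCategory.standard

namespace Groth.Agent.DualityLC

open Groth.Agent.KFlatLib

variable {X : Scheme.{u}}

lemma iHomMap_comp {P Q R I : CochainComplex X.Modules ℤ} (f : P ⟶ Q) (g : Q ⟶ R) :
    (iHomMap g).app I ≫ (iHomMap f).app I = (iHomMap (f ≫ g)).app I := by
  refine ((iHomAdj P).homEquiv _ _).symm.injective ?_
  have h1 := Inner.homEquiv_innerMap (DCoh.tensorBi (X := X)) g (𝟙 ((iHom R).obj I))
  have h2 := Inner.homEquiv_innerMap (DCoh.tensorBi (X := X)) (f ≫ g) (𝟙 ((iHom R).obj I))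
  rw [Category.id_comp] at h1 h2
  rw [Inner.homEquiv_innerMap, h1, h2, Functor.map_comp, NatTrans.comp_app, Category.assoc]

/-- Restriction of a dual to an affine open. -/
theorem nonempty_rho_dualI {A : Type u} [CommRing A] [IsNoetherianRing A]
    [PreservesFiniteLimits (tilde.functor (CommRingCat.of A))]
    (j : Spec (CommRingCat.of A) ⟶ X) [IsOpenImmersion j]
    (I : CochainComplex X.Modules ℤ) [I.IsKInjective] [∀ n, Injective (I.X n)]
    (ω : Dual.D A) (hω : Dual.IsDualizing A ω)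
    (eω : (rho j).obj (DerivedCategory.Q.obj I) ≅ (DCoh.tildeD (CommRingCat.of A)).obj ω)
    (P : CochainComplex X.Modules ℤ) (K₀ : DRing.Cx A) [DRing.HasRHomCx K₀]
    (hK₀ : ∀ i : ℤ, Module.Finite A (Dual.HD A (DRing.toD K₀) i))
    (e : (rho j).obj (DerivedCategory.Q.obj P) ≅ (DCoh.tildeD (CommRingCat.of A)).obj (DRing.toD K₀)) :
    Nonempty ((rho j).obj (DerivedCategory.Q.obj (dualI I P)) ≅
      (DCoh.tildeD (CommRingCat.of A)).obj ((DRing.RHomCx K₀).obj ω)) := by
  let E := (rCx j).obj P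
  let J := (rCx j).obj I
  haveI : J.IsKInjective := isKInjective_rCx j I
  haveI : ∀ n, Injective (J.X n) := injective_rCx j I
  haveI := hasLTensorCx E
  haveI := DEqT.hasRSheafHom E
  obtain ⟨e₁⟩ := nonempty_rho_iHom j P I
  obtain ⟨e₂⟩ := nonempty_RSheafHom_iso E J
  obtain ⟨e₃⟩ := nonempty_RSheafHom_tildeD (R := CommRingCat.of A) K₀ hK₀ ω
    (finiteInjDim_of_isDualizing hω) E ⟨((rhoQ j).app P).symm ≪≫ e⟩
  exact ⟨e₁ ≪≫ e₂.symm ≪≫ (DCoh.RSheafHom E).mapIso (((rhoQ j).app I).symm ≪≫ eω) ≪≫ e₃⟩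

/-- A split monomorphism between isomorphic finite modules over a Noetherian ring is an isomorphism. -/
lemma isIso_of_retraction_finite {R : Type u} [CommRing R] [IsNoetherianRing R] {M N : ModuleCat.{u} R}
    [Module.Finite R M] (f : M ⟶ N) (r : N ⟶ M) (h : f ≫ r = 𝟙 M) (e : N ≅ M) : IsIso r := by
  have hs : Function.Surjective r.hom := fun m => ⟨f.hom m, congr($h m)⟩
  have hi : Function.Injective (r.hom ∘ₗ e.inv.hom : M →ₗ[R] M) :=
    OrzechProperty.injective_of_surjective_endomorphism _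
      (hs.comp (ConcreteCategory.bijective_of_isIso e.inv).2)
  refine (ConcreteCategory.isIso_iff_bijective r).2 ⟨fun a b hab => ?_, hs⟩
  obtain ⟨a', rfl⟩ := (ConcreteCategory.bijective_of_isIso e.inv).2 a
  obtain ⟨b', rfl⟩ := (ConcreteCategory.bijective_of_isIso e.inv).2 b
  exact congrArg _ (hi hab)

lemma isIso_of_restrict_cover {M N : X.Modules} (φ : M ⟶ N)
    (h : ∀ x : X, ∃ (U : Scheme.{u}) (j : U ⟶ X) (_ : IsOpenImmersion j),
      x ∈ Set.range j.base ∧ IsIso ((Scheme.Modules.restrictFunctor j).map φ)) : IsIso φ := by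
  haveI : Mono φ := Preadditive.mono_of_isZero_kernel φ (isZero_of_stalk _ fun x => by
    obtain ⟨U, j, _, ⟨u', rfl⟩, hj⟩ := h x
    haveI := hj
    exact isZero_stalk_of_restrict j u' ((DerSch.stalkFunctor U u').map_isZero
      ((isZero_kernel_of_mono ((Scheme.Modules.restrictFunctor j).map φ)).of_iso
        (PreservesKernel.iso (Scheme.Modules.restrictFunctor j) φ))))
  haveI : Epi φ := Preadditive.epi_of_isZero_cokernel φ (isZero_of_stalk _ fun x => by
    obtain ⟨U, j, _, ⟨u', rfl⟩, hj⟩ := h x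
    haveI := hj
    exact isZero_stalk_of_restrict j u' ((DerSch.stalkFunctor U u').map_isZero
      ((isZero_cokernel_of_epi ((Scheme.Modules.restrictFunctor j).map φ)).of_iso
        (PreservesCokernel.iso (Scheme.Modules.restrictFunctor j) φ))))
  exact isIso_of_mono_of_epi φ

/-- A retraction between locally isomorphic coherent modules is an isomorphism. -/
lemma isIso_of_retraction_coh [IsLocallyNoetherian X] {M N : X.Modules} (f : M ⟶ N) (r : N ⟶ M)
    (h : f ≫ r = 𝟙 M) (hM : Coh.IsCoh M)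
    (he : ∀ x : X, ∃ (U : Scheme.{u}) (j : U ⟶ X) (_ : IsOpenImmersion j),
      x ∈ Set.range j.base ∧ Nonempty (N.restrict j ≅ M.restrict j)) : IsIso r := by
  refine isIso_of_restrict_cover r fun x => ?_
  obtain ⟨U, j, _, hx, ⟨e⟩⟩ := he x
  refine ⟨U, j, inferInstance, hx, ?_⟩
  haveI : IsLocallyNoetherian U := isLocallyNoetherian_of_isOpenImmersion j
  let R := Scheme.Modules.restrictFunctor j
  have hc : Coh.IsCoh (R.obj M) := isCoh_restrict j hM
  haveI hst : ∀ v : U, IsIso ((DerSch.stalkFunctor U v).map (R.map r)) := fun v => by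
    haveI : Module.Finite (U.presheaf.stalk v) ((DerSch.stalkFunctor U v).obj (R.obj M)) :=
      QCoh.finite_stalk_of_isFT hc.1 hc.2 v
    refine isIso_of_retraction_finite ((DerSch.stalkFunctor U v).map (R.map f)) _ ?_
      ((DerSch.stalkFunctor U v).mapIso e)
    rw [← Functor.map_comp, ← Functor.map_comp, h, CategoryTheory.Functor.map_id,
      CategoryTheory.Functor.map_id]
  haveI : Mono (R.map r) := Preadditive.mono_of_isZero_kernel _ (isZero_of_stalk _ fun v =>
    haveI := hst v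
    (isZero_kernel_of_mono ((DerSch.stalkFunctor U v).map (R.map r))).of_iso
      (PreservesKernel.iso (DerSch.stalkFunctor U v) (R.map r)))
  haveI : Epi (R.map r) := Preadditive.epi_of_isZero_cokernel _ (isZero_of_stalk _ fun v =>
    haveI := hst v
    (isZero_cokernel_of_epi ((DerSch.stalkFunctor U v).map (R.map r))).of_iso
      (PreservesCokernel.iso (DerSch.stalkFunctor U v) (R.map r)))
  exact isIso_of_mono_of_epi _

variable [IsLocallyNoetherian X]
  [∀ (U : Scheme.{u}) (j : U ⟶ X) [IsOpenImmersion j], PreservesFiniteLimits (Scheme.Modules.restrictFunctor j)]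
  [∀ (R : CommRingCat.{u}), PreservesFiniteLimits (tilde.functor R)]
  {K : DCoh.D X} (hK : Dual2.IsDualizingSch X K)
  {I : CochainComplex X.Modules ℤ} [I.IsKInjective] [∀ n, Injective (I.X n)]
  (eI : K ≅ DerivedCategory.Q.obj I)

include hK eI in
/-- The local form of coherence and biduality. -/
theorem exists_local_bidual (P : CochainComplex X.Modules ℤ)
    (hP : DCoh.IsCohD (DCoh.toD X P)) (x : X) :
    ∃ (U : Scheme.{u}) (j : U ⟶ X) (_ : IsOpenImmersion j), x ∈ Set.range j.base ∧
      DCoh.IsCohD ((rho j).obj (DerivedCategory.Q.obj (dualI I P))) ∧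
      Nonempty ((rho j).obj (DerivedCategory.Q.obj (dualI I (dualI I P))) ≅
        (rho j).obj (DerivedCategory.Q.obj P)) := by
  obtain ⟨V, hV, hxV, -⟩ := exists_isAffineOpen_mem_and_subset (X := X) (x := x) (U := ⊤) trivial
  let A : Type u := Γ(X, V)
  let j : Spec (CommRingCat.of A) ⟶ X := hV.fromSpec
  haveI : IsOpenImmersion j := inferInstanceAs (IsOpenImmersion hV.fromSpec)
  haveI : IsLocallyNoetherian (Spec (CommRingCat.of A)) := isLocallyNoetherian_of_isOpenImmersion j
  haveI : IsNoetherianRing A := isLocallyNoetherian_Spec.1 ‹IsLocallyNoetherian (Spec (CommRingCat.of A))›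
  haveI : IsNoetherianRing (CommRingCat.of A) := ‹IsNoetherianRing A›
  refine ⟨_, j, inferInstance, by rw [show Set.range j.base = (V : Set X) from hV.range_fromSpec]; exact hxV, ?_⟩
  obtain ⟨ω, hω, ⟨eω'⟩⟩ := hK A j
  let eω : (rho j).obj (DerivedCategory.Q.obj I) ≅ (DCoh.tildeD (CommRingCat.of A)).obj ω :=
    (rho j).mapIso eI.symm ≪≫ eω'
  have hc : DCoh.IsCohD ((rho j).obj (DerivedCategory.Q.obj P)) := isCohD_rho j hP
  obtain ⟨M, ⟨eM⟩⟩ := exists_tildeD_iso fun i => (hc i).1
  let K₀ : DRing.Cx A := DerivedCategory.Q.objPreimage M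
  let e₀ : (rho j).obj (DerivedCategory.Q.obj P) ≅ (DCoh.tildeD (CommRingCat.of A)).obj (DRing.toD K₀) :=
    eM.symm ≪≫ (DCoh.tildeD (CommRingCat.of A)).mapIso (DerivedCategory.Q.objObjPreimageIso M).symm
  have hK₀ : ∀ i : ℤ, Module.Finite A (Dual.HD A (DRing.toD K₀) i) := fun i => by
    haveI := additive_tilde_functor (CommRingCat.of A)
    refine (isCoh_tilde_iff (R := CommRingCat.of A) _).1 ?_
    exact QCohAb92.isCoh_of_iso' ((mapDCHomologyIso (tilde.functor (CommRingCat.of A)) i).app _)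
      (isCohD_of_iso e₀ hc i)
  haveI := H9Misc.DRingHomCx.hasRHomCx K₀
  obtain ⟨hfin, hbi⟩ := S1819.result A ω hω K₀ hK₀
  obtain ⟨eD⟩ := nonempty_rho_dualI j I ω hω eω P K₀ hK₀ e₀
  let K₁ : DRing.Cx A := DerivedCategory.Q.objPreimage ((DRing.RHomCx K₀).obj ω)
  let e₁ : DRing.toD K₁ ≅ (DRing.RHomCx K₀).obj ω := DerivedCategory.Q.objObjPreimageIso _
  have hK₁ : ∀ i : ℤ, Module.Finite A (Dual.HD A (DRing.toD K₁) i) := fun i => by
    haveI := hfin i
    exact Module.Finite.equiv ((DerivedCategory.homologyFunctor (ModuleCat.{u} A) i).mapIso e₁).symm.toLinearEquiv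
  haveI := H9Misc.DRingHomCx.hasRHomCx K₁
  obtain ⟨eB⟩ := hbi K₁ ⟨e₁⟩
  obtain ⟨eDD⟩ := nonempty_rho_dualI j I ω hω eω (dualI I P) K₁ hK₁
    (eD ≪≫ (DCoh.tildeD (CommRingCat.of A)).mapIso e₁.symm)
  exact ⟨isCohD_of_iso eD.symm (isCohD_tildeD_of_finite (R := CommRingCat.of A) _ hfin),
    ⟨eDD ≪≫ (DCoh.tildeD (CommRingCat.of A)).mapIso eB ≪≫ e₀.symm⟩⟩

include hK eI in
/-- The dual of a complex with coherent cohomology has coherent cohomology. -/
theorem isCohD_dualI (P : CochainComplex X.Modules ℤ) (hP : DCoh.IsCohD (DCoh.toD X P)) :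
    DCoh.IsCohD (DCoh.toD X (dualI I P)) := fun i =>
  KZ.isCoh_of_local fun x => by
    obtain ⟨U, j, hj, hx, hc, -⟩ := exists_local_bidual hK eI P hP x
    exact ⟨U, j, hj, hx, QCohAb92.isCoh_of_iso' (restrictHDIso j _ i) (hc i)⟩

include hK eI in
/-- `D(η)` is a quasi-isomorphism. -/
theorem quasiIso_dual_bidual (P : CochainComplex X.Modules ℤ) (hP : DCoh.IsCohD (DCoh.toD X P)) :
    QuasiIso ((iHomMap (bidualI I P)).app I) := by
  refine (DerivedCategory.isIso_Q_map_iff_quasiIso _ _).1 ((DerivedCategory.isIso_iff _ _).2 fun i => ?_)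
  let H := DerivedCategory.homologyFunctor X.Modules i
  have hD := isCohD_dualI hK eI P hP
  refine isIso_of_retraction_coh (H.map (DerivedCategory.Q.map (bidualI' I (dualI I P)))) _ ?_ (hD i) fun x => ?_
  · rw [← Functor.map_comp, ← Functor.map_comp, bidualI'_comp, CategoryTheory.Functor.map_id,
      CategoryTheory.Functor.map_id]
  · obtain ⟨U, j, hj, hx, -, ⟨e⟩⟩ := exists_local_bidual hK eI (dualI I P) hD x
    exact ⟨U, j, hj, hx, ⟨(restrictHDIso j _ i).symm ≪≫
      (DerivedCategory.homologyFunctor U.Modules i).mapIso e ≪≫ restrictHDIso j _ i⟩⟩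

include hK eI in
/-- Biduality. -/
theorem quasiIso_bidualI (P : CochainComplex X.Modules ℤ) (hP : DCoh.IsCohD (DCoh.toD X P)) :
    QuasiIso (bidualI I P) := by
  obtain ⟨S, p, e, hS, hsp, hp, he⟩ := exists_split_seq (bidualI I P)
  haveI := hp
  haveI := quasiIso_dual_bidual hK eI P hP
  haveI := quasiIso_iHomMap p I
  obtain ⟨hz, hse⟩ := Inner.innerHom_shortExact (DCoh.tensorBi (X := X)) S hsp I
  have hcomp : (iHomMap p).app I ≫ (iHomMap S.f).app I ≫ (iHomMap e.hom).app I =
      (iHomMap (bidualI I P)).app I := by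
    rw [iHomMap_comp, iHomMap_comp, ← he, Category.assoc]
  haveI := quasiIso_iHomMap e.hom I
  haveI hSf : QuasiIso ((iHomMap S.f).app I) := by
    haveI : QuasiIso ((iHomMap S.f).app I ≫ (iHomMap e.hom).app I) :=
      (quasiIso_iff_comp_left ((iHomMap p).app I) _).1 (hcomp ▸ inferInstance)
    exact (quasiIso_iff_comp_right _ ((iHomMap e.hom).app I)).1 inferInstance
  have hDX : ∀ n, IsZero (((iHom S.X₃).obj I).homology n) := fun n => by
    have hf : IsIso (HomologicalComplex.homologyMap ((iHomMap S.f).app I) n) := inferInstance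
    have hm : IsIso (HomologicalComplex.homologyMap ((iHomMap S.f).app I) (n - 1)) := inferInstance
    exact (hse.homology_exact₁ (n - 1) n (by simp)).isZero_of_both_zeros
      ((hse.homology_exact₃ (n - 1) n (by simp)).epi_f_iff.1 (show Epi _ by infer_instance))
      ((hse.homology_exact₂ n).mono_g_iff.1 (show Mono _ by infer_instance))
  have hcX : DCoh.IsCohD (DCoh.toD X S.X₃) := by
    have h₁ : DCoh.IsCohD (DCoh.toD X S.X₁) := isCohD_of_iso (DerivedCategory.Q.mapIso e) hP
    have h₂ : DCoh.IsCohD (DCoh.toD X S.X₂) :=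
      isCohD_of_iso (@asIso _ _ _ _ (DerivedCategory.Q.map p) (isIso_Q_map p hp)).symm
        (isCohD_dualI hK eI _ (isCohD_dualI hK eI P hP))
    exact isCohD_obj₂ (rot_of_distTriang _ (DerivedCategory.triangleOfSES_distinguished hS)) h₂
      (isCohD_shift h₁ 1)
  have hX₃ : ∀ n, IsZero (S.X₃.homology n) := fun n => isZero_of_stalk _ fun x => by
    obtain ⟨U, j, _, ⟨u', rfl⟩, -, ⟨e'⟩⟩ := exists_local_bidual hK eI S.X₃ hcX x
    haveI : QuasiIso (0 : (iHom S.X₃).obj I ⟶ 0) := by
      refine ⟨fun i => (quasiIsoAt_iff_isIso_homologyMap _ i).2 ?_⟩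
      exact IsZero.isIso (hDX i) (ShortComplex.isZero_homology_of_isZero_X₂ _
        ((HomologicalComplex.eval X.Modules (ComplexShape.up ℤ) i).map_isZero (isZero_zero _))) _
    haveI := quasiIso_iHomMap (0 : (iHom S.X₃).obj I ⟶ 0) I
    have h0 : IsZero (DerivedCategory.Q.obj (dualI I (dualI I S.X₃)) : DCoh.D X) :=
      (DerivedCategory.Q.map_isZero (isZero_iHom (isZero_zero _) I)).of_iso
        (@asIso _ _ _ _ _ (isIso_Q_map ((iHomMap (0 : (iHom S.X₃).obj I ⟶ 0)).app I) inferInstance)).symm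
    have h1 : IsZero ((Scheme.Modules.restrictFunctor j).obj (DCoh.HD (DCoh.toD X S.X₃) n)) :=
      ((DerivedCategory.homologyFunctor U.Modules n).map_isZero (((rho j).map_isZero h0).of_iso e'.symm)).of_iso
        (restrictHDIso j _ n).symm
    exact isZero_stalk_of_restrict j u' ((DerSch.stalkFunctor U u').map_isZero
      (h1.of_iso ((Scheme.Modules.restrictFunctor j).mapIso
        ((DerivedCategory.homologyFunctorFactors _ n).app S.X₃).symm)))
  haveI : QuasiIso S.f := ⟨fun n => (quasiIsoAt_iff_isIso_homologyMap _ n).2 (by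
    haveI : Epi (HomologicalComplex.homologyMap S.f n) :=
      (hS.homology_exact₂ n).epi_f ((hX₃ n).eq_of_tgt _ _)
    haveI : Mono (HomologicalComplex.homologyMap S.f n) :=
      (hS.homology_exact₁ (n - 1) n (by simp)).mono_g ((hX₃ (n - 1)).eq_of_src _ _)
    exact isIso_of_mono_of_epi _)⟩
  rw [← he]
  infer_instance

end Groth.Agent.DualityLC
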