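import Groth.Agent.DualityLC.Localize
import Groth.Agent.LC.DualCM
import Mathlib.RingTheory.Spectrum.Prime.FreeLocus

/-!
# The Cohen–Macaulay and Gorenstein loci in the presence of a dualizing complex
-/

set_option autoImplicit false
set_option linter.style.haveILetI false
set_option backward.isDefEq.respectTransparency false

universe u v w

open CategoryTheory CategoryTheory.Limits Pretriangulated IsLocalRing

attribute [local instance] HasDerivedCategory.standard

namespace Groth.Agent.DualityLC

variable {A : Type u} [CommRing A]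

theorem subsingleton_localized_congr {S : Submonoid A} {X : Type v} {Y : Type w} [AddCommGroup X] [Module A X]
    [AddCommGroup Y] [Module A Y] (e : X ≃ₗ[A] Y) (h : Subsingleton (LocalizedModule S X)) :
    Subsingleton (LocalizedModule S Y) :=
  LocalizedModule.subsingleton_iff.2 fun y => by
    obtain ⟨r, hr, hrx⟩ := LocalizedModule.subsingleton_iff.1 h (e.symm y)
    exact ⟨r, hr, e.symm.injective (by rw [map_smul, hrx, map_zero])⟩

theorem nontrivial_localized_congr {S : Submonoid A} {X : Type v} {Y : Type w} [AddCommGroup X] [Module A X]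
    [AddCommGroup Y] [Module A Y] (e : X ≃ₗ[A] Y) :
    Nontrivial (LocalizedModule S X) ↔ Nontrivial (LocalizedModule S Y) := by
  rw [← not_subsingleton_iff_nontrivial, ← not_subsingleton_iff_nontrivial]
  exact not_congr ⟨subsingleton_localized_congr e, subsingleton_localized_congr e.symm⟩

variable [IsNoetherianRing A] {ω : Dual.D A}

/-- A localized module is Cohen–Macaulay exactly when one localized Ext survives. -/
theorem cm_iff_existsUnique (hω : Dual.IsDualizing A ω) (P : PrimeSpectrum A) (M : Type u) [AddCommGroup M]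
    [Module A M] [Module.Finite A M] (hP : P ∈ Module.support A M) :
    LocCoh.IsCohenMacaulayModule (Localization.AtPrime P.asIdeal) (LocalizedModule P.asIdeal.primeCompl M) ↔
      ∃! i : ℤ, Nontrivial (LocalizedModule P.asIdeal.primeCompl (Dual.inD A M ⟶ ω⟦i⟧)) := by
  obtain ⟨n, hn, -, -, -⟩ := KFlatLib.exists_extDegree hω
  obtain ⟨k, d, hk, hd⟩ := exists_depth_dim P M hP
  obtain ⟨hr, h1, h2⟩ := ext_range_at hω hn P M hP k d hk hd
  unfold LocCoh.IsCohenMacaulayModule
  rw [hk, hd]
  constructor
  · intro h
    obtain rfl : d = k := by exact_mod_cast h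
    exact ⟨_, h1, fun i hi => by have := hr i hi; omega⟩
  · rintro ⟨i, -, hu⟩
    have e1 := hu _ h1
    have e2 := hu _ h2
    have : d = k := by omega
    rw [this]
    rfl

/-- A localization is a Cohen–Macaulay local ring exactly when one cohomology module survives. -/
theorem cmLocalRing_iff_existsUnique (hω : Dual.IsDualizing A ω) (P : PrimeSpectrum A) :
    LocCoh.IsCohenMacaulayLocalRing (Localization.AtPrime P.asIdeal) ↔
      ∃! i : ℤ, Nontrivial (LocalizedModule P.asIdeal.primeCompl (Dual.HD A ω i)) := by
  have hP : P ∈ Module.support A A := by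
    rw [Module.support_eq_zeroLocus, Module.annihilator_eq_bot.2 inferInstance]
    simp
  have hmod : LocCoh.IsCohenMacaulayLocalRing (Localization.AtPrime P.asIdeal) ↔
      LocCoh.IsCohenMacaulayModule (Localization.AtPrime P.asIdeal) (LocalizedModule P.asIdeal.primeCompl A) := by
    unfold LocCoh.IsCohenMacaulayModule
    rw [Module.supportDim_eq_of_equiv (LC.selfLoc P.asIdeal.primeCompl),
      show LocCoh.depth (Localization.AtPrime P.asIdeal) (LocalizedModule P.asIdeal.primeCompl A) =
        LocCoh.depth (Localization.AtPrime P.asIdeal) (Localization.AtPrime P.asIdeal) from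
          LC.idealDepth_congr _ (LC.selfLoc P.asIdeal.primeCompl)]
    exact ⟨fun h => h.supportDim_eq_depth, fun h => { supportDim_eq_depth := h }⟩
  rw [hmod, cm_iff_existsUnique hω P A hP]
  refine existsUnique_congr fun i => ?_
  obtain ⟨e⟩ := KFlatLib.exists_homRingLEquiv ω i
  exact nontrivial_localized_congr e

omit [IsNoetherianRing A] in
theorem isClosed_support_finite {X : Type v} [AddCommGroup X] [Module A X] (hX : Module.Finite A X) :
    IsClosed (Module.support A X) := by
  rw [Module.support_eq_zeroLocus]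
  exact PrimeSpectrum.isClosed_zeroLocus _

/-- The Cohen–Macaulay locus of a module is open. -/
theorem isOpen_cmLocus (hω : Dual.IsDualizing A ω) (M : Type u) [AddCommGroup M] [Module A M] [Module.Finite A M] :
    IsOpen {p : PrimeSpectrum A | Subsingleton (LocalizedModule p.asIdeal.primeCompl M) ∨
      LocCoh.IsCohenMacaulayModule (Localization.AtPrime p.asIdeal) (LocalizedModule p.asIdeal.primeCompl M)} := by
  obtain ⟨a, b, hab⟩ := hω.finite_injective_dimension
  obtain ⟨a', b', -, _, _⟩ := KFlatLib.exists_bounds_of_isDualizing hω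
  let S : ℤ → Set (PrimeSpectrum A) := fun i => Module.support A (Dual.inD A M ⟶ ω⟦i⟧)
  have hfin : ∀ i : ℤ, Module.Finite A (Dual.inD A M ⟶ ω⟦i⟧) := fun i =>
    KFlatLib.finite_hom_module ω a' hω.finite_cohomology M i
  rw [← isClosed_compl_iff]
  have heq : {p : PrimeSpectrum A | Subsingleton (LocalizedModule p.asIdeal.primeCompl M) ∨
      LocCoh.IsCohenMacaulayModule (Localization.AtPrime p.asIdeal) (LocalizedModule p.asIdeal.primeCompl M)}ᶜ =
      ⋃ i ∈ Finset.Icc a b, ⋃ j ∈ (Finset.Icc a b).erase i, S i ∩ S j := by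
    ext p
    simp only [Set.mem_compl_iff, Set.mem_ofPred_eq, not_or, Set.mem_iUnion, Set.mem_inter_iff, S,
      Finset.mem_erase, Finset.mem_Icc]
    have hrange : ∀ i : ℤ, p ∈ Module.support A (Dual.inD A M ⟶ ω⟦i⟧) → a ≤ i ∧ i ≤ b := fun i hi => by
      by_contra hc
      haveI := hab M i (by omega)
      rw [Module.support_eq_empty] at hi
      exact hi
    constructor
    · rintro ⟨hns, hcm⟩
      have hP : p ∈ Module.support A M := Module.mem_support_iff.2 (not_subsingleton_iff_nontrivial.1 hns)
      rw [cm_iff_existsUnique hω p M hP] at hcm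
      obtain ⟨n, hn, -, -, -⟩ := KFlatLib.exists_extDegree hω
      obtain ⟨k, d, hk, hd⟩ := exists_depth_dim p M hP
      obtain ⟨-, h1, -⟩ := ext_range_at hω hn p M hP k d hk hd
      obtain ⟨j, hj, hne⟩ : ∃ j, Nontrivial (LocalizedModule p.asIdeal.primeCompl (Dual.inD A M ⟶ ω⟦j⟧)) ∧
          j ≠ n p - d := by
        by_contra hcon
        push Not at hcon
        exact hcm ⟨_, h1, fun j hj => hcon j hj⟩
      refine ⟨n p - d, hrange _ (Module.mem_support_iff.2 h1), j, ⟨hne, hrange _ (Module.mem_support_iff.2 hj)⟩,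
        Module.mem_support_iff.2 h1, Module.mem_support_iff.2 hj⟩
    · rintro ⟨i, -, j, ⟨hji, -⟩, hi, hj⟩
      have hP : p ∈ Module.support A M := KFlatLib.support_hom_subset M _ hi
      refine ⟨not_subsingleton_iff_nontrivial.2 (Module.mem_support_iff.1 hP), fun hcm => ?_⟩
      obtain ⟨c, -, hu⟩ := (cm_iff_existsUnique hω p M hP).1 hcm
      exact hji ((hu j (Module.mem_support_iff.1 hj)).trans (hu i (Module.mem_support_iff.1 hi)).symm)
  rw [heq]
  exact isClosed_biUnion_finset fun i _ => isClosed_biUnion_finset fun j _ =>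
    (isClosed_support_finite (hfin i)).inter (isClosed_support_finite (hfin j))

/-- The Cohen–Macaulay points are dense in the support. -/
theorem support_subset_closure_cm (hω : Dual.IsDualizing A ω) (M : Type u) [AddCommGroup M] [Module A M]
    [Module.Finite A M] :
    Module.support A M ⊆ closure ({p : PrimeSpectrum A |
      LocCoh.IsCohenMacaulayModule (Localization.AtPrime p.asIdeal) (LocalizedModule p.asIdeal.primeCompl M)} ∩
        Module.support A M) := by
  intro P hP
  have hann : Module.annihilator A M ≤ P.asIdeal := by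
    rwa [Module.support_eq_zeroLocus] at hP
  obtain ⟨q, hq, hqP⟩ := Ideal.exists_minimalPrimes_le hann
  haveI := hq.1.1
  let Q : PrimeSpectrum A := ⟨q, hq.1.1⟩
  have hQ : Q ∈ Module.support A M := by
    rw [Module.support_eq_zeroLocus]; exact hq.1.2
  have hd := LC.supportDim_localized_minimalPrimes M hq
  obtain ⟨k, d, hk, hd'⟩ := exists_depth_dim Q M hQ
  obtain ⟨n, hn, -, -, -⟩ := KFlatLib.exists_extDegree hω
  obtain ⟨hr, -, h2⟩ := ext_range_at hω hn Q M hQ k d hk hd'
  have hcm : LocCoh.IsCohenMacaulayModule (Localization.AtPrime Q.asIdeal) (LocalizedModule Q.asIdeal.primeCompl M) := by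
    have hd0 : d = 0 := by
      change Module.supportDim (Localization.AtPrime q) (LocalizedModule q.primeCompl M) = _ at hd'
      rw [hd] at hd'
      exact_mod_cast hd'.symm
    have := hr _ h2
    unfold LocCoh.IsCohenMacaulayModule
    rw [hk, hd', hd0, show k = 0 by omega]
    rfl
  have hmem : Q ∈ {p : PrimeSpectrum A |
      LocCoh.IsCohenMacaulayModule (Localization.AtPrime p.asIdeal) (LocalizedModule p.asIdeal.primeCompl M)} ∩
        Module.support A M := ⟨hcm, hQ⟩
  refine closure_mono (Set.singleton_subset_iff.2 hmem) ?_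
  exact ((PrimeSpectrum.le_iff_specializes Q P).1 hqP).mem_closure

omit [IsNoetherianRing A] in
theorem mem_support_self (P : PrimeSpectrum A) : P ∈ Module.support A A := by
  rw [Module.support_eq_zeroLocus, Module.annihilator_eq_bot.2 inferInstance]
  simp

omit [IsNoetherianRing A] in
theorem depth_of_subsingleton {R : Type u} [CommRing R] [IsLocalRing R] (M : Type v) [AddCommGroup M] [Module R M]
    [Subsingleton M] : LocCoh.depth R M = ⊤ :=
  if_pos (Subsingleton.elim _ _)

omit [IsNoetherianRing A] in
theorem not_top_add_coe_le (e i : ℕ) :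
    ¬ ((⊤ : ℕ∞) : WithBot ℕ∞) + (e : WithBot ℕ∞) ≤ (i : WithBot ℕ∞) := by
  intro h
  have h' : (((⊤ : ℕ∞) + (e : ℕ∞) : ℕ∞) : WithBot ℕ∞) ≤ ((i : ℕ∞) : WithBot ℕ∞) := h
  rw [top_add, WithBot.coe_le_coe] at h'
  simp at h'

/-- The Cohen–Macaulay points are those with one surviving cohomology module. -/
theorem cmLocalRing_iff_cm_self (P : PrimeSpectrum A) :
    LocCoh.IsCohenMacaulayLocalRing (Localization.AtPrime P.asIdeal) ↔
      LocCoh.IsCohenMacaulayModule (Localization.AtPrime P.asIdeal) (LocalizedModule P.asIdeal.primeCompl A) := by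
  unfold LocCoh.IsCohenMacaulayModule
  rw [Module.supportDim_eq_of_equiv (LC.selfLoc P.asIdeal.primeCompl),
    show LocCoh.depth (Localization.AtPrime P.asIdeal) (LocalizedModule P.asIdeal.primeCompl A) =
      LocCoh.depth (Localization.AtPrime P.asIdeal) (Localization.AtPrime P.asIdeal) from
        LC.idealDepth_congr _ (LC.selfLoc P.asIdeal.primeCompl)]
  exact ⟨fun h => h.supportDim_eq_depth, fun h => { supportDim_eq_depth := h }⟩

theorem isOpen_cmLocalRingLocus (hω : Dual.IsDualizing A ω) :
    IsOpen {p : PrimeSpectrum A | LocCoh.IsCohenMacaulayLocalRing (Localization.AtPrime p.asIdeal)} := by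
  convert isOpen_cmLocus hω A using 1
  ext P
  simp only [Set.mem_ofPred_eq, cmLocalRing_iff_cm_self]
  exact (or_iff_right fun h => by
    haveI := h
    exact not_nontrivial _ (Module.mem_support_iff.1 (mem_support_self P))).symm

theorem dense_cmLocalRingLocus (hω : Dual.IsDualizing A ω) :
    Dense {p : PrimeSpectrum A | LocCoh.IsCohenMacaulayLocalRing (Localization.AtPrime p.asIdeal)} := fun P => by
  refine closure_mono ?_ (support_subset_closure_cm hω A (mem_support_self P))
  exact fun Q hQ => (cmLocalRing_iff_cm_self Q).2 hQ.1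

omit [IsNoetherianRing A] in
theorem subsingleton_hd_inD (M : Type u) [AddCommGroup M] [Module A M] {i : ℤ} (hi : i ≠ 0) :
    Subsingleton (Dual.HD A (Dual.inD A M) i) := by
  rcases lt_or_gt_of_ne hi with h | h
  · exact ModuleCat.subsingleton_of_isZero (DerivedCategory.isZero_of_isGE (Dual.inD A M) 0 i h)
  · exact ModuleCat.subsingleton_of_isZero (DerivedCategory.isZero_of_isLE (Dual.inD A M) 0 i h)

/-- A ring with a dualizing module is Cohen–Macaulay. -/
theorem isCohenMacaulayRing_of_inD (W : Type u) [AddCommGroup W] [Module A W]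
    (h : Dual.IsDualizing A (Dual.inD A W)) : LocCoh.IsCohenMacaulayRing A := by
  refine { isCohenMacaulayLocalRing_localization := fun p _ => (cmLocalRing_iff_existsUnique h ⟨p, inferInstance⟩).2 ?_ }
  obtain ⟨n, hn, -, -, -⟩ := KFlatLib.exists_extDegree h
  obtain ⟨k, d, hk, hd⟩ := exists_depth_dim ⟨p, inferInstance⟩ A (mem_support_self _)
  obtain ⟨-, h1, -⟩ := ext_range_at h hn ⟨p, inferInstance⟩ A (mem_support_self _) k d hk hd
  obtain ⟨e⟩ := KFlatLib.exists_homRingLEquiv (Dual.inD A W) (n ⟨p, inferInstance⟩ - d)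
  have h2 := (nontrivial_localized_congr e).1 h1
  have key : ∀ i : ℤ, Nontrivial (LocalizedModule p.primeCompl (Dual.HD A (Dual.inD A W) i)) → i = 0 := fun i hi => by
    by_contra hne
    haveI := subsingleton_hd_inD (A := A) W hne
    haveI : Subsingleton (LocalizedModule p.primeCompl (Dual.HD A (Dual.inD A W) i)) :=
      LocalizedModule.subsingleton_iff.2 fun x => ⟨1, one_mem _, Subsingleton.elim _ _⟩
    exact not_subsingleton _ this
  refine ⟨0, ?_, key⟩
  rwa [key _ h2] at h2

end Groth.Agent.DualityLC
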