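import Groth.Agent.KFlatLib.Scheme.MVPush
import Groth.Agent.KFlatLib.Scheme.TildePush
import Groth.Agent.KFlatLib.Scheme.TildePerf
import Groth.Agent.KFlatLib.Scheme.ProjLocFree
import Groth.Agent.Perf52.AffineKill
import Groth.Agent.S6511
import Mathlib.AlgebraicGeometry.Morphisms.Flat
import Mathlib.AlgebraicGeometry.Morphisms.Separated

/-!
# Finite tor amplitude of the derived pushforward of a perfect object along a flat morphism to an affine scheme
-/

set_option autoImplicit false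
set_option linter.style.haveILetI false
set_option backward.isDefEq.respectTransparency false

universe u

open CategoryTheory CategoryTheory.Limits AlgebraicGeometry Pretriangulated

attribute [local instance] HasDerivedCategory.standard

namespace Groth.Agent.DualityLC

open Groth.Agent.KFlatLib

variable {X Y : Scheme.{u}}

lemma isIso_restrictUnit_of_iso (e : X ≅ Y) (M : X.Modules) :
    IsIso ((Scheme.Modules.restrictAdjunction e.inv).unit.app M) := by
  refine Scheme.Modules.Hom.isIso_iff_isIso_app.2 fun O => ?_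
  rw [Scheme.Modules.restrictAdjunction_unit_app_app]
  refine isIso_presheaf_map M.presheaf _ ?_
  show O = e.inv ''ᵁ (e.inv ⁻¹ᵁ O)
  rw [Scheme.Hom.image_preimage_eq_opensRange_inf, Scheme.Hom.opensRange_of_isIso, top_inf_eq]

/-- Pushforward along an isomorphism is restriction along its inverse. -/
noncomputable def pushIsoRestrict (e : X ≅ Y) :
    Scheme.Modules.pushforward e.hom ≅ Scheme.Modules.restrictFunctor e.inv :=
  haveI : ∀ M, IsIso ((Scheme.Modules.restrictAdjunction e.inv).unit.app M) := isIso_restrictUnit_of_iso e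
  haveI := NatIso.isIso_of_isIso_app (Scheme.Modules.restrictAdjunction e.inv).unit
  (Functor.leftUnitor _).symm ≪≫
    Functor.isoWhiskerRight (asIso (Scheme.Modules.restrictAdjunction e.inv).unit) _ ≪≫
    Functor.associator _ _ _ ≪≫
    Functor.isoWhiskerLeft _ (Scheme.Modules.pushforwardComp e.inv e.hom ≪≫
      Scheme.Modules.pushforwardCongr e.inv_hom_id ≪≫ Scheme.Modules.pushforwardId Y) ≪≫
    Functor.rightUnitor _

/-- `Rf_*` along an isomorphism is restriction along the inverse. -/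
theorem nonempty_rpush_iso_rho (e : X ≅ Y) [DCoh.HasRpush e.hom] (L : DCoh.D X) :
    Nonempty ((DCoh.Rpush e.hom).obj L ≅ (rho e.inv).obj L) := by
  obtain ⟨I, hI, -, ⟨eE⟩⟩ := exists_kInjective_rep L
  haveI := hI
  obtain ⟨r⟩ := nonempty_rpush_iso_of_kInjective e.hom eE.symm
  exact ⟨r ≪≫ DerivedCategory.Q.mapIso
      ((NatIso.mapHomologicalComplex (pushIsoRestrict e) (ComplexShape.up ℤ)).app I) ≪≫
    ((rhoQ e.inv).app I).symm ≪≫ (rho e.inv).mapIso eE.symm⟩

/-- Finite tor amplitude. -/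
def FinTorAmp {Z : Scheme.{u}} (K : DCoh.D Z) : Prop :=
  ∃ a b : ℤ, a ≤ b ∧ DCoh.HasTorAmplitudeIn a b K

lemma FinTorAmp.of_iso {Z : Scheme.{u}} {K L : DCoh.D Z} (e : K ≅ L) (h : FinTorAmp K) : FinTorAmp L := by
  obtain ⟨a, b, hab, h⟩ := h
  exact ⟨a, b, hab, torAmplitude_of_retract e.inv e.hom e.inv_hom_id h⟩

lemma finTorAmp_obj₁ {Z : Scheme.{u}} (T : Triangle (DCoh.D Z)) (hT : T ∈ distinguishedTriangles)
    (h₂ : FinTorAmp T.obj₂) (h₃ : FinTorAmp T.obj₃) : FinTorAmp T.obj₁ := by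
  obtain ⟨a₂, b₂, -, h₂⟩ := h₂
  obtain ⟨a₃, b₃, -, h₃⟩ := h₃
  refine ⟨min a₂ (a₃ + 1), max (max b₂ (b₃ + 1)) (min a₂ (a₃ + 1)), le_max_right _ _, fun F _ i hi => ?_⟩
  have := (isZero_hd_ltensorMod_triangle T hT F (i - 1)).2.2 (h₃ F (i - 1) (by omega))
    (h₂ F (i - 1 + 1) (by omega))
  rwa [show i - 1 + 1 = i by omega] at this

lemma finTorAmp_obj₂ {Z : Scheme.{u}} (T : Triangle (DCoh.D Z)) (hT : T ∈ distinguishedTriangles)
    (h₁ : FinTorAmp T.obj₁) (h₃ : FinTorAmp T.obj₃) : FinTorAmp T.obj₂ := by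
  obtain ⟨a₁, b₁, hab, h₁⟩ := h₁
  obtain ⟨a₃, b₃, -, h₃⟩ := h₃
  exact ⟨min a₁ a₃, max b₁ b₃, by omega, fun F _ i hi =>
    (isZero_hd_ltensorMod_triangle T hT F i).2.1 (h₁ F i (by omega)) (h₃ F i (by omega))⟩

lemma finTorAmp_biprod {Z : Scheme.{u}} {K L : DCoh.D Z} [HasBinaryBiproduct K L] (hK : FinTorAmp K)
    (hL : FinTorAmp L) : FinTorAmp (K ⊞ L) :=
  finTorAmp_obj₂ _ (binaryBiproductTriangle_distinguished K L) hK hL

/-- The affine case: perfect complexes over a flat algebra have finite tor amplitude over the base. -/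
theorem finTorAmp_rpush_affine {A : CommRingCat.{u}} [IsAffine X] (f : X ⟶ Spec A) [Flat f]
    [DCoh.HasRpush f] (E : DCoh.D X) (hE : DCoh.IsPerfect E) : FinTorAmp ((DCoh.Rpush f).obj E) := by
  let e := X.isoSpec
  obtain ⟨g, rfl⟩ : ∃ g : A ⟶ Γ(X, ⊤), f = e.hom ≫ Spec.map g :=
    ⟨Spec.preimage (e.inv ≫ f), by rw [Spec.map_preimage, e.hom_inv_id_assoc]⟩
  haveI : Flat (Spec.map g) := by
    rw [← e.inv_hom_id_assoc (Spec.map g)]; infer_instance
  have hg : g.hom.Flat := (HasRingHomProperty.Spec_iff (P := @Flat)).1 inferInstance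
  haveI := KFlatLib.hasRpush_scheme e.hom
  haveI := KFlatLib.hasRpush_scheme (Spec.map g)
  obtain ⟨c⟩ := nonempty_rpush_comp e.hom (Spec.map g)
  obtain ⟨r⟩ := nonempty_rpush_iso_rho e E
  have hE' : DCoh.IsPerfect ((rho e.inv).obj E) := Perf52.isPerfect_rho e.inv hE
  obtain ⟨P, ⟨eP⟩⟩ := exists_tildeD_iso (Perf52.isQCohD_of_isPerfect hE')
  obtain ⟨Q, a, b, hz, hQ, ⟨eQ⟩⟩ :=
    (perfect_tildeD_iff P).1 (Perf52.isPerfect_of_iso eP.symm hE')
  obtain ⟨t⟩ := nonempty_tildeD_rpush_iso (A := A) g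
  refine FinTorAmp.of_iso ((t.app P).symm ≪≫ (DCoh.Rpush (Spec.map g)).mapIso (eP ≪≫ r.symm) ≪≫ c.app E) ?_
  let R := ModuleCat.restrictScalars.{u} g.hom
  refine ⟨a, max a b, le_max_left _ _, torAmplitude_of_flatAmplitude ((flatAmplitude_tildeD_iff _ a (max a b)).2
    ⟨(R.mapHomologicalComplex (ComplexShape.up ℤ)).obj Q, fun i hi => R.map_isZero (hz i (by omega)),
      fun i => ?_, ⟨(R.mapDerivedCategoryFactors.app Q).symm ≪≫ R.mapDerivedCategory.mapIso eQ⟩⟩)⟩
  letI := g.hom.toAlgebra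
  letI : Module A (Q.X i) := Module.compHom _ g.hom
  haveI : IsScalarTower A Γ(X, ⊤) (Q.X i) := IsScalarTower.of_algebraMap_smul fun _ _ => rfl
  haveI : Module.Flat A Γ(X, ⊤) := hg
  haveI := (hQ i).2
  exact Module.Flat.trans A Γ(X, ⊤) (Q.X i)

/-- Finite tor amplitude by induction on the number of affine opens. -/
theorem finTorAmp_rpush_cover {A : CommRingCat.{u}} : ∀ (n : ℕ) {X : Scheme.{u}} (f : X ⟶ Spec A)
    [Flat f] [IsSeparated f] [DCoh.HasRpush f] (s : Fin n → X.Opens), (∀ i, IsAffineOpen (s i)) →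
    (⨆ i, s i) = ⊤ → ∀ E : DCoh.D X, DCoh.IsPerfect E → FinTorAmp ((DCoh.Rpush f).obj E) := by
  intro n
  induction n with
  | zero =>
    intro X f _ _ _ s _ hs E hE
    haveI : IsEmpty X := ⟨fun x => by
      have := hs.ge (TopologicalSpace.Opens.mem_top x)
      obtain ⟨i, -⟩ := TopologicalSpace.Opens.mem_iSup.1 this
      exact i.elim0⟩
    exact finTorAmp_rpush_affine f E hE
  | succ n ih =>
    intro X f _ _ _ s hs hcov E hE
    haveI : X.IsSeparated := ⟨by rw [← terminal.comp_from f]; infer_instance⟩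
    let U := s 0
    let t : Fin n → X.Opens := fun i => s i.succ
    let V : X.Opens := ⨆ i, t i
    have hUV : U ⊔ V = ⊤ := by
      refine top_le_iff.1 (hcov.ge.trans (iSup_le (Fin.cases le_sup_left fun i => ?_)))
      exact le_sup_of_le_right (le_iSup t i)
    haveI := KFlatLib.hasRpush_scheme (U.ι ≫ f)
    haveI := KFlatLib.hasRpush_scheme (V.ι ≫ f)
    haveI := KFlatLib.hasRpush_scheme ((U ⊓ V).ι ≫ f)
    haveI : IsAffine (U : Scheme.{u}) := hs 0
    obtain ⟨a, b, c, h⟩ := S6511.result f U V hUV E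
    refine finTorAmp_obj₁ _ h (finTorAmp_biprod ?_ ?_) ?_
    · exact finTorAmp_rpush_affine _ _ (Perf52.isPerfect_rho U.ι hE)
    · refine ih (V.ι ≫ f) (fun i => V.ι ⁻¹ᵁ t i) (fun i => ?_) ?_ _ (Perf52.isPerfect_rho V.ι hE)
      · exact (hs i.succ).preimage_of_isOpenImmersion V.ι (by rw [Scheme.Opens.opensRange_ι]; exact le_iSup t i)
      · rw [← Scheme.Hom.preimage_iSup]
        exact (Scheme.Opens.ι_preimage_self V)
    · refine ih ((U ⊓ V).ι ≫ f) (fun i => (U ⊓ V).ι ⁻¹ᵁ (U ⊓ t i)) (fun i => ?_) ?_ _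
        (Perf52.isPerfect_rho (U ⊓ V).ι hE)
      · exact ((hs 0).inf (hs i.succ)).preimage_of_isOpenImmersion _
          (by rw [Scheme.Opens.opensRange_ι]; exact inf_le_inf_left _ (le_iSup t i))
      · rw [← Scheme.Hom.preimage_iSup, ← inf_iSup_eq]
        exact (Scheme.Opens.ι_preimage_self (U ⊓ V))

theorem finTorAmp_rpush {A : CommRingCat.{u}} [CompactSpace X] (f : X ⟶ Spec A) [Flat f] [IsSeparated f]
    [DCoh.HasRpush f] (E : DCoh.D X) (hE : DCoh.IsPerfect E) : FinTorAmp ((DCoh.Rpush f).obj E) := by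
  obtain ⟨t, ht⟩ := isCompact_univ.elim_finite_subcover (fun U : X.affineOpens => ((U : X.Opens) : Set X))
    (fun U => (U : X.Opens).2) (fun x _ => by
      obtain ⟨U, hU, hxU, -⟩ := exists_isAffineOpen_mem_and_subset (X := X) (x := x) (U := ⊤) trivial
      exact Set.mem_iUnion.2 ⟨⟨U, hU⟩, hxU⟩)
  refine finTorAmp_rpush_cover _ f (fun i => ((t.equivFin.symm i : X.affineOpens) : X.Opens))
    (fun i => (t.equivFin.symm i : X.affineOpens).2) (top_le_iff.1 fun x _ => ?_) E hE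
  obtain ⟨U, hU, hx⟩ := Set.mem_iUnion₂.1 (ht (Set.mem_univ x))
  exact TopologicalSpace.Opens.mem_iSup.2 ⟨t.equivFin ⟨U, hU⟩, by rw [Equiv.symm_apply_apply]; exact hx⟩

end Groth.Agent.DualityLC
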