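import Groth.Agent.PnCoh.Chow.Proper
import Groth.Agent.PnCoh.Chow.Basic
import Groth.Agent.PnCoh.Chow.Exists
import Groth.Agent.ExistEasy.ChowNR.Basic
import Mathlib.AlgebraicGeometry.Morphisms.ClosedImmersion

/-!
# Closure of the graph of an affine open in projective space
-/

set_option autoImplicit false
set_option linter.style.haveILetI false
set_option backward.isDefEq.respectTransparency false

universe u

open CategoryTheory CategoryTheory.Limits AlgebraicGeometry MvPolynomial HomogeneousLocalization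

namespace Groth.Agent.DualityLC

/-- A scheme-theoretically dominant map restricted to an open, closed immersion there, is an isomorphism. -/
lemma isIso_restrict_of_stdom {W Z : Scheme.{u}} (t : W ⟶ Z) [QuasiCompact t]
    [IsSchemeTheoreticallyDominant t] (O : Z.Opens) [IsClosedImmersion (t ∣_ O)] : IsIso (t ∣_ O) := by
  haveI := ExistEasy.ChowNR.isSTDom_restrict t O
  exact IsClosedImmersion.isIso_iff_ker_eq_bot.2 ((t ∣_ O).ker_eq_bot)

/-- The graph closure. -/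
theorem exists_graph_closure {X P S : Scheme.{u}} (f : X ⟶ S) (q : P ⟶ S) [IsProper f] [IsProper q]
    (U : X.Opens) [QuasiCompact U.ι] (g₀ : (U : Scheme.{u}) ⟶ P) (h : g₀ ≫ q = U.ι ≫ f) (O : P.Opens)
    (hO : g₀ ⁻¹ᵁ O = ⊤) [IsClosedImmersion (g₀ ∣_ O)] :
    ∃ (X' : Scheme.{u}) (π : X' ⟶ X) (g : X' ⟶ P), IsProper π ∧ IsProper g ∧ π ≫ f = g ≫ q ∧
      IsIso (π ∣_ U) ∧ IsClosedImmersion (g ∣_ O) ∧ π ⁻¹ᵁ U = g ⁻¹ᵁ O := by
  let Γ₀ : (U : Scheme.{u}) ⟶ pullback f q := pullback.lift U.ι g₀ h.symm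
  haveI : QuasiCompact (Γ₀ ≫ pullback.fst f q) := by rw [pullback.lift_fst]; infer_instance
  haveI : QuasiCompact Γ₀ := QuasiCompact.of_comp Γ₀ (pullback.fst f q)
  let t := Γ₀.toImage
  haveI : IsSchemeTheoreticallyDominant t := ExistEasy.ChowNR.isSTDom_toImage Γ₀
  let π : Γ₀.image ⟶ X := Γ₀.imageι ≫ pullback.fst f q
  let g : Γ₀.image ⟶ P := Γ₀.imageι ≫ pullback.snd f q
  haveI : IsProper π := inferInstance
  haveI : IsProper g := inferInstance
  haveI : QuasiCompact (t ≫ Γ₀.imageι) := by rw [Γ₀.toImage_imageι]; infer_instance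
  haveI : QuasiCompact t := QuasiCompact.of_comp t Γ₀.imageι
  have htπ : t ≫ π = U.ι := by
    simp only [t, π, Scheme.Hom.toImage_imageι_assoc, Γ₀, pullback.lift_fst]
  have htg : t ≫ g = g₀ := by
    simp only [t, g, Scheme.Hom.toImage_imageι_assoc, Γ₀, pullback.lift_snd]
  haveI i1 : IsIso ((t ≫ π) ∣_ U) := by
    rw [htπ, show U.ι ∣_ U = (U.ι ⁻¹ᵁ U).ι from (cancel_mono U.ι).1 (morphismRestrict_ι U.ι U),
      Scheme.Opens.ι_preimage_self]
    exact inferInstanceAs (IsIso (Scheme.topIso _).hom)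
  haveI : IsClosedImmersion (t ∣_ (π ⁻¹ᵁ U) ≫ π ∣_ U) := by
    rw [← morphismRestrict_comp]; infer_instance
  haveI : IsClosedImmersion (t ∣_ (π ⁻¹ᵁ U)) := IsClosedImmersion.of_comp _ (π ∣_ U)
  haveI e1 := isIso_restrict_of_stdom t (π ⁻¹ᵁ U)
  haveI i1' : IsIso (t ∣_ (π ⁻¹ᵁ U) ≫ π ∣_ U) := by
    rw [← morphismRestrict_comp]; exact i1
  haveI hπ : IsIso (π ∣_ U) := IsIso.of_isIso_comp_left (t ∣_ (π ⁻¹ᵁ U)) _
  haveI i2 : IsClosedImmersion ((t ≫ g) ∣_ O) := by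
    rw [htg]; infer_instance
  haveI : IsClosedImmersion (t ∣_ (g ⁻¹ᵁ O) ≫ g ∣_ O) := by
    rw [← morphismRestrict_comp]; exact i2
  haveI : IsClosedImmersion (t ∣_ (g ⁻¹ᵁ O)) := IsClosedImmersion.of_comp _ (g ∣_ O)
  haveI e2 := isIso_restrict_of_stdom t (g ⁻¹ᵁ O)
  have hg : IsClosedImmersion (g ∣_ O) :=
    (MorphismProperty.cancel_left_of_respectsIso @IsClosedImmersion (t ∣_ (g ⁻¹ᵁ O)) (g ∣_ O)).1
      (by rw [← morphismRestrict_comp]; exact i2)
  have hsub : ∀ O₁ O₂ : Γ₀.image.Opens, IsIso (t ∣_ O₁) → t ⁻¹ᵁ O₂ = ⊤ → O₁ ≤ O₂ := by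
    intro O₁ O₂ hi hpre x hx
    obtain ⟨w, hw⟩ := (t ∣_ O₁).surjective ⟨x, hx⟩
    have hw' : t (Scheme.Opens.ι (t ⁻¹ᵁ O₁) w) = x := by
      have := congrArg (Scheme.Opens.ι O₁) hw
      rw [← Scheme.Hom.comp_apply, morphismRestrict_ι, Scheme.Hom.comp_apply] at this
      exact this
    rw [← hw']
    show Scheme.Opens.ι (t ⁻¹ᵁ O₁) w ∈ t ⁻¹ᵁ O₂
    rw [hpre]; trivial
  have p1 : t ⁻¹ᵁ (π ⁻¹ᵁ U) = ⊤ := by
    rw [← Scheme.Hom.comp_preimage, htπ, Scheme.Opens.ι_preimage_self]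
  have p2 : t ⁻¹ᵁ (g ⁻¹ᵁ O) = ⊤ := by
    rw [← Scheme.Hom.comp_preimage, htg, hO]
  exact ⟨Γ₀.image, π, g, inferInstance, inferInstance,
    by simp only [π, g, Category.assoc, pullback.condition], hπ, hg,
    le_antisymm (hsub _ _ e1 p2) (hsub _ _ e2 p1)⟩

variable {A : Type u} [CommRing A]

/-- An affine open of finite type over `A` is closed in a standard chart of projective space. -/
theorem exists_chart_embedding {Xs : Scheme.{u}} (f : Xs ⟶ Spec (CommRingCat.of A)) [LocallyOfFiniteType f]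
    (U : Xs.Opens) (hU : IsAffineOpen U) :
    ∃ (n : ℕ) (g₀ : (U : Scheme.{u}) ⟶ CohB1.ProjSpace n A) (O : (CohB1.ProjSpace n A).Opens),
      g₀ ≫ CohB1.ProjSpace.toSpec n A = U.ι ≫ f ∧ g₀ ⁻¹ᵁ O = ⊤ ∧ IsClosedImmersion (g₀ ∣_ O) ∧
      O = Proj.basicOpen (CohB1.polyGrading n A) (MvPolynomial.X 0) := by
  haveI : IsAffine (U : Scheme.{u}) := hU
  obtain ⟨k, s, hs⟩ := PnCoh.Chow.exists_gens (U.ι ≫ f) (isAffineOpen_top (U : Scheme.{u}))
  let F := U.ι ≫ f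
  let c : MvPolynomial (Fin (k + 1)) A →+* Γ((U : Scheme.{u}), ⊤) :=
    eval₂Hom (PnCoh.Chow.aHom F ⊤) (Fin.cons 1 s)
  have hc0 : c (X 0) = 1 := by simp [c]
  have hu : IsUnit (c (X 0)) := by rw [hc0]; exact isUnit_one
  let g₀ : (U : Scheme.{u}) ⟶ CohB1.ProjSpace k A :=
    ProjPt.pt (CohB1.polyGrading k A) c (ProjPt.X_mem 0) one_pos hu
  let O : (CohB1.ProjSpace k A).Opens := Proj.basicOpen (CohB1.polyGrading k A) (X 0)
  have h1 : g₀ ≫ CohB1.ProjSpace.toSpec k A = U.ι ≫ f := by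
    show ProjPt.pt (CohB1.polyGrading k A) c (ProjPt.X_mem 0) one_pos hu ≫
      Proj.toSpecZero (CohB1.polyGrading k A) ≫ Spec.map _ = _
    rw [← Category.assoc, ProjPt.pt_toSpecZero, Category.assoc, ← Spec.map_comp, show U.ι ≫ f = F from rfl, ProjPt.eq_toSpecΓ F]
    congr 2
    refine CommRingCat.hom_ext (RingHom.ext fun a => ?_)
    show c (C a) = _
    simp only [c, eval₂Hom_C]
    show ((Scheme.ΓSpecIso (CommRingCat.of A)).inv ≫ F.appLE ⊤ ⊤ le_top) a = _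
    rw [show F.appLE ⊤ ⊤ le_top = F.appTop from (F.app_eq_appLE (U := ⊤)).symm]
  have h2 : g₀ ⁻¹ᵁ O = ⊤ := by
    rw [show g₀ ⁻¹ᵁ O = (U : Scheme.{u}).basicOpen (c (X 0)) from
      ProjPt.pt_preimage_basicOpen (CohB1.polyGrading k A) c (ProjPt.X_mem 0) one_pos hu (ProjPt.X_mem 0) one_pos,
      (U : Scheme.{u}).basicOpen_of_isUnit hu]
  refine ⟨k, g₀, O, h1, h2, ?_, rfl⟩
  haveI hOaff : IsAffine (O : Scheme.{u}) :=
    Proj.isAffineOpen_basicOpen (CohB1.polyGrading k A) (X 0) (ProjPt.X_mem 0) one_pos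
  haveI : IsAffine (g₀ ⁻¹ᵁ O : Scheme.{u}) := by rw [h2]; exact isAffineOpen_top _
  refine IsClosedImmersion.of_surjective_of_isAffine _ ?_
  have hsurj : Function.Surjective (g₀.appLE O ⊤ h2.ge) := by
    intro y
    obtain ⟨p, rfl⟩ := hs y
    induction p using MvPolynomial.induction_on with
    | C a =>
      refine ⟨(CohB1.ProjSpace.toSpec k A).appLE ⊤ O le_top ((Scheme.ΓSpecIso (CommRingCat.of A)).inv a), ?_⟩
      rw [← CommRingCat.comp_apply, Scheme.Hom.appLE_comp_appLE, eval₂Hom_C]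
      show _ = PnCoh.Chow.aHom F ⊤ a
      rw [PnCoh.Chow.appLE_congr_hom h1]
      rfl
    | add p q hp hq =>
      obtain ⟨a, ha⟩ := hp
      obtain ⟨b, hb⟩ := hq
      exact ⟨a + b, by rw [map_add, map_add, ha, hb]⟩
    | mul_X p a hp =>
      obtain ⟨z, hz⟩ := hp
      let r : Γ(CohB1.ProjSpace k A, O) := (Proj.awayToSection (CohB1.polyGrading k A) (X 0)).hom
        (Away.mk (CohB1.polyGrading k A) (ProjPt.X_mem 0) 1 (X a.succ)
          (by rw [one_smul]; exact ProjPt.X_mem _))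
      refine ⟨z * r, ?_⟩
      rw [map_mul, map_mul, hz, eval₂Hom_X']
      congr 1
      have hm := PnCoh.Chow.pt_ratio_mul (CohB1.polyGrading k A) c (ProjPt.X_mem 0) (ProjPt.X_mem 0)
        (ProjPt.X_mem a.succ) hu ⊤ h2.ge
      rw [hc0, map_one, mul_one] at hm
      refine hm.trans ?_
      simp [c]
      rfl
  have happ : Function.Surjective (g₀.app O) := by
    rw [Scheme.Hom.app_eq_appLE]
    intro y
    obtain ⟨z, hz⟩ := hsurj ((U : Scheme.{u}).presheaf.map (eqToHom h2.symm).op y)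
    refine ⟨z, PnCoh.Chow.map_injective_of_eq h2 (eqToHom h2.symm) ?_⟩
    rw [← hz, ← CommRingCat.comp_apply, Scheme.Hom.appLE_map]
  rw [morphismRestrict_appTop]
  have h3 : Function.Surjective (g₀.app (O.ι ''ᵁ ⊤)) := by
    rw [Scheme.Opens.ι_image_top]; exact happ
  intro y
  obtain ⟨z, hz⟩ := (ConcreteCategory.bijective_of_isIso
    ((U : Scheme.{u}).presheaf.map (eqToHom (image_morphismRestrict_preimage g₀ O ⊤)).op)).2 y
  obtain ⟨w, rfl⟩ := h3 z
  exact ⟨w, hz⟩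

end Groth.Agent.DualityLC
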