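import Groth.Agent.DualityLC.SheafDualityProper
import Groth.Agent.KFlatLib.Scheme.RHomLocal
import Groth.Agent.KFlatLib.Scheme.PullTensorCx
import Groth.Agent.Perf52.GeneratorGlobal
import Groth.Agent.Perf52.Push

/-!
# A right adjoint of `Rf_*` preserves support
-/

set_option autoImplicit false
set_option linter.style.haveILetI false
set_option backward.isDefEq.respectTransparency false

universe u

open CategoryTheory CategoryTheory.Limits AlgebraicGeometry ZeroObject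

attribute [local instance] HasDerivedCategory.standard

namespace Groth.Agent.DualityLC

open KFlatLib

variable {X Y : Scheme.{u}}

/-- An object without cohomology is zero. -/
lemma isZero_of_hd {K : DCoh.D X} (h : ∀ i : ℤ, IsZero (DCoh.HD K i)) : IsZero K := by
  haveI : IsIso (0 : K ⟶ (0 : DCoh.D X)) := by
    rw [DerivedCategory.isIso_iff]
    intro i
    exact (h i).isIso (Functor.map_isZero _ (isZero_zero _)) _
  exact (isZero_zero _).of_iso (asIso (0 : K ⟶ (0 : DCoh.D X)))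

/-- `Rj_*` reflects zero objects for an open immersion. -/
lemma isZero_of_rho_rpush {U : Scheme.{u}} (j : U ⟶ X) [IsOpenImmersion j] [DCoh.HasRpush j] {E : DCoh.D U}
    (h : IsZero ((DCoh.Rpush j).obj E)) : IsZero E := by
  obtain ⟨J, _, _, ⟨eJ₀⟩⟩ := exists_kInjective_rep E
  let eJ := eJ₀.symm
  obtain ⟨e⟩ := nonempty_rpush_iso_of_kInjective j (I := J) (K := E) eJ
  have h' : IsZero ((rho j).obj (DerivedCategory.Q.obj ((Perf52.pushCx j).obj J))) :=
    Functor.map_isZero (rho j) (h.of_iso e.symm)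
  exact h'.of_iso (eJ.symm ≪≫ DerivedCategory.Q.mapIso (asIso ((Perf52.pushCxAdj j).counit.app J)).symm ≪≫
    ((rhoQ j).app _).symm)

/-- `Lf^* O = O`. -/
theorem nonempty_lpull_O (f : X ⟶ Y) [DCoh.HasLpull f] :
    Nonempty ((DCoh.Lpull f).obj (DCoh.inD Y (Coh.structureModule Y)) ≅
      DCoh.inD X (Coh.structureModule X)) := by
  let S := (HomologicalComplex.single Y.Modules (ComplexShape.up ℤ) 0).obj (Coh.structureModule Y)
  haveI : CochainComplex.IsStrictlyLE S 0 := (CochainComplex.isStrictlyLE_iff _ 0).2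
    fun j hj => HomologicalComplex.isZero_single_obj_X (ComplexShape.up ℤ) 0 _ j (by omega)
  have hS : DCoh.IsKFlat S := isKFlat_of_isStrictlyLE S 0 (isFlat_single 0 KFlatLib.isFlat_structureModule)
  haveI : IsIso (SheafOfModules.pullbackObjUnitToUnit f.toRingCatSheafHom) := inferInstance
  let e : (Scheme.Modules.pullback f).obj (Coh.structureModule Y) ≅ Coh.structureModule X :=
    asIso (SheafOfModules.pullbackObjUnitToUnit f.toRingCatSheafHom)
  exact ⟨(DCoh.Lpull f).mapIso ((DerivedCategory.singleFunctorIsoCompQ Y.Modules 0).app _) ≪≫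
    lpullIso f hS ≪≫ DerivedCategory.Q.mapIso
      ((HomologicalComplex.singleMapHomologicalComplex (Scheme.Modules.pullback f) _ 0).app _ ≪≫
        (HomologicalComplex.single _ _ 0).mapIso e) ≪≫
    ((DerivedCategory.singleFunctorIsoCompQ X.Modules 0).app _).symm⟩

/-- `O ⊗^L E ≅ E`. -/
theorem nonempty_ltensor_O (E : CochainComplex X.Modules ℤ) [DCoh.HasLTensorCx E] :
    Nonempty ((DCoh.LTensorCx E).obj (DCoh.inD X (Coh.structureModule X)) ≅ DCoh.toD X E) := by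
  let S := (HomologicalComplex.single X.Modules (ComplexShape.up ℤ) 0).obj (Coh.structureModule X)
  haveI : CochainComplex.IsStrictlyLE S 0 := (CochainComplex.isStrictlyLE_iff _ 0).2
    fun j hj => HomologicalComplex.isZero_single_obj_X (ComplexShape.up ℤ) 0 _ j (by omega)
  have hS : DCoh.IsKFlat S := isKFlat_of_isStrictlyLE S 0 (isFlat_single 0 isFlat_structureModule)
  obtain ⟨er⟩ := nonempty_tensorUnitIso E
  exact ⟨(DCoh.LTensorCx E).mapIso ((DerivedCategory.singleFunctorIsoCompQ X.Modules 0).app _) ≪≫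
    ltensorCxIso E hS ≪≫ DerivedCategory.Q.mapIso ((symmIso (tensorBiFlipIso X) E).app S ≪≫ er)⟩

/-- A complex of injectives representing a bounded below object. -/
lemma exists_injective_rep (L : DCoh.D X) (a : ℤ) [L.IsGE a] :
    ∃ (I : CochainComplex X.Modules ℤ) (_ : I.IsKInjective) (_ : ∀ n, Injective (I.X n))
      (_ : I.IsStrictlyGE a), Nonempty (L ≅ DerivedCategory.Q.obj I) := by
  obtain ⟨L₀, _, ⟨eL₀⟩⟩ := DerivedCategory.exists_iso_Q_obj_of_isGE L a
  obtain ⟨I, f, hf, hinj, hge⟩ := CochainComplex.Plus.modelCategoryQuillen.exists_quasiIso_injective L₀ a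
  haveI : I.IsKInjective := CochainComplex.isKInjective_of_injective I a
  haveI := isIso_Q_map f hf
  exact ⟨I, inferInstance, hinj, hge, ⟨eL₀ ≪≫ asIso (DerivedCategory.Q.map f)⟩⟩

/-- Restriction of `RHom`. -/
theorem nonempty_rho_RSheafHom {U : Scheme.{u}} (j : U ⟶ X) [IsOpenImmersion j]
    (P : CochainComplex X.Modules ℤ) [DCoh.HasLTensorCx P] [DCoh.HasRSheafHom P]
    (P' : CochainComplex U.Modules ℤ) [DCoh.HasLTensorCx P'] [DCoh.HasRSheafHom P']
    (hP' : P' = (rCx j).obj P) (L : DCoh.D X) (a : ℤ) [L.IsGE a] :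
    Nonempty ((rho j).obj ((DCoh.RSheafHom P).obj L) ≅ (DCoh.RSheafHom P').obj ((rho j).obj L)) := by
  subst hP'
  obtain ⟨I, _, _, _, ⟨eI⟩⟩ := exists_injective_rep L a
  haveI : ((rCx j).obj I).IsKInjective := isKInjective_rCx j I
  haveI : ∀ n, Injective (((rCx j).obj I).X n) := injective_rCx j I
  obtain ⟨e₁⟩ := nonempty_RSheafHom_iso P I
  obtain ⟨e₂⟩ := nonempty_rho_iHom j P I
  obtain ⟨e₃⟩ := nonempty_RSheafHom_iso ((rCx j).obj P) ((rCx j).obj I)
  exact ⟨(rho j).mapIso ((DCoh.RSheafHom P).mapIso eI ≪≫ e₁) ≪≫ e₂ ≪≫ e₃.symm ≪≫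
    (DCoh.RSheafHom ((rCx j).obj P)).mapIso (((rhoQ j).app I).symm ≪≫ (rho j).mapIso eI.symm)⟩

/-- Maps out of a perfect complex restricted to `f ⁻¹ V` into `a Q` vanish, if `Q` vanishes on `V`. -/
theorem eq_zero_of_vanish [IsNoetherian Y] (f : X ⟶ Y) [IsProper f] [DCoh.HasRpush f]
    (hf : DCoh.RpushPreservesQCoh f) (a : DCoh.DQCoh Y ⥤ DCoh.DQCoh X) (adj : DCoh.RpushQ f hf ⊣ a)
    (V : Y.Opens) (Q : DCoh.DQCoh Y) (c : ℤ) [DerivedCategory.IsGE Q.obj c]
    (hQ : IsZero ((rho V.ι).obj Q.obj)) (P : CochainComplex X.Modules ℤ)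
    (hP : DCoh.IsPerfect (DCoh.toD X P))
    (φ : (rho (f ⁻¹ᵁ V).ι).obj (DCoh.toD X P) ⟶ (rho (f ⁻¹ᵁ V).ι).obj (a.obj Q).obj) : φ = 0 := by
  haveI := isNoetherian_of_proper f
  let j := (f ⁻¹ᵁ V).ι
  obtain ⟨c', hc'⟩ := exists_isGE_rightAdjoint f hf a adj Q c
  haveI := hc'
  obtain ⟨hc, p, q, -, hp, hq⟩ := bddCoh_of_isPerfect hP
  haveI := hp
  haveI := hq
  haveI := hasLTensorCx P
  haveI := DEqT.hasRSheafHom P
  let R := DerivedCategory.Q.objPreimage ((DCoh.Rpush f).obj (DCoh.toD X P))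
  let eR : DCoh.toD Y R ≅ (DCoh.Rpush f).obj (DCoh.toD X P) := DerivedCategory.Q.objObjPreimageIso _
  haveI := hasLTensorCx R
  haveI := DEqT.hasRSheafHom R
  obtain ⟨e⟩ := nonempty_rpush_RSheafHom_iso_of_bddCoh f hf a adj P hc p q R ⟨eR⟩ Q c
  let R' := (rCx V.ι).obj R
  haveI := hasLTensorCx R'
  haveI := DEqT.hasRSheafHom R'
  obtain ⟨e₁⟩ := nonempty_rho_RSheafHom V.ι R R' rfl Q.obj c
  let P' := (rCx j).obj P
  haveI := hasLTensorCx P'
  haveI := DEqT.hasRSheafHom P'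
  obtain ⟨e₂⟩ := nonempty_rho_RSheafHom j P P' rfl (a.obj Q).obj c'
  haveI := hasRpush_scheme (f ∣_ V)
  obtain ⟨eRes⟩ := nonempty_rpush_restrictD_iso f V
  haveI : (DCoh.RSheafHom R').PreservesZeroMorphisms :=
    haveI := (DCoh.RSheafHomAdj R').rightAdjoint_preservesLimits
    Functor.preservesZeroMorphisms_of_map_zero_object
      (IsTerminal.uniqueUpToIso (IsTerminal.isTerminalObj (DCoh.RSheafHom R') _
        (HasZeroObject.zeroIsTerminal)) HasZeroObject.zeroIsTerminal)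
  have hz : IsZero ((DCoh.Rpush (f ∣_ V)).obj ((DCoh.RSheafHom P').obj ((rho j).obj (a.obj Q).obj))) :=
    (Functor.map_isZero (DCoh.RSheafHom R') hQ).of_iso
      ((DCoh.Rpush (f ∣_ V)).mapIso e₂.symm ≪≫ (eRes.app _).symm ≪≫ (rho V.ι).mapIso e ≪≫ e₁)
  haveI := hasLpull (f ∣_ V)
  obtain ⟨la⟩ := nonempty_lpull_rpush_adj (f ∣_ V)
  obtain ⟨el⟩ := nonempty_lpull_O (f ∣_ V)
  obtain ⟨eu⟩ := nonempty_ltensor_O P'
  let u : (rho j).obj (DCoh.toD X P) ≅ (DCoh.LTensorCx P').obj ((DCoh.Lpull (f ∣_ V)).obj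
      (DCoh.inD (V : Scheme.{u}) (Coh.structureModule (V : Scheme.{u})))) :=
    (rhoQ j).app P ≪≫ eu.symm ≪≫ (DCoh.LTensorCx P').mapIso el.symm
  let κ := u.homFromEquiv.trans (((DCoh.RSheafHomAdj P').homEquiv _ ((rho j).obj (a.obj Q).obj)).trans
    (la.homEquiv _ _))
  exact κ.injective (hz.eq_of_tgt _ _)

/-- The right adjoint of `Rf_*` preserves support. -/
theorem isZero_rho_rightAdjoint [IsNoetherian Y] (f : X ⟶ Y) [IsProper f] [DCoh.HasRpush f]
    (hf : DCoh.RpushPreservesQCoh f) (a : DCoh.DQCoh Y ⥤ DCoh.DQCoh X) (adj : DCoh.RpushQ f hf ⊣ a)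
    (V : Y.Opens) (Q : DCoh.DQCoh Y) (c : ℤ) [DerivedCategory.IsGE Q.obj c]
    (hQ : IsZero ((rho V.ι).obj Q.obj)) : IsZero ((rho (f ⁻¹ᵁ V).ι).obj (a.obj Q).obj) := by
  haveI := isNoetherian_of_proper f
  let j := (f ⁻¹ᵁ V).ι
  let E := (rho j).obj (a.obj Q).obj
  haveI := hasRpush_scheme j
  haveI := hasLpull j
  obtain ⟨la⟩ := nonempty_lpull_rpush_adj j
  obtain ⟨P, hP, -, hgen⟩ := Perf52.genOn_qcqs (X := X) (T := Set.univ) isClosed_univ (by simp)
  have hEq : DCoh.IsQCohD E := isQCohD_rho j (a.obj Q).property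
  have hG : IsZero ((DCoh.Rpush j).obj E) := by
    refine hgen _ (isQCohD_rpush j hEq) (fun x hx => absurd (Set.mem_univ x) hx) fun n φ => ?_
    let se := shiftFunctorCompIsoId (DCoh.D X) n (-n) (add_neg_cancel n)
    let w : P⟦-n⟧ ⟶ (DCoh.Rpush j).obj E := φ⟦-n⟧' ≫ se.hom.app _
    suffices hw : w = 0 by
      have h0 : φ⟦-n⟧' = 0 := by rw [← cancel_mono (se.hom.app _), zero_comp]; exact hw
      exact (shiftFunctor (DCoh.D X) (-n)).map_injective
        (h0.trans ((shiftFunctor _ _).map_zero _ _).symm)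
    let P₀ := DerivedCategory.Q.objPreimage (P⟦-n⟧)
    let eP : DCoh.toD X P₀ ≅ P⟦-n⟧ := DerivedCategory.Q.objObjPreimageIso _
    let eL : (rho j).obj (DCoh.toD X P₀) ≅ (DCoh.Lpull j).obj (P⟦-n⟧) :=
      ((rho j).mapIso (eP ≪≫ (repKIso _).symm) ≪≫ (rhoQ j).app _ ≪≫
        DerivedCategory.Q.mapIso ((restrictPullCxIso j).app (repK (P⟦-n⟧))) ≪≫ lpullRepIso j _)
    refine (la.homEquiv _ _).symm.injective ?_
    refine eL.homFromEquiv.symm.injective ?_
    rw [eq_zero_of_vanish f hf a adj V Q c hQ P₀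
        (Perf52.isPerfect_of_iso eP.symm (Perf52.isPerfect_shift hP (-n))) (eL.homFromEquiv.symm _)]
    exact (eq_zero_of_vanish f hf a adj V Q c hQ P₀
        (Perf52.isPerfect_of_iso eP.symm (Perf52.isPerfect_shift hP (-n))) _).symm
  exact isZero_of_rho_rpush j hG

end Groth.Agent.DualityLC
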