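import Groth.Agent.DualityLC.RightAdjTriangle
import Groth.Agent.DualityLC.SupportProper

/-!
# The right adjoint of `Rf_*` commutes with restriction to opens of the base
-/

set_option autoImplicit false
set_option linter.style.haveILetI false
set_option backward.isDefEq.respectTransparency false

universe u

open CategoryTheory CategoryTheory.Limits AlgebraicGeometry Pretriangulated

attribute [local instance] HasDerivedCategory.standard

namespace Groth.Agent.DualityLC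

open KFlatLib

variable {X Y : Scheme.{u}}

/-- Restriction is left adjoint to `Rj_*`. -/
theorem nonempty_rho_rpush_adj (j : X ⟶ Y) [IsOpenImmersion j] [DCoh.HasRpush j] :
    Nonempty (rho j ⊣ DCoh.Rpush j) := by
  haveI := hasLpull j
  obtain ⟨la⟩ := nonempty_lpull_rpush_adj j
  haveI h : ∀ K, IsIso ((lpullComparison j).app ((kRes Y).obj K)) := fun K =>
    isIso_lpullComparison j (isKFlat_kRes K)
  let e : DCoh.Lpull j ≅ rho j := Dual349.natIsoOfKRes (NatIso.ofComponents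
    (fun K => asIso ((lpullComparison j).app ((kRes Y).obj K)) ≪≫
      DerivedCategory.Q.mapIso ((restrictPullCxIso j).app ((kRes Y).obj K)).symm ≪≫
      ((rhoQ j).app ((kRes Y).obj K)).symm)
    (fun {K L} g => by
      have n₁ := (lpullComparison j).naturality ((kRes Y).map g)
      have n₂ := congrArg DerivedCategory.Q.map ((restrictPullCxIso j).inv.naturality ((kRes Y).map g))
      have n₃ := (rhoQ j).inv.naturality ((kRes Y).map g)
      simp only [Functor.map_comp] at n₂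
      simp only [Iso.trans_hom, Functor.mapIso_hom, Iso.symm_hom, asIso_hom, Iso.app_inv,
        Category.assoc]
      refine ((Category.assoc _ _ _).symm.trans (congrArg (· ≫ _) n₁)).trans
        ((Category.assoc _ _ _).trans ?_)
      refine congrArg (_ ≫ ·) ?_
      refine ((Category.assoc _ _ _).symm.trans (congrArg (· ≫ _) n₂)).trans
        ((Category.assoc _ _ _).trans ?_)
      exact congrArg (_ ≫ ·) n₃))
  exact ⟨la.ofNatIsoLeft e⟩

/-- `ρ Rj_* = id`, objectwise. -/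
lemma nonempty_rho_rpush_obj_iso {U : Scheme.{u}} (j : U ⟶ X) [IsOpenImmersion j] [DCoh.HasRpush j]
    (E : DCoh.D U) : Nonempty ((rho j).obj ((DCoh.Rpush j).obj E) ≅ E) := by
  obtain ⟨J, _, _, ⟨eJ₀⟩⟩ := exists_kInjective_rep E
  let eJ := eJ₀.symm
  obtain ⟨e⟩ := nonempty_rpush_iso_of_kInjective j (I := J) (K := E) eJ
  exact ⟨(rho j).mapIso e ≪≫ (rhoQ j).app _ ≪≫
    DerivedCategory.Q.mapIso (asIso ((Perf52.pushCxAdj j).counit.app J)) ≪≫ eJ⟩

/-- Comparison of right adjoints along commuting left adjoints. -/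
lemma nonempty_iso_of_adjunctions {C D C' D' : Type*} [Category C] [Category D] [Category C'] [Category D']
    {F : C ⥤ D} {G : D ⥤ C} (adj : F ⊣ G) {F' : C' ⥤ D'} {G' : D' ⥤ C'} (adj' : F' ⊣ G')
    {R : C ⥤ C'} {R' : C' ⥤ C} (radj : R ⊣ R') {S : D ⥤ D'} (e : F ⋙ S ≅ R ⋙ F') (K : D) (L : D')
    (hS : ∀ d : D, Function.Bijective (fun φ : d ⟶ K => S.map φ)) (θ : S.obj K ≅ L) :
    Nonempty (G.obj K ≅ R'.obj (G'.obj L)) := by
  let eq : ∀ T : C, (T ⟶ G.obj K) ≃ (T ⟶ R'.obj (G'.obj L)) := fun T =>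
    (adj.homEquiv T K).symm.trans <| (Equiv.ofBijective _ (hS _)).trans <|
      ((e.app T).homFromEquiv).trans <| θ.homToEquiv.trans <|
        (adj'.homEquiv _ _).trans (radj.homEquiv _ _)
  have hM : ∀ {T T' : C} (v : T' ⟶ T) (z : T ⟶ G.obj K), eq T' (v ≫ z) = v ≫ eq T z := by
    intro T T' v z
    change radj.homEquiv _ _ (adj'.homEquiv _ _ (((e.app T').inv ≫ S.map ((adj.homEquiv T' K).symm (v ≫ z))) ≫ θ.hom)) =
      v ≫ radj.homEquiv _ _ (adj'.homEquiv _ _ (((e.app T).inv ≫ S.map ((adj.homEquiv T K).symm z)) ≫ θ.hom))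
    rw [← radj.homEquiv_naturality_left, ← adj'.homEquiv_naturality_left, adj.homEquiv_naturality_left_symm,
      Functor.map_comp]
    refine congrArg _ (congrArg _ ?_)
    simp only [← Category.assoc]
    exact congrArg (· ≫ θ.hom) (congrArg (· ≫ S.map ((adj.homEquiv T K).symm z)) (e.inv.naturality v).symm)
  exact ⟨Yoneda.fullyFaithful.preimageIso
    (NatIso.ofComponents (fun T => (eq T.unop).toIso) (fun {T T'} v => by ext z; exact hM v.unop z))⟩

/-- `(a K)|_{f ⁻¹ W} ≅ a_W (K|_W)`. -/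
theorem nonempty_rho_rightAdjoint_iso [IsNoetherian Y] (f : X ⟶ Y) [IsProper f] [DCoh.HasRpush f]
    (hf : DCoh.RpushPreservesQCoh f) (a : DCoh.DQCoh Y ⥤ DCoh.DQCoh X) (adj : DCoh.RpushQ f hf ⊣ a)
    (W : Y.Opens) [DCoh.HasRpush (f ∣_ W)] (hW : DCoh.RpushPreservesQCoh (f ∣_ W))
    (aW : DCoh.DQCoh (W : Scheme.{u}) ⥤ DCoh.DQCoh (f ⁻¹ᵁ W : Scheme.{u}))
    (adjW : DCoh.RpushQ (f ∣_ W) hW ⊣ aW)
    (K : DCoh.DQCoh Y) (c : ℤ) [DerivedCategory.IsGE K.obj c] :
    Nonempty ((rho (f ⁻¹ᵁ W).ι).obj (a.obj K).obj ≅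
      (aW.obj ⟨(rho W.ι).obj K.obj, isQCohD_rho W.ι K.property⟩).obj) := by
  haveI := isNoetherian_of_proper f
  let j := W.ι
  let j' := (f ⁻¹ᵁ W).ι
  haveI := hasRpush_scheme j'
  obtain ⟨ra'⟩ := nonempty_rho_rpush_adj j'
  obtain ⟨eRes⟩ := nonempty_rpush_restrictD_iso f W
  let KW : DCoh.DQCoh (W : Scheme.{u}) := ⟨(rho j).obj K.obj, isQCohD_rho j K.property⟩
  obtain ⟨E', η₀, hη, hbij, hq⟩ := Perf52.exists_push j K.obj
  let K' : DCoh.DQCoh Y := ⟨E', hq inferInstance inferInstance KW.property⟩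
  let η : K ⟶ K' := ObjectProperty.homMk η₀
  haveI : IsIso ((rho j).map η.hom) := hη
  obtain ⟨Q, v, w, v', w', hT, hT'⟩ := exists_rightAdjoint_triangle f hf a adj K K' η
  have hzQ : IsZero ((rho j).obj Q.obj) :=
    (Triangle.isZero₃_iff_isIso₁ _ ((rho j).map_distinguished _ hT)).2 (by assumption)
  obtain ⟨cK', hK'⟩ : ∃ cK' : ℤ, DerivedCategory.IsGE K'.obj cK' := by
    refine ⟨c, (DerivedCategory.isGE_iff _ _).2 fun i hi =>
      isZero_hd_of_orth K'.property (c - 1) (fun A _ hA φ => (hbij A).1 ?_) i (by omega)⟩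
    haveI := hA
    haveI : ((rho j).obj A).IsLE (c - 1) := (DerivedCategory.isLE_iff _ _).2 fun k hk =>
      (Functor.map_isZero _ (DerivedCategory.isZero_of_isLE A (c - 1) k hk)).of_iso (restrictHDIso j A k)
    haveI : ((rho j).obj K.obj).IsGE c := (DerivedCategory.isGE_iff _ _).2 fun k hk =>
      (Functor.map_isZero _ (DerivedCategory.isZero_of_isGE K.obj c k hk)).of_iso (restrictHDIso j K.obj k)
    haveI : ((rho j).obj E').IsGE c :=
      DerivedCategory.TStructure.t.isGE_of_iso (asIso ((rho j).map η.hom)) c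
    exact (DerivedCategory.TStructure.t.zero_of_isLE_of_isGE _ (c - 1) c (by omega) inferInstance inferInstance).trans
      ((rho j).map_zero _ _).symm
  haveI := hK'
  obtain ⟨cQ, hQ⟩ : ∃ cQ : ℤ, DerivedCategory.IsGE Q.obj cQ := by
    refine ⟨min c cK' - 1, (DerivedCategory.isGE_iff _ _).2 fun i hi => ?_⟩
    exact (DerivedCategory.HomologySequence.exact₂ _ (rot_of_distTriang _ hT) i).isZero_of_both_zeros
      ((DerivedCategory.isZero_of_isGE K'.obj cK' i (by omega)).eq_of_src _ _)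
      ((IsZero.of_iso (DerivedCategory.isZero_of_isGE K.obj c (i + 1) (by omega))
        (((DerivedCategory.homologyFunctor Y.Modules 0).shiftIso 1 i (i + 1) (by omega)).app K.obj)).eq_of_tgt _ _)
  haveI := hQ
  have hzA := isZero_rho_rightAdjoint f hf a adj W Q cQ hzQ
  haveI : IsIso ((rho j').map (a.map η).hom) :=
    (Triangle.isZero₃_iff_isIso₁ _ ((rho j').map_distinguished _ hT')).1 hzA
  let A : DCoh.DQCoh X := ⟨(DCoh.Rpush j').obj (aW.obj KW).obj, isQCohD_rpush j' (aW.obj KW).property⟩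
  let SY : DCoh.DQCoh Y ⥤ DCoh.DQCoh (W : Scheme.{u}) :=
    ObjectProperty.lift _ (ObjectProperty.ι _ ⋙ rho j) fun T => isQCohD_rho j T.property
  let R' : DCoh.DQCoh X ⥤ DCoh.DQCoh (f ⁻¹ᵁ W : Scheme.{u}) :=
    ObjectProperty.lift _ (ObjectProperty.ι _ ⋙ rho j') fun T => isQCohD_rho j' T.property
  let J' : DCoh.DQCoh (f ⁻¹ᵁ W : Scheme.{u}) ⥤ DCoh.DQCoh X :=
    ObjectProperty.lift _ (ObjectProperty.ι _ ⋙ DCoh.Rpush j') fun T => isQCohD_rpush j' T.property
  let radj : R' ⊣ J' := ra'.restrictFullyFaithful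
    (ObjectProperty.fullyFaithfulι _) (ObjectProperty.fullyFaithfulι _) (Iso.refl _) (Iso.refl _)
  let eS : DCoh.RpushQ f hf ⋙ SY ≅ R' ⋙ DCoh.RpushQ (f ∣_ W) hW :=
    NatIso.ofComponents (fun T => ObjectProperty.isoMk _ (eRes.app T.obj))
      (fun {T T'} v => ObjectProperty.hom_ext _ (eRes.hom.naturality v.hom))
  have hS : ∀ T : DCoh.DQCoh Y, Function.Bijective (fun φ : T ⟶ K' => SY.map φ) := fun T => by
    refine ⟨fun φ ψ h => ObjectProperty.hom_ext _ ((hbij T.obj).1 (congrArg (fun t => t.hom) h)),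
      fun y => ?_⟩
    obtain ⟨φ, hφ⟩ := (hbij T.obj).2 y.hom
    exact ⟨ObjectProperty.homMk φ, ObjectProperty.hom_ext _ hφ⟩
  let θ : SY.obj K' ≅ KW := ObjectProperty.isoMk _ (asIso ((rho j).map η.hom)).symm
  obtain ⟨iso⟩ := nonempty_iso_of_adjunctions adj adjW radj eS K' KW hS θ
  obtain ⟨e'⟩ := nonempty_rho_rpush_obj_iso j' (aW.obj KW).obj
  exact ⟨asIso ((rho j').map (a.map η).hom) ≪≫ (rho j').mapIso ((ObjectProperty.ι _).mapIso iso) ≪≫ e'⟩

end Groth.Agent.DualityLC
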