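import Groth.Agent.DualityLC.RpushAdjoint

/-!
# A right adjoint of `Rf_*` preserves coproducts when `Rf_*` preserves perfect objects
-/

set_option autoImplicit false
set_option linter.style.haveILetI false
set_option backward.isDefEq.respectTransparency false

universe u

open CategoryTheory CategoryTheory.Limits AlgebraicGeometry Pretriangulated

attribute [local instance] HasDerivedCategory.standard
attribute [local instance] Groth.Agent.DualityLC.isTriangulated_isQCohD
  Groth.Agent.DualityLC.isClosedUnderIso_isQCohD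

namespace Groth.Agent.DualityLC

theorem additive_rpush {X Y : Scheme.{u}} (f : X ⟶ Y) [DCoh.HasRpush f] : (DCoh.Rpush f).Additive := by
  haveI := KFlatLib.hasLpull f
  obtain ⟨adj⟩ := KFlatLib.nonempty_lpull_rpush_adj f
  haveI := adj.rightAdjoint_preservesLimits
  haveI : HasBinaryBiproducts (DCoh.D X) := HasBinaryBiproducts.of_hasBinaryProducts
  haveI := preservesBinaryBiproducts_of_preservesBinaryProducts (DCoh.Rpush f)
  exact Functor.additive_of_preservesBinaryBiproducts _

theorem isClosedUnderColimits_isQCohD (X : Scheme.{u}) (J : Type u) :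
    (DCoh.IsQCohD (X := X)).IsClosedUnderColimitsOfShape (Discrete J) where
  colimitsOfShape_le := by
    rintro Z ⟨p⟩
    haveI : HasColimitsOfShape (Discrete J) (DCoh.D X) := TriCat.hasColimitsOfShape_derivedCategory
    let e : p.diag ≅ Discrete.functor fun j => p.diag.obj ⟨j⟩ := Discrete.natIsoFunctor
    exact KFlatLib.isQCohD_of_iso (p.isColimit.coconePointsIsoOfNatIso (colimit.isColimit _) e).symm
      (KFlatLib.isQCohD_sigma _ fun j => p.prop_diag_obj ⟨j⟩)

attribute [local instance] isClosedUnderColimits_isQCohD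

/-- Maps from a perfect object into a coproduct in `D_QCoh` have finite support. -/
theorem exists_finite_support_qcoh {X : Scheme.{u}} [CompactSpace X] [QuasiSeparatedSpace X] (P : DCoh.DQCoh X)
    (hP : DCoh.IsPerfect P.obj) {J : Type u} (M : J → DCoh.DQCoh X) [HasCoproduct M] (φ : P ⟶ ∐ M) :
    ∃ (s : Finset J) (a : ∀ j, P ⟶ M j), φ = ∑ j ∈ s, a j ≫ Sigma.ι M j := by
  classical
  haveI : HasColimitsOfShape (Discrete J) (DCoh.D X) := TriCat.hasColimitsOfShape_derivedCategory
  let ι := ObjectProperty.ι (DCoh.IsQCohD (X := X))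
  let c := sigmaComparison ι M
  obtain ⟨F, hF⟩ := Perf52.fixAt_qcoh hP (fun j => (M j).obj) (fun j => (M j).property) (ι.map φ ≫ inv c)
  let a : ∀ j, P.obj ⟶ (M j).obj := fun j => ι.map φ ≫ inv c ≫
    Sigma.desc fun i => if h : i = j then eqToHom (congrArg (fun i => (M i).obj) h) else 0
  refine ⟨F, fun j => ι.preimage (a j), ι.map_injective ?_⟩
  rw [Functor.map_sum]
  simp only [Functor.map_comp, Functor.map_preimage]
  have key : ∀ j, a j ≫ ι.map (Sigma.ι M j) = (ι.map φ ≫ inv c) ≫ (Sigma.desc fun i =>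
      if h : i = j then eqToHom (congrArg (fun i => (M i).obj) h) else 0) ≫ Sigma.ι (fun j => (M j).obj) j ≫ c := fun j => by
    simp only [a, Category.assoc]
    exact congrArg (fun z => ι.map φ ≫ inv c ≫ (Sigma.desc fun i =>
      if h : i = j then eqToHom (congrArg (fun i => (M i).obj) h) else 0) ≫ z) (ι_comp_sigmaComparison ι M j).symm
  simp only [key, ← Preadditive.comp_sum]
  rw [← cancel_mono (inv c), Category.assoc]
  refine hF.symm.trans (congrArg ((ι.map φ ≫ inv c) ≫ ·) ?_)
  refine Sigma.hom_ext _ _ fun i => ?_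
  rw [← Category.assoc, Preadditive.comp_sum, Preadditive.sum_comp]
  by_cases hi : i ∈ F
  · rw [KFlatLib.ι_partProj_mem _ hi, Finset.sum_eq_single i (fun b _ hb => by erw [Sigma.ι_desc_assoc]; simp [Ne.symm hb])
      (fun h => absurd hi h)]
    erw [Sigma.ι_desc_assoc]
    simp
    exact (Category.id_comp _).symm
  · rw [KFlatLib.ι_partProj_not_mem _ hi]
    exact (Finset.sum_eq_zero fun b hb => by
      erw [Sigma.ι_desc_assoc]
      simp [show i ≠ b from fun h => hi (h ▸ hb)]).symm

/-- If `Rf_*` preserves perfect objects, its right adjoint preserves coproducts. -/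
theorem preservesCoproducts_rightAdjoint {X Y : Scheme.{u}} [CompactSpace X] [QuasiSeparatedSpace X]
    [CompactSpace Y] [QuasiSeparatedSpace Y] (f : X ⟶ Y) [DCoh.HasRpush f]
    (h : ∀ K : DCoh.D X, DCoh.IsQCohD K → DCoh.IsQCohD ((DCoh.Rpush f).obj K))
    (hperf : ∀ E : DCoh.D X, DCoh.IsPerfect E → DCoh.IsPerfect ((DCoh.Rpush f).obj E))
    (a : DCoh.DQCoh Y ⥤ DCoh.DQCoh X)
    (adj : (ObjectProperty.lift DCoh.IsQCohD (ObjectProperty.ι DCoh.IsQCohD ⋙ DCoh.Rpush f)
      (fun K => h K.obj K.property)) ⊣ a) (J : Type u) : PreservesColimitsOfShape (Discrete J) a := by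
  classical
  haveI := additive_rpush f
  let F₀ := ObjectProperty.lift DCoh.IsQCohD (ObjectProperty.ι DCoh.IsQCohD ⋙ DCoh.Rpush f)
    (fun K => h K.obj K.property)
  haveI : F₀.Additive := ⟨fun {K L g g'} => ObjectProperty.hom_ext _ ((DCoh.Rpush f).map_add (f := g.hom) (g := g'.hom))⟩
  haveI : a.Additive := adj.right_adjoint_additive
  haveI : HasColimitsOfShape (Discrete J) (DCoh.D Y) := TriCat.hasColimitsOfShape_derivedCategory
  haveI : HasColimitsOfShape (Discrete J) (DCoh.D X) := TriCat.hasColimitsOfShape_derivedCategory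
  refine ⟨fun {K} => ?_⟩
  let Q := fun j => K.obj ⟨j⟩
  haveI : IsIso (sigmaComparison a Q) := by
    obtain ⟨P, hP, -, hgen⟩ := Perf52.genOn_qcqs (X := X) (T := Set.univ) isClosed_univ (by simp)
    let P₀ : DCoh.DQCoh X := ⟨P, Perf52.isQCohD_of_isPerfect hP⟩
    have hperf' : ∀ n : ℤ, DCoh.IsPerfect (P₀⟦n⟧).obj := fun n =>
      Perf52.isPerfect_of_iso (((ObjectProperty.ι (DCoh.IsQCohD (X := X))).commShiftIso n).app P₀).symm
        (Perf52.isPerfect_shift hP n)
    refine TriCat.isIso_of_bijective_on_generators (fun n : ULift.{u + 1} ℤ => P₀⟦n.down⟧) ?_ ?_ _ fun n => ?_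
    · intro Z hZ
      refine (IsZero.iff_id_eq_zero Z).2 (ObjectProperty.hom_ext _ ?_)
      refine (IsZero.iff_id_eq_zero _).1 (hgen _ Z.property (fun _ hx => absurd trivial hx) fun n φ => ?_)
      refine Perf52.eq_zero_of_shift' n (fun ψ => ?_) φ
      let ι := ObjectProperty.ι (DCoh.IsQCohD (X := X))
      let e := (ι.commShiftIso (-n)).app P₀
      rw [← cancel_epi e.hom, comp_zero, ← ι.map_preimage (e.hom ≫ ψ), hZ ⟨-n⟩ (ι.preimage (e.hom ≫ ψ)),
        Functor.map_zero]
    · exact fun n => ⟨⟨n.down + -1⟩, ⟨(shiftFunctorAdd' (DCoh.DQCoh X) n.down (-1) _ rfl).app P₀⟩⟩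
    · let E := P₀⟦n.down⟧
      have hcomp : ∀ (j : J) (b : E ⟶ a.obj (Q j)),
          (adj.homEquiv E (∐ Q)).symm (b ≫ a.map (Sigma.ι Q j)) = (adj.homEquiv E (Q j)).symm b ≫ Sigma.ι Q j :=
        fun j b => adj.homEquiv_naturality_right_symm b (Sigma.ι Q j)
      have hsum : ∀ (s : Finset J) (b : ∀ j, E ⟶ a.obj (Q j)),
          (adj.homEquiv E (∐ Q)).symm ((∑ j ∈ s, b j ≫ Sigma.ι (fun j => a.obj (Q j)) j) ≫ sigmaComparison a Q) =
            ∑ j ∈ s, (adj.homEquiv E (Q j)).symm (b j) ≫ Sigma.ι Q j := fun s b => by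
        rw [Preadditive.sum_comp, ← Adjunction.homAddEquiv_symm_apply adj, map_sum]
        refine Finset.sum_congr rfl fun j _ => ?_
        rw [Adjunction.homAddEquiv_symm_apply, Category.assoc, ι_comp_sigmaComparison, hcomp]
      constructor
      · intro φ φ' hφ
        refine sub_eq_zero.1 ?_
        obtain ⟨s, b, hb⟩ := exists_finite_support_qcoh E (hperf' n.down) (fun j => a.obj (Q j)) (φ - φ')
        rw [hb]
        refine Finset.sum_eq_zero fun j hj => ?_
        have h0 : ∑ i ∈ s, (adj.homEquiv E (Q i)).symm (b i) ≫ Sigma.ι Q i = 0 := by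
          rw [← hsum, ← hb, Preadditive.sub_comp, show φ ≫ sigmaComparison a Q = φ' ≫ sigmaComparison a Q from hφ,
            sub_self, ← Adjunction.homAddEquiv_symm_apply adj, map_zero]
        have h1 := congrArg (· ≫ Sigma.desc fun i => if h : i = j then eqToHom (congrArg Q h) else 0) h0
        simp only [Preadditive.sum_comp, zero_comp, Category.assoc, Sigma.ι_desc] at h1
        rw [Finset.sum_eq_single j (fun i _ hi => by rw [dif_neg hi, comp_zero]) (fun hn => absurd hj hn),
          dif_pos rfl, eqToHom_refl, Category.comp_id, ← Adjunction.homAddEquiv_symm_apply adj] at h1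
        rw [(adj.homAddEquiv E (Q j)).symm.map_eq_zero_iff.1 h1, zero_comp]
      · intro φ
        obtain ⟨s, b, hb⟩ := exists_finite_support_qcoh (F₀.obj E) (hperf _ (hperf' n.down)) Q
          ((adj.homEquiv E (∐ Q)).symm φ)
        refine ⟨∑ j ∈ s, adj.homEquiv E (Q j) (b j) ≫ Sigma.ι (fun j => a.obj (Q j)) j, ?_⟩
        refine (adj.homEquiv E (∐ Q)).symm.injective ?_
        rw [hsum, hb]
        exact Finset.sum_congr rfl fun j _ => by rw [Equiv.symm_apply_apply]
  haveI : PreservesColimit (Discrete.functor (K.obj ∘ Discrete.mk)) a := PreservesCoproduct.of_iso_comparison a Q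
  exact preservesColimit_of_iso_diagram a (Discrete.natIsoFunctor (F := K)).symm

end Groth.Agent.DualityLC
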