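import Groth.Agent.DualityLC.FlatProperPerfect
import Groth.Agent.DualityLC.RightAdjCoprod
import Groth.Agent.DEqT.HomFinite
import Groth.Agent.Perf52.Trunc

/-!
# Finiteness of maps from perfect objects into a right adjoint of `Rf_*`
-/

set_option autoImplicit false
set_option linter.style.haveILetI false
set_option backward.isDefEq.respectTransparency false

universe u

open CategoryTheory CategoryTheory.Limits AlgebraicGeometry Pretriangulated

attribute [local instance] HasDerivedCategory.standard

namespace Groth.Agent.DualityLC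

open KFlatLib

variable {A : Type u} [CommRing A]

/-- `Rf_*` is linear over the base ring. -/
theorem linear_rpush {X Y : Scheme.{u}} [X.Over (Spec (CommRingCat.of A))] [Y.Over (Spec (CommRingCat.of A))]
    (f : X ⟶ Y) [f.IsOver (Spec (CommRingCat.of A))] [DCoh.HasRpush f] :
    Functor.Linear A (DCoh.Rpush f) := by
  haveI := TriCat.qh_isLeftAdjoint_of_exists_resolution (A := X.Modules) exists_kInjective_res
  let adjQ := Adjunction.ofIsLeftAdjoint (DerivedCategory.Qh (C := X.Modules))
  let ρ := (DerivedCategory.Qh (C := X.Modules)).rightAdjoint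
  let W := HomotopyCategory.quasiIso X.Modules (ComplexShape.up ℤ)
  haveI : (ρ ⋙ DCoh.pushKh f).IsRightDerivedFunctor
      (Functor.whiskerRight adjQ.unit (DCoh.pushKh f)) W :=
    TriCat.isRightDerivedFunctor_of_adjunction adjQ W (DCoh.pushKh f)
  let e : ρ ⋙ DCoh.pushKh f ≅ DCoh.Rpush f :=
    Functor.rightDerivedUnique _ _ (Functor.whiskerRight adjQ.unit (DCoh.pushKh f))
      ((DCoh.pushKh f).totalRightDerivedUnit DerivedCategory.Qh W) W
  haveI : Functor.Linear A ρ := DEqT.linear_rightAdjoint adjQ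
  haveI : ρ.Additive := adjQ.right_adjoint_additive
  haveI : Functor.Linear A ((Scheme.Modules.pushforward f).mapHomotopyCategory (ComplexShape.up ℤ)) := by
    refine ⟨fun {K L} φ r => ?_⟩
    obtain ⟨g, rfl⟩ := (HomotopyCategory.quotient X.Modules (ComplexShape.up ℤ)).map_surjective φ
    rw [← Functor.map_smul]
    show (HomotopyCategory.quotient Y.Modules (ComplexShape.up ℤ)).map
        (((Scheme.Modules.pushforward f).mapHomologicalComplex (ComplexShape.up ℤ)).map (r • g)) =
      r • (HomotopyCategory.quotient Y.Modules (ComplexShape.up ℤ)).map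
        (((Scheme.Modules.pushforward f).mapHomologicalComplex (ComplexShape.up ℤ)).map g)
    rw [← Functor.map_smul]
    congr 1
    ext i : 1
    exact Functor.map_smul (F := Scheme.Modules.pushforward f) r (g.f i)
  haveI : Functor.Linear A (ρ ⋙ DCoh.pushKh f) := by
    haveI : Functor.Linear A (DCoh.pushKh f) := inferInstanceAs (Functor.Linear A
      ((Scheme.Modules.pushforward f).mapHomotopyCategory (ComplexShape.up ℤ) ⋙ DerivedCategory.Qh))
    infer_instance
  refine ⟨fun {K L} φ r => ?_⟩
  rw [← cancel_epi (e.hom.app K)]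
  refine (e.hom.naturality (r • φ)).symm.trans ?_
  rw [Functor.map_smul, Linear.smul_comp, Linear.comp_smul]
  exact congrArg (r • ·) (e.hom.naturality φ)

/-- Maps from a perfect object of `Spec A` to a bounded below coherent object form a finite module. -/
theorem finite_hom_affine [IsNoetherianRing A]
    [(Spec (CommRingCat.of A)).Over (Spec (CommRingCat.of A))]
    [IsProper (Spec (CommRingCat.of A) ↘ Spec (CommRingCat.of A))]
    (E K : DCoh.D (Spec (CommRingCat.of A))) (hE : DCoh.IsPerfect E) (c : ℤ) [K.IsGE c]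
    (hK : DCoh.IsCohD K) : Module.Finite A (E ⟶ K) := by
  obtain ⟨-, a₀, b₀, -, hEa, hEb⟩ := bddCoh_of_isPerfect hE
  haveI := hEa
  haveI := hEb
  let N := max (b₀ + 2) (c + 1)
  obtain ⟨T₁, T₃, g₁, g₂, d, hT, hA, hB, hf, hg⟩ := Perf52.exists_trunc K N
  haveI := hA
  haveI := hB
  have hge : T₁.IsGE c := (DerivedCategory.isGE_iff T₁ c).2 fun i hi => by
    haveI := hf i (by omega)
    exact (DerivedCategory.isZero_of_isGE K c i hi).of_iso
      (asIso ((DerivedCategory.homologyFunctor _ i).map g₁))
  have hc : DCoh.IsCohD T₁ := fun i => by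
    by_cases hi : i < N
    · haveI := hf i hi
      exact isCoh_of_iso (asIso ((DerivedCategory.homologyFunctor _ i).map g₁)).symm (hK i)
    · exact isCoh_of_isZero (DerivedCategory.isZero_of_isLE T₁ (N - 1) i (by omega))
  have h1 : Module.Finite A (E ⟶ T₁) := by
    have h := (DEqT.finite_hom_perfect (A := A) E hE T₁ ⟨hc, c, N - 1, hge, hA⟩).1 0
    exact Module.Finite.equiv (Linear.homCongr A (Iso.refl E) ((shiftFunctorZero (DCoh.D _) ℤ).app T₁))
  haveI := h1
  refine Module.Finite.of_surjective (Linear.rightComp A E g₁) fun φ => ?_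
  have hz : φ ≫ g₂ = 0 :=
    DerivedCategory.TStructure.t.zero_of_isLE_of_isGE _ b₀ N (by omega) inferInstance inferInstance
  obtain ⟨ψ, hψ⟩ := Triangle.coyoneda_exact₂ _ hT φ hz
  exact ⟨ψ, hψ.symm⟩

variable [IsNoetherianRing A] {P : Scheme.{u}} [P.Over (Spec (CommRingCat.of A))]

/-- Maps from a perfect object into `a K` form a finite module, for `f` flat and proper. -/
theorem finite_hom_rightAdjoint (f : P ⟶ Spec (CommRingCat.of A)) [IsProper f] [Flat f] [DCoh.HasRpush f]
    [(Spec (CommRingCat.of A)).Over (Spec (CommRingCat.of A))]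
    [IsProper (Spec (CommRingCat.of A) ↘ Spec (CommRingCat.of A))]
    [f.IsOver (Spec (CommRingCat.of A))]
    (hf : DCoh.RpushPreservesQCoh f) (a : DCoh.DQCoh (Spec (CommRingCat.of A)) ⥤ DCoh.DQCoh P)
    (adj : DCoh.RpushQ f hf ⊣ a) (K : DCoh.DQCoh (Spec (CommRingCat.of A))) (c : ℤ)
    [DerivedCategory.IsGE K.obj c] (hK : DCoh.IsCohD K.obj) (E : DCoh.D P) (hE : DCoh.IsPerfect E)
    (n : ℤ) : Module.Finite A (E ⟶ (a.obj K).obj⟦n⟧) := by
  haveI : IsLocallyNoetherian P := LocallyOfFiniteType.isLocallyNoetherian f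
  haveI : CompactSpace P := QuasiCompact.compactSpace_of_compactSpace f
  haveI : IsNoetherian P := {}
  have hE' := Perf52.isPerfect_shift hE (-n)
  let E' : DCoh.DQCoh P := ⟨E⟦-n⟧, Perf52.isQCohD_of_isPerfect hE'⟩
  haveI := linear_rpush (A := A) f
  let e : (E'.obj ⟶ (a.obj K).obj) ≃ₗ[A] ((DCoh.Rpush f).obj E'.obj ⟶ K.obj) :=
    { toFun := fun φ => ((adj.homEquiv E' K).symm (ObjectProperty.homMk φ)).hom
      invFun := fun ψ => ((adj.homEquiv E' K) (ObjectProperty.homMk ψ)).hom
      left_inv := fun φ => congrArg (fun t => t.hom)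
        (((adj.homEquiv E' K).apply_symm_apply _) : _ = (ObjectProperty.homMk φ : E' ⟶ a.obj K))
      right_inv := fun ψ => congrArg (fun t => t.hom)
        (((adj.homEquiv E' K).symm_apply_apply _) : _ = (ObjectProperty.homMk ψ : (DCoh.RpushQ f hf).obj E' ⟶ K))
      map_add' := fun φ φ' => by
        simp only [Adjunction.homEquiv_counit]
        haveI := additive_rpush f
        show (DCoh.Rpush f).map (φ + φ') ≫ _ = (DCoh.Rpush f).map φ ≫ _ + (DCoh.Rpush f).map φ' ≫ _
        rw [Functor.map_add, Preadditive.add_comp]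
      map_smul' := fun r φ => by
        simp only [Adjunction.homEquiv_counit, RingHom.id_apply]
        show (DCoh.Rpush f).map (r • φ) ≫ _ = r • ((DCoh.Rpush f).map φ ≫ _)
        rw [Functor.map_smul, Linear.smul_comp] }
  haveI := finite_hom_affine (A := A) ((DCoh.Rpush f).obj E'.obj) K.obj
    (isPerfect_rpush_of_flat_proper f _ hE') c hK
  haveI : Module.Finite A (E'.obj ⟶ (a.obj K).obj) := Module.Finite.equiv e.symm
  let s : (E ⟶ (a.obj K).obj⟦n⟧) →ₗ[A] (E'.obj ⟶ (a.obj K).obj) :=
    (Linear.rightComp A E'.obj ((shiftFunctorCompIsoId (DCoh.D P) n (-n) (add_neg_cancel n)).hom.app _)) ∘ₗ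
      (shiftFunctor (DCoh.D P) (-n)).mapLinearMap A
  refine Module.Finite.of_injective s fun φ φ' h => ?_
  exact (shiftFunctor (DCoh.D P) (-n)).map_injective ((cancel_mono _).1 h)

end Groth.Agent.DualityLC
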