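import Groth.Agent.DualityLC.CoherentTwist
import Groth.Agent.DualityLC.RightAdjHomFinite
import Groth.Agent.DualityLC.LocalizeRightAdj
import Groth.Agent.DualityLC.GraphClosure
import Groth.Agent.DualityLC.FlatPushAmp
import Groth.Agent.Dual349.ClosedDuality
import Groth.Agent.KRRLib.PnBC.FlatPn

/-!
# A right adjoint of `Rf_*` preserves coherence for proper `f`
-/

set_option autoImplicit false
set_option linter.style.haveILetI false
set_option backward.isDefEq.respectTransparency false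

universe u

open CategoryTheory CategoryTheory.Limits AlgebraicGeometry

attribute [local instance] HasDerivedCategory.standard

namespace Groth.Agent.DualityLC

open KFlatLib

/-- A locally free module in degree zero is perfect. -/
theorem isPerfect_single_finLocFree {X : Scheme.{u}} {M : X.Modules} (hM : FlatMod.IsFinLocFree M) :
    DCoh.IsPerfect (DerivedCategory.Q.obj ((HomologicalComplex.single X.Modules (ComplexShape.up ℤ) 0).obj M)) :=
  isPerfect_of_rep (Iso.refl _) fun x => ⟨⊤, trivial, _, by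
    refine ⟨⟨0, 0, fun i hi => (Scheme.Modules.restrictFunctor (⊤ : X.Opens).ι).map_isZero
      (HomologicalComplex.isZero_single_obj_X (ComplexShape.up ℤ) 0 M i (by omega))⟩, fun i => ?_⟩
    refine isFinLocFree_restrict _ ?_
    by_cases hi : i = 0
    · subst hi
      exact H23.PullPush.isFinLocFree_of_iso (HomologicalComplex.singleObjXSelf (ComplexShape.up ℤ) 0 M).symm hM
    · exact isFinLocFree_of_isZero (HomologicalComplex.isZero_single_obj_X (ComplexShape.up ℤ) 0 M i hi),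
    ⟨Iso.refl _⟩⟩

variable {A : Type u} [CommRing A] [IsNoetherianRing A]

/-- The right adjoint on projective space preserves coherence. -/
theorem isCohD_projSpace (n : ℕ) [DCoh.HasRpush (CohB1.ProjSpace.toSpec n A)]
    (hq : DCoh.RpushPreservesQCoh (CohB1.ProjSpace.toSpec n A))
    (a : DCoh.DQCoh (Spec (CommRingCat.of A)) ⥤ DCoh.DQCoh (CohB1.ProjSpace n A))
    (adj : DCoh.RpushQ (CohB1.ProjSpace.toSpec n A) hq ⊣ a)
    (K : DCoh.DQCoh (Spec (CommRingCat.of A))) (c : ℤ) [DerivedCategory.IsGE K.obj c]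
    (hK : DCoh.IsCohD K.obj) : DCoh.IsCohD (a.obj K).obj := by
  let q := CohB1.ProjSpace.toSpec n A
  haveI : IsProper q := PnCoh.Chow.isProper_toSpec n A
  haveI : Flat q := KRRLib.PnBC.flat_toSpec n A
  letI oP : (CohB1.ProjSpace n A).Over (Spec (CommRingCat.of A)) := ⟨q⟩
  letI oS : (Spec (CommRingCat.of A)).Over (Spec (CommRingCat.of A)) := ⟨𝟙 _⟩
  haveI : IsProper (Spec (CommRingCat.of A) ↘ Spec (CommRingCat.of A)) :=
    inferInstanceAs (IsProper (𝟙 (Spec (CommRingCat.of A))))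
  haveI : q.IsOver (Spec (CommRingCat.of A)) := ⟨Category.comp_id _⟩
  haveI : IsNoetherian (CohB1.ProjSpace n A) := isNoetherian_of_proper q
  haveI : IsLocallyNoetherian (Proj (CohB1.polyGrading n A)) :=
    inferInstanceAs (IsLocallyNoetherian (CohB1.ProjSpace n A))
  let f : ULift.{u} (Fin (n + 1)) → MvPolynomial (Fin (n + 1)) A := fun j => MvPolynomial.X j.down
  have hf : ∀ j, f j ∈ CohB1.polyGrading n A 1 := fun j => MvPolynomial.isHomogeneous_X A j.down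
  have hcov : ⨆ j, PnCoh.Finite.D (CohB1.polyGrading n A) (f j) = ⊤ := by
    refine top_le_iff.1 ?_
    refine le_trans (PnCoh.iSup_mOpen_single (ι := Fin (n + 1)) (R := A)).ge ?_
    exact iSup_le fun j => le_iSup_of_le (ULift.up j) le_rfl
  haveI : (CohB1.ProjSpace n A).IsSeparated :=
    ⟨by rw [← terminal.comp_from q]; infer_instance⟩
  obtain ⟨c', hc'⟩ := exists_isGE_rightAdjoint q hq a adj K c
  haveI := hc'
  obtain ⟨I, -, hI, ⟨eI⟩⟩ := Perf52.exists_qcoh_rep (X := CohB1.ProjSpace n A)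
    (fun U V hU hV => hU.inf hV) (a.obj K).property (a := c')
    (fun i hi => DerivedCategory.isZero_of_isGE (a.obj K).obj c' i hi)
  intro i
  letI : (Proj (CohB1.polyGrading n A)).Over (Spec (CommRingCat.of A)) := oP
  refine CohTwist.isCoh_hd (R₀ := A) hf hcov (a.obj K).obj I hI eI (fun d m => ?_) i
  exact finite_hom_rightAdjoint q hq a adj K c hK _ (isPerfect_single_finLocFree
    (H23.PullPush.isFinLocFree_of_isInvertible (PnCoh.Finite.isInvertible_twist f hf hcov _))) m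

/-- Composition of derived direct images, with the composite named. -/
lemma nonempty_rpush_comp' {X Y Z : Scheme.{u}} (f : X ⟶ Y) (g : Y ⟶ Z) (h : X ⟶ Z) (e : f ≫ g = h)
    [DCoh.HasRpush f] [DCoh.HasRpush g] [DCoh.HasRpush h] :
    Nonempty (DCoh.Rpush f ⋙ DCoh.Rpush g ≅ DCoh.Rpush h) := by
  subst e
  exact nonempty_rpush_comp f g

/-- Right adjoints along a commutative square. -/
lemma nonempty_rightAdjoint_square {X' X P S : Scheme.{u}} (π : X' ⟶ X) (f : X ⟶ S) (g : X' ⟶ P)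
    (q : P ⟶ S) (w : π ≫ f = g ≫ q) [DCoh.HasRpush π] [DCoh.HasRpush f] [DCoh.HasRpush g]
    [DCoh.HasRpush q] (hπ : DCoh.RpushPreservesQCoh π) (hf : DCoh.RpushPreservesQCoh f)
    (hg : DCoh.RpushPreservesQCoh g) (hq : DCoh.RpushPreservesQCoh q)
    (aπ : DCoh.DQCoh X ⥤ DCoh.DQCoh X') (adjπ : DCoh.RpushQ π hπ ⊣ aπ)
    (af : DCoh.DQCoh S ⥤ DCoh.DQCoh X) (adjf : DCoh.RpushQ f hf ⊣ af)
    (ag : DCoh.DQCoh P ⥤ DCoh.DQCoh X') (adjg : DCoh.RpushQ g hg ⊣ ag)
    (aq : DCoh.DQCoh S ⥤ DCoh.DQCoh P) (adjq : DCoh.RpushQ q hq ⊣ aq) :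
    Nonempty (af ⋙ aπ ≅ aq ⋙ ag) := by
  haveI := hasRpush_scheme (π ≫ f)
  obtain ⟨e₁⟩ := nonempty_rpush_comp' π f (π ≫ f) rfl
  obtain ⟨e₂⟩ := nonempty_rpush_comp' g q (π ≫ f) w.symm
  let e : DCoh.RpushQ π hπ ⋙ DCoh.RpushQ f hf ≅ DCoh.RpushQ g hg ⋙ DCoh.RpushQ q hq :=
    NatIso.ofComponents (fun T => ObjectProperty.isoMk _ ((e₁ ≪≫ e₂.symm).app T.obj))
      (fun {T T'} v => ObjectProperty.hom_ext _ ((e₁ ≪≫ e₂.symm).hom.naturality v.hom))
  exact ⟨(adjπ.comp adjf).rightAdjointUniq ((adjg.comp adjq).ofNatIsoLeft e.symm)⟩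

variable {X : Scheme.{u}} (f : X ⟶ Spec (CommRingCat.of A)) [IsProper f] [DCoh.HasRpush f]

/-- Coherence on an affine open, over an affine base. -/
theorem isCohD_rho_affine (hf : DCoh.RpushPreservesQCoh f)
    (a : DCoh.DQCoh (Spec (CommRingCat.of A)) ⥤ DCoh.DQCoh X) (adj : DCoh.RpushQ f hf ⊣ a)
    (K : DCoh.DQCoh (Spec (CommRingCat.of A))) (c : ℤ) [DerivedCategory.IsGE K.obj c]
    (hK : DCoh.IsCohD K.obj) (U : X.Opens) (hU : IsAffineOpen U) :
    DCoh.IsCohD ((rho U.ι).obj (a.obj K).obj) := by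
  haveI := isNoetherian_of_proper f
  obtain ⟨n, g₀, O, h1, h2, hcl, -⟩ := exists_chart_embedding f U hU
  haveI := hcl
  let q := CohB1.ProjSpace.toSpec n A
  haveI : IsProper q := PnCoh.Chow.isProper_toSpec n A
  haveI : IsNoetherian (CohB1.ProjSpace n A) := isNoetherian_of_proper q
  obtain ⟨X', π, g, hπp, hgp, w, hπiso, hgcl, hpre⟩ := exists_graph_closure f q U g₀ h1 O h2
  haveI := hπp
  haveI := hgp
  haveI := hπiso
  haveI := hgcl
  haveI : IsNoetherian X' := isNoetherian_of_proper π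
  haveI := hasRpush_scheme q
  haveI := hasRpush_scheme π
  haveI := hasRpush_scheme g
  have hq : DCoh.RpushPreservesQCoh q := fun K hK => isQCohD_rpush q hK
  have hπ : DCoh.RpushPreservesQCoh π := fun K hK => isQCohD_rpush π hK
  have hg : DCoh.RpushPreservesQCoh g := fun K hK => isQCohD_rpush g hK
  haveI := isLeftAdjoint_rpush q hq
  haveI := isLeftAdjoint_rpush π hπ
  haveI := isLeftAdjoint_rpush g hg
  let aq := (DCoh.RpushQ q hq).rightAdjoint
  let adjq : DCoh.RpushQ q hq ⊣ aq := Adjunction.ofIsLeftAdjoint _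
  let aπ := (DCoh.RpushQ π hπ).rightAdjoint
  let adjπ : DCoh.RpushQ π hπ ⊣ aπ := Adjunction.ofIsLeftAdjoint _
  let ag := (DCoh.RpushQ g hg).rightAdjoint
  let adjg : DCoh.RpushQ g hg ⊣ ag := Adjunction.ofIsLeftAdjoint _
  obtain ⟨esq⟩ := nonempty_rightAdjoint_square π f g q w hπ hf hg hq aπ adjπ a adj ag adjg aq adjq
  -- the chart of projective space
  let M := aq.obj K
  have hM : DCoh.IsCohD M.obj := isCohD_projSpace n hq aq adjq K c hK
  obtain ⟨cM, hcM⟩ := exists_isGE_rightAdjoint q hq aq adjq K c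
  haveI := hcM
  have hN := isCohD_rpush_rightAdjoint g hg ag adjg M cM hM
  haveI := hasRpush_scheme (g ∣_ O)
  obtain ⟨eg⟩ := nonempty_rpush_restrictD_iso g O
  haveI : IsLocallyNoetherian (O : Scheme.{u}) := isLocallyNoetherian_of_isOpenImmersion O.ι
  have hN' : DCoh.IsCohD ((DCoh.Rpush (g ∣_ O)).obj ((rho (g ⁻¹ᵁ O).ι).obj (ag.obj M).obj)) :=
    isCohD_of_iso (eg.app (ag.obj M).obj) (isCohD_rho O.ι hN)
  haveI := Dual349.preservesFiniteLimits_push (g ∣_ O)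
  haveI := Dual349.preservesFiniteColimits_push (g ∣_ O)
  obtain ⟨ep⟩ := Dual349.nonempty_rpush_iso_pushD (g ∣_ O)
  have hNO : DCoh.IsCohD ((rho (g ⁻¹ᵁ O).ι).obj (ag.obj M).obj) :=
    Dual349.isCohD_of_pushD (g ∣_ O) (isCohD_of_iso (ep.app _) hN')
  have hNU : DCoh.IsCohD ((rho (π ⁻¹ᵁ U).ι).obj (aπ.obj (a.obj K)).obj) := by
    rw [hpre]
    exact isCohD_of_iso ((rho (g ⁻¹ᵁ O).ι).mapIso ((ObjectProperty.ι _).mapIso (esq.app K)).symm) hNO
  -- back to `U`
  obtain ⟨cL, hcL⟩ := exists_isGE_rightAdjoint f hf a adj K c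
  haveI := hcL
  let Rc := DerivedCategory.Q.objPreimage ((DCoh.Rpush π).obj (DCoh.inD X' (Coh.structureModule X')))
  let eRc : DCoh.toD X Rc ≅ (DCoh.Rpush π).obj (DCoh.inD X' (Coh.structureModule X')) :=
    DerivedCategory.Q.objObjPreimageIso _
  haveI := hasLTensorCx Rc
  haveI := DEqT.hasRSheafHom Rc
  obtain ⟨e₁⟩ := nonempty_rpush_rightAdjoint_iso π hπ aπ adjπ Rc ⟨eRc⟩ (a.obj K) cL
  let RU := (rCx U.ι).obj Rc
  haveI := hasLTensorCx RU
  haveI := DEqT.hasRSheafHom RU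
  obtain ⟨e₂⟩ := nonempty_rho_RSheafHom U.ι Rc RU rfl (a.obj K).obj cL
  haveI := hasRpush_scheme (π ∣_ U)
  obtain ⟨eπ⟩ := nonempty_rpush_restrictD_iso π U
  let e := asIso (π ∣_ U)
  haveI : DCoh.HasRpush e.hom := inferInstanceAs (DCoh.HasRpush (π ∣_ U))
  obtain ⟨s₁⟩ := nonempty_rho_inD (π ⁻¹ᵁ U).ι (Coh.structureModule X')
  obtain ⟨s₂⟩ := nonempty_rho_inD e.inv (Coh.structureModule (π ⁻¹ᵁ U : Scheme.{u}))
  obtain ⟨r₁⟩ := nonempty_rpush_iso_rho e ((rho (π ⁻¹ᵁ U).ι).obj (DCoh.inD X' (Coh.structureModule X')))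
  obtain ⟨r₂⟩ := nonempty_rpush_iso_rho e ((rho (π ⁻¹ᵁ U).ι).obj (aπ.obj (a.obj K)).obj)
  have hRU : Nonempty (DCoh.toD (U : Scheme.{u}) RU ≅ DCoh.inD _ (Coh.structureModule (U : Scheme.{u}))) :=
    ⟨((rhoQ U.ι).app Rc).symm ≪≫ (rho U.ι).mapIso eRc ≪≫ eπ.app _ ≪≫ r₁ ≪≫
      (rho e.inv).mapIso (s₁ ≪≫ (DerivedCategory.singleFunctor _ 0).mapIso (restrictStructureIso _)) ≪≫
      s₂ ≪≫ (DerivedCategory.singleFunctor _ 0).mapIso (restrictStructureIso _)⟩
  obtain ⟨u⟩ := nonempty_RSheafHom_unit RU hRU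
  exact isCohD_of_iso (r₂.symm ≪≫ (eπ.app _).symm ≪≫ (rho U.ι).mapIso e₁ ≪≫ e₂ ≪≫ u.app _)
    (isCohD_rho e.inv hNU)

end Groth.Agent.DualityLC
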