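import Groth.Agent.DualityLC.CoherentRightAdj
import Groth.Agent.DEqT.DiagKernel

/-!
# A right adjoint of `Rf_*` preserves coherence for proper `f` over a noetherian base
-/

set_option autoImplicit false
set_option linter.style.haveILetI false
set_option backward.isDefEq.respectTransparency false

universe u

open CategoryTheory CategoryTheory.Limits AlgebraicGeometry

attribute [local instance] HasDerivedCategory.standard

namespace Groth.Agent.DualityLC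

open KFlatLib

variable {X Y : Scheme.{u}}

/-- A right adjoint of `R(g ≫ e)_*` for an isomorphism `e`. -/
theorem exists_rightAdjoint_comp_iso {V W S : Scheme.{u}} [IsNoetherian V] [IsNoetherian W] [IsNoetherian S]
    (g : V ⟶ W) (e : W ≅ S) [DCoh.HasRpush g] [DCoh.HasRpush (g ≫ e.hom)]
    (hg : DCoh.RpushPreservesQCoh g) (hge : DCoh.RpushPreservesQCoh (g ≫ e.hom))
    (ag : DCoh.DQCoh W ⥤ DCoh.DQCoh V) (adjg : DCoh.RpushQ g hg ⊣ ag) (K : DCoh.DQCoh W) :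
    ∃ (a' : DCoh.DQCoh S ⥤ DCoh.DQCoh V) (_ : DCoh.RpushQ (g ≫ e.hom) hge ⊣ a'),
      Nonempty ((a'.obj ⟨(rho e.inv).obj K.obj, isQCohD_rho e.inv K.property⟩).obj ≅ (ag.obj K).obj) := by
  haveI := hasRpush_scheme e.hom
  haveI := hasRpush_scheme e.inv
  haveI := hasRpush_scheme (𝟙 W)
  haveI := hasRpush_scheme (𝟙 S)
  obtain ⟨c₁⟩ := nonempty_rpush_comp' e.hom e.inv (𝟙 W) e.hom_inv_id
  obtain ⟨c₂⟩ := nonempty_rpush_comp' e.inv e.hom (𝟙 S) e.inv_hom_id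
  obtain ⟨i₁⟩ := DEqT.nonempty_rpush_id (X := W)
  obtain ⟨i₂⟩ := DEqT.nonempty_rpush_id (X := S)
  have he : DCoh.RpushPreservesQCoh e.hom := fun K hK => isQCohD_rpush e.hom hK
  have he' : DCoh.RpushPreservesQCoh e.inv := fun K hK => isQCohD_rpush e.inv hK
  let eqv : DCoh.D W ≌ DCoh.D S :=
    CategoryTheory.Equivalence.mk (DCoh.Rpush e.hom) (DCoh.Rpush e.inv) (c₁ ≪≫ i₁).symm (c₂ ≪≫ i₂)
  let adjE : DCoh.RpushQ e.hom he ⊣ DCoh.RpushQ e.inv he' :=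
    eqv.toAdjunction.restrictFullyFaithful (ObjectProperty.fullyFaithfulι _)
      (ObjectProperty.fullyFaithfulι _) (Iso.refl _) (Iso.refl _)
  obtain ⟨ec⟩ := nonempty_rpush_comp' g e.hom (g ≫ e.hom) rfl
  let eC : DCoh.RpushQ g hg ⋙ DCoh.RpushQ e.hom he ≅ DCoh.RpushQ (g ≫ e.hom) hge :=
    NatIso.ofComponents (fun T => ObjectProperty.isoMk _ (ec.app T.obj))
      (fun {T T'} v => ObjectProperty.hom_ext _ (ec.hom.naturality v.hom))
  refine ⟨DCoh.RpushQ e.inv he' ⋙ ag, (adjg.comp adjE).ofNatIsoLeft eC, ?_⟩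
  obtain ⟨r⟩ := nonempty_rpush_iso_rho e K.obj
  let L : DCoh.DQCoh S := ⟨(rho e.inv).obj K.obj, isQCohD_rho e.inv K.property⟩
  let eL : (DCoh.RpushQ e.inv he').obj L ≅ K :=
    ObjectProperty.isoMk _ ((DCoh.Rpush e.inv).mapIso r.symm ≪≫ (c₁ ≪≫ i₁).app K.obj)
  exact ⟨(ObjectProperty.ι _).mapIso (ag.mapIso eL)⟩

/-- A right adjoint of `Rf_*` preserves bounded below coherent objects. -/
theorem isCohD_rightAdjoint [IsNoetherian Y] (f : X ⟶ Y) [IsProper f] [DCoh.HasRpush f]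
    (hf : DCoh.RpushPreservesQCoh f) (a : DCoh.DQCoh Y ⥤ DCoh.DQCoh X) (adj : DCoh.RpushQ f hf ⊣ a)
    (K : DCoh.DQCoh Y) (c : ℤ) [DerivedCategory.IsGE K.obj c] (hK : DCoh.IsCohD K.obj) :
    DCoh.IsCohD (a.obj K).obj := by
  haveI := isNoetherian_of_proper f
  intro i
  refine isCoh_of_local fun x => ?_
  obtain ⟨W, hW, hxW, -⟩ := exists_isAffineOpen_mem_and_subset (x := f.base x) (U := ⊤) trivial
  haveI : IsNoetherianRing Γ(Y, W) := QCoh.noetherian_sections ⟨W, hW⟩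
  haveI : IsLocallyNoetherian (W : Scheme.{u}) := isLocallyNoetherian_of_isOpenImmersion W.ι
  haveI : IsAffine (W : Scheme.{u}) := hW
  haveI : IsNoetherian (W : Scheme.{u}) := ⟨⟩
  let V := f ⁻¹ᵁ W
  let g := f ∣_ W
  haveI : IsNoetherian (V : Scheme.{u}) := isNoetherian_of_proper g
  haveI := hasRpush_scheme g
  have hg : DCoh.RpushPreservesQCoh g := fun K hK => isQCohD_rpush g hK
  haveI := isLeftAdjoint_rpush g hg
  let ag := (DCoh.RpushQ g hg).rightAdjoint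
  let adjg : DCoh.RpushQ g hg ⊣ ag := Adjunction.ofIsLeftAdjoint _
  obtain ⟨eV⟩ := nonempty_rho_rightAdjoint_iso f hf a adj W hg ag adjg K c
  let e : (W : Scheme.{u}) ≅ Spec (CommRingCat.of Γ(Y, W)) := hW.isoSpec
  let f' := g ≫ e.hom
  haveI : IsProper f' := inferInstanceAs (IsProper (g ≫ e.hom))
  haveI := hasRpush_scheme f'
  have hf' : DCoh.RpushPreservesQCoh f' := fun K hK => isQCohD_rpush f' hK
  let KW : DCoh.DQCoh (W : Scheme.{u}) := ⟨(rho W.ι).obj K.obj, isQCohD_rho W.ι K.property⟩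
  let L : DCoh.DQCoh (Spec (CommRingCat.of Γ(Y, W))) :=
    ⟨(rho e.inv).obj KW.obj, isQCohD_rho e.inv KW.property⟩
  obtain ⟨a', adj', ⟨ea⟩⟩ := exists_rightAdjoint_comp_iso g e hg hf' ag adjg KW
  have hL : DCoh.IsCohD L.obj := isCohD_rho e.inv (isCohD_rho W.ι hK)
  haveI : DerivedCategory.IsGE L.obj c := (DerivedCategory.isGE_iff _ _).2 fun k hk =>
    (Functor.map_isZero _ ((Functor.map_isZero _ (DerivedCategory.isZero_of_isGE K.obj c k hk)).of_iso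
      (restrictHDIso W.ι K.obj k))).of_iso (restrictHDIso e.inv _ k)
  obtain ⟨U, hU, hxU, -⟩ :=
    exists_isAffineOpen_mem_and_subset (x := (⟨x, hxW⟩ : V)) (U := (⊤ : (V : Scheme.{u}).Opens)) trivial
  have h₁ := isCohD_rho_affine f' hf' a' adj' L c hL U hU
  have h₂ : DCoh.IsCohD ((rho (U.ι ≫ V.ι)).obj (a.obj K).obj) :=
    isCohD_of_iso ((rho U.ι).mapIso (ea ≪≫ eV.symm) ≪≫ rhoComp U.ι V.ι _ rfl _) h₁
  exact ⟨_, U.ι ≫ V.ι, inferInstance, ⟨⟨⟨x, hxW⟩, hxU⟩, rfl⟩,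
    isCoh_of_iso (restrictHDIso (U.ι ≫ V.ι) (a.obj K).obj i) (h₂ i)⟩

end Groth.Agent.DualityLC
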