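import Groth.Agent.Lib.PnDualMul
import Groth.Agent.Lib.CurveDeg
import Groth.Agent.QCoh.DevissageSum
import Groth.Agent.DEqT.TwistSys
import Groth.Agent.Perf52.ResRep
import Groth.Agent.KFlatLib.Scheme.RpushBound
import Groth.Agent.PnCoh.Finite.ProjSpace
import Groth.Agent.PnCoh.Finite.TwistInv
import Groth.Prelude.Def_KLin

/-!
# Coherence on projective space from finiteness of maps out of twists
-/

set_option autoImplicit false
set_option linter.style.haveILetI false
set_option backward.isDefEq.respectTransparency false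

universe u

open CategoryTheory CategoryTheory.Limits AlgebraicGeometry TopologicalSpace Opposite Pretriangulated

attribute [local instance] HasDerivedCategory.standard

namespace Groth.Agent.DualityLC.CohTwist

open KFlatLib PnCoh PnCoh.Finite

variable {R A : Type u} [CommRing R] [CommRing A] [Algebra R A]
  {𝒜 : ℕ → Submodule R A} [GradedAlgebra 𝒜] {a b : A}

/-- Multiplication by `b`, one degree up. -/
noncomputable def xmap (hb : b ∈ 𝒜 1) (d : ℕ) :
    Twist.twist 𝒜 (-((d + 1 : ℕ) : ℤ)) ⟶ Twist.twist 𝒜 (-(d : ℤ)) :=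
  PnDual.mulHom hb (by push_cast; ring)

lemma xmap_comm {c : A} (hb : b ∈ 𝒜 1) (hc : c ∈ 𝒜 1) (d : ℕ) :
    xmap hb (d + 1) ≫ xmap hc d = xmap hc (d + 1) ≫ xmap hb d := by
  refine Scheme.Modules.hom_ext _ _ fun U => ?_
  ext s
  refine Subtype.ext (funext fun x => Subtype.ext ?_)
  exact mul_right_comm (s.1 x).1 _ _

/-- Multiplication by `a` is bijective on sections where `a` does not vanish. -/
lemma xmap_bijective (ha : a ∈ 𝒜 1) (d : ℕ) {V : (Proj 𝒜).Opens} (hV : V ≤ D 𝒜 a) :
    Function.Bijective ((xmap ha d).app V) := by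
  let t₁ := triv ha (-((d + 1 : ℕ) : ℤ)) (nonVan_of_le hV)
  let t₀ := triv ha (-(d : ℤ)) (nonVan_of_le hV)
  have key : ∀ c, (xmap ha d).app V (t₁ c) = t₀ c := fun c => by
    refine Subtype.ext (funext fun x => Subtype.ext ?_)
    show ((trivMap ha (-((d + 1 : ℕ) : ℤ)) (nonVan_of_le hV) c).1 x).1 * PnDual.fracOne x.1 a =
      ((trivMap ha (-(d : ℤ)) (nonVan_of_le hV) c).1 x).1
    rw [trivMap_apply, trivMap_apply, mul_assoc]
    refine congrArg (_ * ·) ?_
    show Localization.mk _ _ * Localization.mk a _ = _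
    rw [Localization.mk_mul, Localization.mk_eq_mk_iff, Localization.r_iff_exists]
    refine ⟨1, ?_⟩
    have h0 : ((d + 1 : ℕ) : ℤ).toNat = d + 1 := Int.toNat_natCast _
    have h1 : (-((d + 1 : ℕ) : ℤ)).toNat = 0 := by omega
    have h2 : (-(d : ℤ)).toNat = 0 := by omega
    simp only [neg_neg, h0, h1, h2, Int.toNat_natCast, OneMemClass.coe_one, Submonoid.coe_mul,
      pow_zero, one_mul, mul_one]
    ring
  have h : ((xmap ha d).app V : _ → _) = t₀ ∘ t₁.symm := funext fun s => by
    conv_lhs => rw [← t₁.apply_symm_apply s]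
    exact key _
  rw [h]
  exact t₀.bijective.comp t₁.symm.bijective

lemma isIso_rho_xmap (ha : a ∈ 𝒜 1) (d : ℕ) :
    IsIso ((rho (D 𝒜 a).ι).map (DerivedCategory.Q.map
      ((HomologicalComplex.single _ (ComplexShape.up ℤ) 0).map (xmap ha d)))) := by
  let Rf := Scheme.Modules.restrictFunctor (D 𝒜 a).ι
  haveI : IsIso (Rf.map (xmap ha d)) := by
    rw [Scheme.Modules.Hom.isIso_iff_isIso_app]
    intro V
    refine (ConcreteCategory.isIso_iff_bijective _).2 ?_
    exact xmap_bijective ha d (Scheme.Opens.ι_image_le (D 𝒜 a) V)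
  haveI : IsIso ((rCx (D 𝒜 a).ι).map
      ((HomologicalComplex.single _ (ComplexShape.up ℤ) 0).map (xmap ha d))) :=
    (NatIso.isIso_map_iff (HomologicalComplex.singleMapHomologicalComplex Rf (ComplexShape.up ℤ) 0) _).2
      (Functor.map_isIso (HomologicalComplex.single _ (ComplexShape.up ℤ) 0) (Rf.map (xmap ha d)))
  exact (NatIso.isIso_map_iff (rhoQ (D 𝒜 a).ι) _).2
    (Functor.map_isIso DerivedCategory.Q _)

variable {κ : Type u} [Finite κ] {f : κ → A}

/-- The twist system. -/
noncomputable def sys (hf : ∀ j, f j ∈ 𝒜 1) : DEqT.TwistSys (Proj 𝒜).Modules κ where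
  X d := (HomologicalComplex.single _ (ComplexShape.up ℤ) 0).obj (Twist.twist 𝒜 (-(d : ℤ)))
  x j d := (HomologicalComplex.single _ (ComplexShape.up ℤ) 0).map (xmap (hf j) d)
  comm j l d := by rw [← Functor.map_comp, ← Functor.map_comp, xmap_comm]

/-- The iterated cone along all coordinates is acyclic. -/
lemma isZero_cones (hf : ∀ j, f j ∈ 𝒜 1) (hcov : ⨆ j, D 𝒜 (f j) = ⊤) (l : List κ) (hl : ∀ j, j ∈ l) (d : ℕ) :
    IsZero (DerivedCategory.Q.obj (((sys hf).cones l).X d)) := by
  rw [IsZero.iff_id_eq_zero]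
  suffices h : ∀ i, IsZero (DCoh.HD (DerivedCategory.Q.obj (((sys hf).cones l).X d)) i) by
    have : IsIso (0 : DerivedCategory.Q.obj (((sys hf).cones l).X d) ⟶
        DerivedCategory.Q.obj (((sys hf).cones l).X d)) := by
      rw [DerivedCategory.isIso_iff]
      exact fun i => (h i).isIso (h i) _
    exact (cancel_epi (0 : DerivedCategory.Q.obj (((sys hf).cones l).X d) ⟶
        DerivedCategory.Q.obj (((sys hf).cones l).X d))).1 (by simp)
  intro i
  refine isZero_of_isZero_restrict _ fun y => ?_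
  obtain ⟨j, hj⟩ := Opens.mem_iSup.1 (hcov.ge (trivial : y ∈ (⊤ : (Proj 𝒜).Opens)))
  refine ⟨D 𝒜 (f j), hj, ?_⟩
  exact (Functor.map_isZero (DerivedCategory.homologyFunctor _ i)
    ((sys hf).isZero_map_cones (rho (D 𝒜 (f j)).ι) j (fun d => isIso_rho_xmap (hf j) d) l (hl j) d)).of_iso
    ((mapDCHomologyIso (Scheme.Modules.restrictFunctor (D 𝒜 (f j)).ι) i).app _).symm

/-- The module map underlying a map out of a single complex. -/
noncomputable def φmap {X : Scheme.{u}} {M : X.Modules} {L : DCoh.D X} (n : ℤ)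
    (g : DerivedCategory.Q.obj ((HomologicalComplex.single X.Modules (ComplexShape.up ℤ) 0).obj M) ⟶ L⟦n⟧) :
    M ⟶ DCoh.HD L n :=
  (HomologicalComplex.singleObjHomologySelfIso (ComplexShape.up ℤ) 0 M).inv ≫
    (DerivedCategory.homologyFunctorFactors X.Modules 0).inv.app _ ≫
    (DerivedCategory.homologyFunctor X.Modules 0).map g ≫
    (((DerivedCategory.homologyFunctor X.Modules 0).shiftIso n 0 n (add_zero n)).app L).hom

lemma φmap_precomp {X : Scheme.{u}} {M M' : X.Modules} {L : DCoh.D X} (n : ℤ) (m : M' ⟶ M)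
    (g : DerivedCategory.Q.obj ((HomologicalComplex.single X.Modules (ComplexShape.up ℤ) 0).obj M) ⟶ L⟦n⟧) :
    φmap n (DerivedCategory.Q.map ((HomologicalComplex.single X.Modules (ComplexShape.up ℤ) 0).map m) ≫ g) =
      m ≫ φmap n g := by
  have h1 := (DerivedCategory.homologyFunctorFactors X.Modules 0).inv.naturality
    ((HomologicalComplex.single X.Modules (ComplexShape.up ℤ) 0).map m)
  have h2 := HomologicalComplex.singleObjHomologySelfIso_inv_naturality (ComplexShape.up ℤ) 0 m
  simp only [φmap, Functor.map_comp, Category.assoc]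
  refine (congrArg (_ ≫ ·) (((Category.assoc _ _ _).symm.trans (congrArg (· ≫ _) h1.symm)).trans
    (Category.assoc _ _ _))).trans ?_
  exact ((Category.assoc _ _ _).symm.trans (congrArg (· ≫ _) h2)).trans (Category.assoc _ _ _)

lemma φmap_add {X : Scheme.{u}} {M : X.Modules} {L : DCoh.D X} (n : ℤ)
    (g g' : DerivedCategory.Q.obj ((HomologicalComplex.single X.Modules (ComplexShape.up ℤ) 0).obj M) ⟶ L⟦n⟧) :
    φmap n (g + g') = φmap n g + φmap n g' := by
  simp [φmap]

/-- Sections of a cohomology module over a chart are images of twists. -/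
theorem exists_lift (hf : ∀ j, f j ∈ 𝒜 1) (hcov : ⨆ j, D 𝒜 (f j) = ⊤)
    (I : CochainComplex (Proj 𝒜).Modules ℤ) (hI : ∀ m, Coh.IsQCoh (I.X m)) (L : DCoh.D (Proj 𝒜))
    (eI : DCoh.toD (Proj 𝒜) I ≅ L) (n : ℤ) (j : κ) (s : Γ(DCoh.HD L n, D 𝒜 (f j))) :
    ∃ (d : ℕ) (g : DerivedCategory.Q.obj (((sys hf)).X d) ⟶ L⟦n⟧)
      (τ : Γ(Twist.twist 𝒜 (-(d : ℤ)), D 𝒜 (f j))), (φmap n g).app (D 𝒜 (f j)) τ = s := by
  let U := D 𝒜 (f j)
  let H := DerivedCategory.homologyFunctor (Proj 𝒜).Modules
  let eH : I.homology n ≅ DCoh.HD L n :=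
    ((DerivedCategory.homologyFunctorFactors _ n).app I).symm ≪≫ (H n).mapIso eI
  haveI : Epi (I.homologyπ n ≫ eH.hom) := epi_comp _ _
  have hLq : Coh.IsQCoh (DCoh.HD L n) := isQCoh_of_iso eH (isQCoh_homology_of_terms I hI n)
  obtain ⟨z, hz⟩ := QCoh.app_surjective_of_epi (isQCoh_cycles hI n) hLq (I.homologyπ n ≫ eH.hom)
    (isAffineOpen_D hf j) s
  obtain ⟨k, t, hti, hcompat⟩ := exists_family hf (isQCoh_cycles hI n) (isAffineOpen_D hf)
    (isAffineOpen_D₂ hf) j z
  let ψ := homOfFamily hf k t hcompat hcov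
  obtain ⟨τ, hτ⟩ := mem_range_homOfFamily hf k t hcompat hcov j
  let T := Twist.twist 𝒜 (-(k : ℤ))
  let Sn := HomologicalComplex.single (Proj 𝒜).Modules (ComplexShape.up ℤ)
  let m : (Sn n).obj T ⟶ I :=
    HomologicalComplex.mkHomFromSingle (ψ ≫ I.iCycles n) fun i _ => by
      rw [Category.assoc, HomologicalComplex.iCycles_d, comp_zero]
  let e₀ : DerivedCategory.Q.obj ((Sn 0).obj T) ≅ (DerivedCategory.Q.obj ((Sn n).obj T))⟦n⟧ :=
    DerivedCategory.Q.mapIso (((CochainComplex.singleFunctors (Proj 𝒜).Modules).shiftIso n 0 n (add_zero n)).app T).symm ≪≫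
      (DerivedCategory.Q.commShiftIso n).app _
  let g : DerivedCategory.Q.obj ((sys hf).X k) ⟶ L⟦n⟧ :=
    e₀.hom ≫ (DerivedCategory.Q.map m ≫ eI.hom)⟦n⟧'
  have hm : ((Sn n).obj T).homologyπ n ≫ HomologicalComplex.homologyMap m n =
      (HomologicalComplex.singleObjCyclesSelfIso (ComplexShape.up ℤ) n T).hom ≫ ψ ≫ I.homologyπ n := by
    rw [HomologicalComplex.homologyπ_naturality, ← Category.assoc]
    refine congrArg (· ≫ I.homologyπ n) ?_
    rw [← cancel_mono (I.iCycles n), HomologicalComplex.cyclesMap_i, Category.assoc,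
      HomologicalComplex.singleObjCyclesSelfIso_hom, Category.assoc]
    exact congrArg (_ ≫ ·) (HomologicalComplex.mkHomFromSingle_f _ _)
  have hm' : HomologicalComplex.homologyMap m n =
      (HomologicalComplex.singleObjHomologySelfIso (ComplexShape.up ℤ) n T).hom ≫ ψ ≫ I.homologyπ n := by
    rw [← cancel_epi (((Sn n).obj T).homologyπ n), hm,
      HomologicalComplex.homologyπ_singleObjHomologySelfIso_hom_assoc]
  obtain ⟨e', he'⟩ : ∃ e' : T ≅ T, φmap n g = e'.hom ≫ ψ ≫ I.homologyπ n ≫ eH.hom := by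
    have h1 := ((H 0).shiftIso n 0 n (add_zero n)).hom.naturality (DerivedCategory.Q.map m ≫ eI.hom)
    have h2 := (DerivedCategory.homologyFunctorFactors (Proj 𝒜).Modules n).hom.naturality m
    have h3 : (H n).map (DerivedCategory.Q.map m) =
        (DerivedCategory.homologyFunctorFactors _ n).hom.app _ ≫ HomologicalComplex.homologyMap m n ≫
          (DerivedCategory.homologyFunctorFactors _ n).inv.app _ :=
      (NatIso.naturality_2 (DerivedCategory.homologyFunctorFactors (Proj 𝒜).Modules n) m).symm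
    refine ⟨(HomologicalComplex.singleObjHomologySelfIso (ComplexShape.up ℤ) 0 T).symm ≪≫
      ((DerivedCategory.homologyFunctorFactors _ 0).app _).symm ≪≫ (H 0).mapIso e₀ ≪≫
      ((H 0).shiftIso n 0 n (add_zero n)).app _ ≪≫ (DerivedCategory.homologyFunctorFactors _ n).app _ ≪≫
      HomologicalComplex.singleObjHomologySelfIso (ComplexShape.up ℤ) n T, ?_⟩
    simp only [φmap, g, Functor.map_comp, Iso.trans_hom, Iso.symm_hom, Iso.app_hom, Functor.mapIso_hom,
      Category.assoc, eH, Iso.app_inv]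
    refine congrArg (_ ≫ _ ≫ _ ≫ ·) ?_
    have h4 : (H 0).map ((DerivedCategory.Q.map m)⟦n⟧') ≫ (H 0).map (eI.hom⟦n⟧') ≫
        ((H 0).shiftIso n 0 n (add_zero n)).hom.app L =
      ((H 0).shiftIso n 0 n (add_zero n)).hom.app _ ≫ (H n).map (DerivedCategory.Q.map m) ≫ (H n).map eI.hom := by
      rw [← (H n).map_comp]
      refine Eq.trans ?_ h1
      rw [← Category.assoc, ← (H 0).map_comp, ← Functor.map_comp]
      rfl
    refine h4.trans (congrArg (_ ≫ ·) ?_)
    rw [h3, hm']
    simp only [Category.assoc]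
  refine ⟨k, g, e'.inv.app U τ, ?_⟩
  rw [he']
  show (I.homologyπ n ≫ eH.hom).app U (ψ.app U ((e'.inv ≫ e'.hom).app U τ)) = s
  rw [e'.inv_hom_id]
  show (I.homologyπ n ≫ eH.hom).app U (ψ.app U τ) = s
  rw [hτ, hti]
  exact hz

omit [Finite κ] in
lemma single_map_smul_id {R₀ : Type u} [CommRing R₀] {X : Scheme.{u}} [X.Over (Spec (CommRingCat.of R₀))]
    (M : X.Modules) (c : R₀) :
    (HomologicalComplex.single X.Modules (ComplexShape.up ℤ) 0).map (c • 𝟙 M) =
      c • 𝟙 ((HomologicalComplex.single X.Modules (ComplexShape.up ℤ) 0).obj M) := by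
  apply HomologicalComplex.from_single_hom_ext
  simp [HomologicalComplex.single_map_f_self]

/-- Coherence from finiteness of the maps out of twists. -/
theorem isCoh_hd {R₀ : Type u} [CommRing R₀] [IsNoetherianRing R₀]
    [(Proj 𝒜).Over (Spec (CommRingCat.of R₀))] [IsLocallyNoetherian (Proj 𝒜)]
    (hf : ∀ j, f j ∈ 𝒜 1) (hcov : ⨆ j, D 𝒜 (f j) = ⊤) (L : DCoh.D (Proj 𝒜))
    (I : CochainComplex (Proj 𝒜).Modules ℤ) (hI : ∀ m, Coh.IsQCoh (I.X m))
    (eI : DCoh.toD (Proj 𝒜) I ≅ L)
    (hfin : ∀ (d : ℕ) (n : ℤ), Module.Finite R₀ ((sys hf).H L n d)) (n : ℤ) :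
    Coh.IsCoh (DCoh.HD L n) := by
  classical
  haveI := Fintype.ofFinite κ
  obtain ⟨D₀, hD₀⟩ := (sys hf).stab_of_cones (R := R₀) L (Finset.univ : Finset κ).toList
    (isZero_cones hf hcov _ fun j => Finset.mem_toList.2 (Finset.mem_univ j)) hfin n
  choose r gen hgen using fun d : ℕ => (haveI := hfin d n; Module.Finite.exists_fin (R := R₀) (M := (sys hf).H L n d))
  let β := ULift.{u} (Σ d : Fin (D₀ + 1), Fin (r d))
  haveI : Fintype β := inferInstanceAs (Fintype (ULift.{u} (Σ d : Fin (D₀ + 1), Fin (r d))))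
  let T : β → (Proj 𝒜).Modules := fun b => Twist.twist 𝒜 (-((b.down.1 : ℕ) : ℤ))
  let ψ : ∀ b, T b ⟶ DCoh.HD L n := fun b => φmap n (gen b.down.1 b.down.2)
  have hq : Coh.IsQCoh (DCoh.HD L n) :=
    isQCoh_of_iso (((DerivedCategory.homologyFunctorFactors _ n).app I).symm ≪≫
      (DerivedCategory.homologyFunctor _ n).mapIso eI) (isQCoh_homology_of_terms I hI n)
  haveI : HasFiniteBiproducts (Proj 𝒜).Modules := Abelian.hasFiniteBiproducts
  haveI : HasBiproduct T := inferInstance
  have hepi : Epi (biproduct.desc ψ) := by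
    refine epi_desc hf hcov hq T ψ fun j => ?_
    let U := D 𝒜 (f j)
    let S := Submodule.span Γ(Proj 𝒜, U) {z : Γ(DCoh.HD L n, U) | ∃ b τ, (ψ b).app U τ = z}
    have hall : ∀ (d : ℕ) (g : (sys hf).H L n d) τ, (φmap n g).app U τ ∈ S := by
      intro d
      induction d using Nat.strong_induction_on with
      | _ d ih =>
        intro g
        by_cases hd : d ≤ D₀
        · have hg : g ∈ Submodule.span R₀ (Set.range (gen d)) := by rw [hgen d]; exact Submodule.mem_top
          induction hg using Submodule.span_induction with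
          | mem z hz =>
            obtain ⟨i, rfl⟩ := hz
            exact fun τ => Submodule.subset_span ⟨ULift.up ⟨⟨d, by omega⟩, i⟩, τ, rfl⟩
          | zero =>
            intro τ
            rw [show φmap n (0 : (sys hf).H L n d) = 0 by simp [φmap]]
            exact zero_mem S
          | add x y _ _ hx hy =>
            intro τ
            rw [φmap_add]
            exact add_mem (hx τ) (hy τ)
          | smul c x _ hx =>
            intro τ
            have e : c • x = DerivedCategory.Q.map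
                ((HomologicalComplex.single (Proj 𝒜).Modules (ComplexShape.up ℤ) 0).map
                  (c • 𝟙 (Twist.twist 𝒜 (-(d : ℤ))))) ≫ x := by
              rw [single_map_smul_id, Functor.map_smul, CategoryTheory.Functor.map_id]
              refine ((Linear.smul_comp _ _ _ c _ x).trans (congrArg (c • ·) (Category.id_comp x))).symm
            rw [e, φmap_precomp]
            exact hx _
        · obtain ⟨d', rfl⟩ : ∃ d', d = d' + 1 := ⟨d - 1, by omega⟩
          have hg := hD₀ d' (by omega) (Submodule.mem_top : g ∈ (⊤ : Submodule R₀ ((sys hf).H L n (d' + 1))))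
          induction hg using Submodule.iSup_induction' with
          | mem l x hx =>
            obtain ⟨h, rfl⟩ := hx
            intro τ
            rw [show φmap n ((sys hf).op R₀ L n l d' h) = xmap (hf l) d' ≫ φmap n h from φmap_precomp n _ _]
            exact ih d' (by omega) h _
          | zero =>
            intro τ
            rw [show φmap n (0 : (sys hf).H L n (d' + 1)) = 0 by simp [φmap]]
            exact zero_mem S
          | add x y _ _ hx hy =>
            intro τ
            rw [φmap_add]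
            exact add_mem (hx τ) (hy τ)
    refine top_le_iff.1 fun s _ => ?_
    obtain ⟨d, g, τ, rfl⟩ := exists_lift hf hcov I hI L eI n j s
    exact hall d g τ
  haveI := hepi
  refine QCoh.isCoh_of_epi (biproduct.desc ψ) (QCoh.isCoh_biproduct T fun b => ?_) hq
  exact CurveDeg.isCoh_of_isFinLocFree
    (H23.PullPush.isFinLocFree_of_isInvertible (isInvertible_twist f hf hcov _))

end Groth.Agent.DualityLC.CohTwist
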