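import Groth.Prelude.Def_DualLC
import Groth.Agent.LC.CohBasic
import Mathlib.Algebra.Homology.DerivedCategory.Ext.Linear
import Mathlib.CategoryTheory.Triangulated.Yoneda

/-!
# The direct limit of maps out of `A/I^n` in the derived category

`Col I Y` is the colimit of `Hom(A/I^n, Y)`; `Dual2.HDI A I K i` is `Col I (K⟦i⟧)` by definition.
-/

set_option autoImplicit false
set_option linter.style.haveILetI false

universe u

open CategoryTheory CategoryTheory.Limits Opposite Pretriangulated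

attribute [local instance] HasDerivedCategory.standard

namespace Groth.Agent.DualityLC

variable {A : Type u} [CommRing A] (I : Ideal A)

/-- The diagram of maps out of the `A/I^n`. -/
noncomputable abbrev colDiag (Y : Dual.D A) : ℕᵒᵖᵒᵖ ⥤ ModuleCat.{u + 1} A :=
  (localCohomology.ringModIdeals (localCohomology.idealPowersDiagram I) ⋙
      DerivedCategory.singleFunctor (ModuleCat.{u} A) 0).op ⋙ (linearYoneda A (Dual.D A)).obj Y

/-- The colimit of `Hom(A/I^n, Y)`. -/
noncomputable abbrev Col (Y : Dual.D A) : ModuleCat.{u + 1} A := colimit (colDiag I Y)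

theorem HDI_eq_Col (K : Dual.D A) (i : ℤ) : Dual2.HDI A I K i = Col I (K⟦i⟧) := rfl

/-- `A/I^n` in degree zero. -/
noncomputable abbrev qD (n : ℕ) : Dual.D A := Dual.inD A (A ⧸ I ^ n)

/-- The transition `A/I^m → A/I^n`. -/
noncomputable def qDMap {n m : ℕ} (h : n ≤ m) : qD I m ⟶ qD I n :=
  (DerivedCategory.singleFunctor (ModuleCat.{u} A) 0).map (LC.qMap I h)

theorem qDMap_comp {n m k : ℕ} (h : n ≤ m) (h' : m ≤ k) :
    qDMap I h' ≫ qDMap I h = qDMap I (h.trans h') := by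
  rw [qDMap, qDMap, qDMap, ← LC.qMap_comp I h h', Functor.map_comp]

theorem qDMap_refl (n : ℕ) : qDMap I (le_refl n) = 𝟙 _ := by
  rw [qDMap, LC.qMap_refl]
  exact CategoryTheory.Functor.map_id _ _

instance : PreservesColimitsOfShape ℕᵒᵖᵒᵖ (forget (ModuleCat.{u + 1} A)) := by
  haveI : PreservesFilteredColimitsOfSize.{0, 0} (forget AddCommGrpCat.{u + 1}) :=
    preservesFilteredColimitsOfSize_shrink _
  haveI : PreservesColimitsOfShape ℕᵒᵖᵒᵖ (forget AddCommGrpCat.{u + 1}) :=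
    PreservesFilteredColimitsOfSize.preserves_filtered_colimits _
  exact inferInstanceAs (PreservesColimitsOfShape ℕᵒᵖᵒᵖ
    (forget₂ (ModuleCat.{u + 1} A) AddCommGrpCat.{u + 1} ⋙ forget AddCommGrpCat.{u + 1}))

/-- The class of a map out of `A/I^n`. -/
noncomputable def toCol (Y : Dual.D A) (n : ℕ) : (qD I n ⟶ Y) →ₗ[A] Col I Y :=
  (colimit.ι (colDiag I Y) (op (op n))).hom

theorem colDiag_map {n m : ℕ} (h : n ≤ m) (Y : Dual.D A) (f : qD I n ⟶ Y) :
    ((colDiag I Y).map (LC.arr h)).hom f = qDMap I h ≫ f := rfl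

theorem toCol_res {n m : ℕ} (h : n ≤ m) {Y : Dual.D A} (f : qD I n ⟶ Y) :
    toCol I Y m (qDMap I h ≫ f) = toCol I Y n f :=
  ConcreteCategory.congr_hom (colimit.w (colDiag I Y) (LC.arr h)) f

theorem exists_toCol {Y : Dual.D A} (z : Col I Y) : ∃ n f, toCol I Y n f = z := by
  obtain ⟨j, w, hw⟩ := Concrete.colimit_exists_rep (colDiag I Y) z
  exact ⟨j.unop.unop, w, hw⟩

theorem exists_toCol_of_le {Y : Dual.D A} (z : Col I Y) (k : ℕ) :
    ∃ n, k ≤ n ∧ ∃ f, toCol I Y n f = z := by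
  obtain ⟨n, f, rfl⟩ := exists_toCol I z
  exact ⟨max k n, le_max_left _ _, _, toCol_res I (le_max_right k n) f⟩

theorem toCol_eq_zero_iff {Y : Dual.D A} {n : ℕ} (f : qD I n ⟶ Y) :
    toCol I Y n f = 0 ↔ ∃ (m : ℕ) (h : n ≤ m), qDMap I h ≫ f = 0 := by
  refine ⟨fun hf => ?_, fun ⟨m, h, hm⟩ => by rw [← toCol_res I h, hm, map_zero]⟩
  obtain ⟨k, a, b, hk⟩ := Concrete.colimit_exists_of_rep_eq (colDiag I Y)
    (i := (op (op n) : ℕᵒᵖᵒᵖ)) (j := (op (op n) : ℕᵒᵖᵒᵖ)) f (0 : qD I n ⟶ Y)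
    (hf.trans (map_zero _).symm)
  have h : n ≤ k.unop.unop := a.unop.unop.down.down
  refine ⟨k.unop.unop, h, ?_⟩
  obtain rfl : a = LC.arr h := Subsingleton.elim _ _
  exact hk.trans (map_zero _)

/-- The map of diagrams induced by a map of the target. -/
noncomputable abbrev colNat {Y Z : Dual.D A} (g : Y ⟶ Z) : colDiag I Y ⟶ colDiag I Z :=
  Functor.whiskerLeft _ ((linearYoneda A (Dual.D A)).map g)

/-- The map induced by a map of the target. -/
noncomputable def colMap {Y Z : Dual.D A} (g : Y ⟶ Z) : Col I Y →ₗ[A] Col I Z :=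
  (colimMap (colNat I g)).hom

theorem colMap_toCol {Y Z : Dual.D A} (g : Y ⟶ Z) {n : ℕ} (f : qD I n ⟶ Y) :
    colMap I g (toCol I Y n f) = toCol I Z n (f ≫ g) :=
  ConcreteCategory.congr_hom (ι_colimMap (colNat I g) (op (op n) : ℕᵒᵖᵒᵖ)) f

theorem colMap_comp {Y Z W : Dual.D A} (g : Y ⟶ Z) (h : Z ⟶ W) (z : Col I Y) :
    colMap I (g ≫ h) z = colMap I h (colMap I g z) := by
  obtain ⟨n, f, rfl⟩ := exists_toCol I z
  simp only [colMap_toCol, Category.assoc]

theorem colMap_id {Y : Dual.D A} (z : Col I Y) : colMap I (𝟙 Y) z = z := by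
  obtain ⟨n, f, rfl⟩ := exists_toCol I z
  rw [colMap_toCol, Category.comp_id]

theorem colMap_smul {Y Z : Dual.D A} (r : A) (g : Y ⟶ Z) (z : Col I Y) :
    colMap I (r • g) z = r • colMap I g z := by
  obtain ⟨n, f, rfl⟩ := exists_toCol I z
  rw [colMap_toCol, colMap_toCol, Linear.comp_smul, map_smul]

theorem colMap_add {Y Z : Dual.D A} (g g' : Y ⟶ Z) (z : Col I Y) :
    colMap I (g + g') z = colMap I g z + colMap I g' z := by
  obtain ⟨n, f, rfl⟩ := exists_toCol I z
  rw [colMap_toCol, colMap_toCol, colMap_toCol, Preadditive.comp_add, map_add]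

theorem colMap_zero {Y Z : Dual.D A} (z : Col I Y) : colMap I (0 : Y ⟶ Z) z = 0 := by
  obtain ⟨n, f, rfl⟩ := exists_toCol I z
  rw [colMap_toCol, comp_zero, map_zero]

/-- An isomorphism of targets gives an isomorphism. -/
noncomputable def colEquiv {Y Z : Dual.D A} (e : Y ≅ Z) : Col I Y ≃ₗ[A] Col I Z :=
  LinearEquiv.ofLinearMap (colMap I e.hom) (colMap I e.inv)
    (LinearMap.ext fun z => by
      rw [LinearMap.comp_apply, ← colMap_comp, e.inv_hom_id, colMap_id]; rfl)
    (LinearMap.ext fun z => by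
      rw [LinearMap.comp_apply, ← colMap_comp, e.hom_inv_id, colMap_id]; rfl)

theorem colEquiv_apply {Y Z : Dual.D A} (e : Y ≅ Z) (z : Col I Y) :
    colEquiv I e z = colMap I e.hom z := rfl

/-- Exactness in the middle at a distinguished triangle. -/
theorem col_exact {T : Triangle (Dual.D A)} (hT : T ∈ distTriang _) (z : Col I T.obj₂)
    (hz : colMap I T.mor₂ z = 0) : ∃ w : Col I T.obj₁, colMap I T.mor₁ w = z := by
  obtain ⟨n, f, rfl⟩ := exists_toCol I z
  rw [colMap_toCol, toCol_eq_zero_iff] at hz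
  obtain ⟨m, h, hm⟩ := hz
  rw [← Category.assoc] at hm
  obtain ⟨g, hg⟩ := Triangle.coyoneda_exact₂ T hT _ hm
  exact ⟨toCol I _ m g, by rw [colMap_toCol, ← hg, toCol_res]⟩

theorem smul_qD_hom_eq_zero {Y : Dual.D A} {n : ℕ} (f : qD I n ⟶ Y) {a : A} (ha : a ∈ I ^ n) :
    a • f = 0 := by
  have h : a • 𝟙 (ModuleCat.of A (A ⧸ I ^ n)) = 0 := by
    refine ModuleCat.hom_ext (LinearMap.ext fun x => ?_)
    obtain ⟨c, rfl⟩ := Submodule.Quotient.mk_surjective _ x
    change a • (Submodule.Quotient.mk c : A ⧸ I ^ n) = 0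
    rw [← Submodule.Quotient.mk_smul, Submodule.Quotient.mk_eq_zero, smul_eq_mul]
    exact Ideal.mul_mem_right c _ ha
  calc a • f = (DerivedCategory.singleFunctor (ModuleCat.{u} A) 0).map (a • 𝟙 _) ≫ f := by
        rw [Functor.map_smul, CategoryTheory.Functor.map_id, Linear.smul_comp]
        exact congrArg (a • ·) (Category.id_comp f).symm
    _ = 0 := by rw [h, Functor.map_zero, zero_comp]

/-- Every element of the colimit is killed by a power of the ideal. -/
theorem col_isPowerTorsion (Y : Dual.D A) : LocCoh.IsPowerTorsion I (Col I Y) := fun z => by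
  obtain ⟨n, f, rfl⟩ := exists_toCol I z
  exact ⟨n, fun a ha => by rw [← map_smul, smul_qD_hom_eq_zero I f ha, map_zero]⟩

theorem subsingleton_col {Y : Dual.D A}
    (h : ∀ n (f : qD I n ⟶ Y), ∃ (m : ℕ) (hm : n ≤ m), qDMap I hm ≫ f = 0) :
    Subsingleton (Col I Y) :=
  subsingleton_of_forall_eq 0 fun z => by
    obtain ⟨n, f, rfl⟩ := exists_toCol I z
    exact (toCol_eq_zero_iff I f).2 (h n f)

/-! ### Comparison with local cohomology -/

variable (i : ℕ) (M : ModuleCat.{u} A)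

/-- `Ext^i(A/I^n, M)` as maps in the derived category. -/
noncomputable def extToHom (n : ℕ) :
    Abelian.Ext (LC.qObj I n) M i ≃ₗ[A]
      (qD I n ⟶ ((DerivedCategory.singleFunctor (ModuleCat.{u} A) 0).obj M)⟦(i : ℤ)⟧) :=
  Abelian.Ext.homLinearEquiv

theorem extToHom_res {n m : ℕ} (h : n ≤ m) (x : Abelian.Ext (LC.qObj I n) M i) :
    extToHom I i M m (LC.res I h i M x) = qDMap I h ≫ extToHom I i M n x := by
  rw [LC.res_apply]
  change ((Abelian.Ext.mk₀ (LC.qMap I h)).comp x (zero_add i)).hom = qDMap I h ≫ x.hom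
  rw [Abelian.Ext.comp_hom, Abelian.Ext.mk₀_hom, ShiftedHom.mk₀_comp]
  rfl

theorem exists_colHEquiv :
    Nonempty (Col I (((DerivedCategory.singleFunctor (ModuleCat.{u} A) 0).obj M)⟦(i : ℤ)⟧) ≃ₗ[A]
      (localCohomology I i).obj M) := by
  obtain ⟨ψ, hψ⟩ := LC.exists_descH (M := M) I i
    (fun n => (toCol I _ n).comp (extToHom I i M n).toLinearMap) (fun n m h x => by
      simp only [LinearMap.comp_apply, LinearEquiv.coe_coe, extToHom_res, toCol_res])
  refine ⟨(LinearEquiv.ofBijective ψ ⟨?_, ?_⟩).symm⟩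
  · rw [injective_iff_map_eq_zero]
    intro z hz
    obtain ⟨n, x, rfl⟩ := LC.exists_toH I i z
    rw [hψ] at hz
    obtain ⟨m, h, hm⟩ := (toCol_eq_zero_iff I _).1 hz
    rw [LinearEquiv.coe_coe, ← extToHom_res, LinearEquiv.map_eq_zero_iff] at hm
    exact (LC.toH_eq_zero_iff I i x).2 ⟨m, h, hm⟩
  · intro z
    obtain ⟨n, f, rfl⟩ := exists_toCol I z
    exact ⟨LC.toH I i M n ((extToHom I i M n).symm f), by
      rw [hψ, LinearMap.comp_apply, LinearEquiv.coe_coe, LinearEquiv.apply_symm_apply]⟩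

end Groth.Agent.DualityLC
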