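import Groth.Agent.DualityLC.Devissage
import Groth.Agent.LC.CdDim
import Groth.Agent.KFlatLib.Ring.DualizingShriek
import Mathlib.RingTheory.KrullDimension.Basic

/-!
# Local duality for complexes with finite cohomology
-/

set_option autoImplicit false
set_option linter.style.haveILetI false
set_option backward.isDefEq.respectTransparency false

universe u

open CategoryTheory CategoryTheory.Limits Pretriangulated IsLocalRing

attribute [local instance] HasDerivedCategory.standard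

namespace Groth.Agent.DualityLC

open Groth.Agent.KFlatLib (inDMap)

variable {A : Type u} [CommRing A]

theorem finite_hd_shift (K : Dual.D A) (hK : ∀ i : ℤ, Module.Finite A (Dual.HD A K i)) (j i : ℤ) :
    Module.Finite A (Dual.HD A (K⟦j⟧) i) := by
  haveI : Module.Finite A (((DerivedCategory.homologyFunctor (ModuleCat.{u} A) 0).shift (i + j)).obj K) := hK (i + j)
  exact Module.Finite.equiv ((((DerivedCategory.homologyFunctor (ModuleCat.{u} A) 0).shiftIso j i (i + j)
    (by omega)).app K).symm.toLinearEquiv)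

variable [IsNoetherianRing A]

/-- Maps from a finite module into sufficiently connective objects factor through one class. -/
theorem exists_factor_syzygy : ∀ (r : ℕ) (M : Type u) [AddCommGroup M] [Module A M] [Module.Finite A M],
    ∃ (Z : ModuleCat.{u} A)
      (g : Dual.inD A M ⟶ ((DerivedCategory.singleFunctor (ModuleCat.{u} A) 0).obj Z)⟦((r + 1 : ℕ) : ℤ)⟧),
      ∀ (Y : Dual.D A), DerivedCategory.IsLE Y (-((r + 1 : ℕ) : ℤ)) → ∀ f : Dual.inD A M ⟶ Y, ∃ f', f = g ≫ f' := by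
  intro r
  induction r with
  | zero =>
    intro M _ _ _
    obtain ⟨k, π, hπ⟩ := Module.Finite.exists_fin' A M
    obtain ⟨w, hS⟩ := KFlatLib.exists_ses_of_exact (LinearMap.ker π).injective_subtype hπ
      (LinearMap.exact_subtype_ker_map π)
    refine ⟨ModuleCat.of A (LinearMap.ker π), hS.singleTriangle.mor₃, fun Y hY f => ?_⟩
    haveI : Subsingleton (Dual.inD A A ⟶ Y) := by
      obtain ⟨e⟩ := KFlatLib.exists_homRingLEquiv Y 0
      haveI : Subsingleton (Dual.HD A Y 0) := ModuleCat.subsingleton_of_isZero (DerivedCategory.isZero_of_isLE Y (-((0 + 1 : ℕ) : ℤ)) 0 (by omega))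
      exact ((homShiftZero _ Y).symm.trans e).toEquiv.subsingleton
    obtain ⟨eP⟩ := KFlatLib.exists_homPiLEquiv A k Y
    exact Triangle.yoneda_exact₃ _ hS.singleTriangle_distinguished f (eP.injective (Subsingleton.elim _ _))
  | succ r ih =>
    intro M _ _ _
    obtain ⟨k, π, hπ⟩ := Module.Finite.exists_fin' A M
    obtain ⟨w, hS⟩ := KFlatLib.exists_ses_of_exact (LinearMap.ker π).injective_subtype hπ
      (LinearMap.exact_subtype_ker_map π)
    obtain ⟨Z, g, hg⟩ := ih (LinearMap.ker π)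
    let F := shiftFunctor (Dual.D A) (1 : ℤ)
    let e := ((shiftFunctorAdd' (Dual.D A) ((r + 1 : ℕ) : ℤ) 1 ((r + 1 + 1 : ℕ) : ℤ) (by omega)).app
      ((DerivedCategory.singleFunctor (ModuleCat.{u} A) 0).obj Z)).symm
    refine ⟨Z, hS.singleTriangle.mor₃ ≫ F.map g ≫ e.hom, fun Y hY f => ?_⟩
    haveI : Subsingleton (Dual.inD A A ⟶ Y) := by
      obtain ⟨eA⟩ := KFlatLib.exists_homRingLEquiv Y 0
      haveI : Subsingleton (Dual.HD A Y 0) := ModuleCat.subsingleton_of_isZero (DerivedCategory.isZero_of_isLE Y (-((r + 1 + 1 : ℕ) : ℤ)) 0 (by omega))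
      exact ((homShiftZero _ Y).symm.trans eA).toEquiv.subsingleton
    obtain ⟨eP⟩ := KFlatLib.exists_homPiLEquiv A k Y
    obtain ⟨χ, hχ⟩ := Triangle.yoneda_exact₃ _ hS.singleTriangle_distinguished f (eP.injective (Subsingleton.elim _ _))
    let eY : (Y⟦(-1 : ℤ)⟧)⟦(1 : ℤ)⟧ ≅ Y := (shiftFunctorCompIsoId (Dual.D A) (-1) 1 (by omega)).app Y
    obtain ⟨χ', hχ'⟩ := F.map_surjective (χ ≫ eY.inv)
    obtain ⟨f', rfl⟩ := hg (Y⟦(-1 : ℤ)⟧)
      (DerivedCategory.TStructure.t.isLE_shift Y (-((r + 1 + 1 : ℕ) : ℤ)) (-1) (-((r + 1 : ℕ) : ℤ)) (by omega)) χ'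
    refine ⟨e.inv ≫ F.map f' ≫ eY.hom, ?_⟩
    have h1 : χ = F.map g ≫ F.map f' ≫ eY.hom := by
      rw [← cancel_mono eY.inv, ← hχ', Functor.map_comp]
      simp only [Category.assoc, Iso.hom_inv_id, Category.comp_id]
    rw [hχ, h1]
    simp only [Category.assoc, Iso.hom_inv_id_assoc]

theorem finite_hd_obj₁ (T : Triangle (Dual.D A)) (hT : T ∈ distTriang _)
    (h₂ : ∀ i : ℤ, Module.Finite A (Dual.HD A T.obj₂ i)) (h₃ : ∀ i : ℤ, Module.Finite A (Dual.HD A T.obj₃ i))
    (i : ℤ) : Module.Finite A (Dual.HD A T.obj₁ i) :=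
  KFlatLib.finite_of_exact
    (DerivedCategory.HomologySequence.δ T (i - 1) i (by omega)).hom
    ((DerivedCategory.homologyFunctor (ModuleCat.{u} A) i).map T.mor₁).hom
    ((ShortComplex.moduleCat_exact_iff _).1 (DerivedCategory.HomologySequence.exact₁ _ hT (i - 1) i (by omega)))
    (h₃ (i - 1)) (h₂ i)

variable [IsLocalRing A]

theorem exists_nat_ringKrullDim_le : ∃ d : ℕ, ringKrullDim A ≤ d := by
  have h := ringKrullDim_lt_top (R := A)
  generalize ringKrullDim A = x at h ⊢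
  induction x with
  | bot => exact ⟨0, bot_le⟩
  | coe x => induction x with
    | top => exact absurd h (lt_irrefl _)
    | coe n => exact ⟨n, le_rfl⟩

/-- The torsion limit kills very connective objects. -/
theorem subsingleton_col_of_isLE (d : ℕ) (hd : ringKrullDim A ≤ d) {Y : Dual.D A}
    (hY : DerivedCategory.IsLE Y (-((d + 1 : ℕ) : ℤ))) : Subsingleton (Col (maximalIdeal A) Y) := by
  refine subsingleton_col _ fun n f => ?_
  obtain ⟨Z, g, hg⟩ := exists_factor_syzygy (A := A) d (A ⧸ maximalIdeal A ^ n)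
  obtain ⟨f', rfl⟩ := hg Y hY f
  obtain ⟨e⟩ := exists_colHEquiv (maximalIdeal A) (d + 1) Z
  haveI : Subsingleton ((localCohomology (maximalIdeal A) (d + 1)).obj Z) :=
    LC.cdLE_of_ringKrullDim_le (maximalIdeal A) hd Z (d + 1) (Nat.lt_succ_self d)
  haveI := e.toEquiv.subsingleton
  obtain ⟨m, h, hm⟩ := (toCol_eq_zero_iff (maximalIdeal A) g).1 (Subsingleton.elim _ _)
  exact ⟨m, h, by rw [← Category.assoc, hm, zero_comp]⟩

variable {ω : Dual.D A} (hω : Dual.IsDualizing A ω) (hN : Dual.IsNormalized A ω)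

include hω hN

theorem goodAll_bounded : ∀ (k : ℕ) (X : Dual.D A) (N : ℤ), (∀ i : ℤ, Module.Finite A (Dual.HD A X i)) →
    DerivedCategory.IsLE X N → DerivedCategory.IsGE X (N - k) → GoodAll (maximalIdeal A) ω X := by
  intro k
  induction k with
  | zero =>
    intro X N hfin hle hge
    rw [Nat.cast_zero, sub_zero] at hge
    obtain ⟨M, ⟨e⟩⟩ := DerivedCategory.exists_iso_singleFunctor_obj_of_isGE_of_isLE X N
    let e0 : ((DerivedCategory.singleFunctor (ModuleCat.{u} A) N).obj M)⟦N⟧ ≅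
        (DerivedCategory.singleFunctor (ModuleCat.{u} A) 0).obj M :=
      ((DerivedCategory.singleFunctors (ModuleCat.{u} A)).shiftIso N 0 N (by omega)).app M
    haveI : Module.Finite A M := by
      haveI : Module.Finite A ((DerivedCategory.homologyFunctor (ModuleCat.{u} A) 0).obj (X⟦N⟧)) :=
        finite_hd_shift X hfin N 0
      exact Module.Finite.equiv ((DerivedCategory.homologyFunctor (ModuleCat.{u} A) 0).mapIso
          ((shiftFunctor (Dual.D A) N).mapIso e ≪≫ e0 ≪≫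
            (DerivedCategory.singleFunctorIsoCompQ (ModuleCat.{u} A) 0).app M) ≪≫
        (DerivedCategory.homologyFunctorFactors (ModuleCat.{u} A) 0).app _ ≪≫
        HomologicalComplex.singleObjHomologySelfIso (ComplexShape.up ℤ) 0 M).toLinearEquiv
    exact ((goodAll_module hω hN M).of_iso _ _ (e0.symm ≪≫ ((shiftFunctor (Dual.D A) N).mapIso e).symm)).shift _ _ (-N)
      |>.of_iso _ _ ((shiftFunctorCompIsoId (Dual.D A) N (-N) (by omega)).app X)
  | succ k ih =>
    intro X N hfin hle hge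
    obtain ⟨T, hT, -, hT₁, h₂, hT₃, hfin₃⟩ := KFlatLib.exists_trunc hfin (N - 1)
    subst h₂
    rw [sub_add_cancel] at hT₃
    haveI := hT₃
    haveI := hT₁
    have hfin₁ := finite_hd_obj₁ T hT hfin hfin₃
    haveI hle₃ : DerivedCategory.IsLE T.obj₃ N := by
      haveI : DerivedCategory.IsLE (T.obj₁⟦(1 : ℤ)⟧) (N - 2) :=
        DerivedCategory.TStructure.t.isLE_shift T.obj₁ (N - 1) 1 (N - 2) (by omega)
      exact DerivedCategory.TStructure.t.isLE₂ _ (rot_of_distTriang _ hT) N hle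
        (DerivedCategory.TStructure.t.isLE_of_le (T.obj₁⟦(1 : ℤ)⟧) (N - 2) N (by omega))
    haveI hge₁ : DerivedCategory.IsGE T.obj₁ (N - 1 - k) := by
      haveI : DerivedCategory.IsGE (T.obj₃⟦(-1 : ℤ)⟧) (N + 1) :=
        DerivedCategory.TStructure.t.isGE_shift T.obj₃ N (-1) (N + 1) (by omega)
      exact DerivedCategory.TStructure.t.isGE₂ _ (inv_rot_of_distTriang _ hT) (N - 1 - k)
        (DerivedCategory.TStructure.t.isGE_of_ge (T.obj₃⟦(-1 : ℤ)⟧) (N - 1 - k) (N + 1) (by omega))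
        (by rwa [show N - 1 - (k : ℤ) = N - ((k + 1 : ℕ) : ℤ) by omega])
    refine GoodAll.mid _ _ (baer_col hω hN) hT (ih T.obj₁ (N - 1) hfin₁ hT₁ hge₁) (ih T.obj₃ N hfin₃ hle₃ ?_)
    exact DerivedCategory.TStructure.t.isGE_of_ge T.obj₃ (N - k) N (by omega)

/-- Local duality for every complex with finite cohomology. -/
theorem goodAll_of_finite (X : Dual.D A) (hfin : ∀ i : ℤ, Module.Finite A (Dual.HD A X i)) :
    GoodAll (maximalIdeal A) ω X := by
  obtain ⟨d, hd⟩ : ∃ d : ℕ, ringKrullDim A ≤ d := by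
    obtain ⟨d, hd⟩ := exists_nat_ringKrullDim_le (A := A)
    exact ⟨d, hd⟩
  obtain ⟨a, b, hab, _, _⟩ := KFlatLib.exists_bounds_of_isDualizing hω
  have hlow : ∀ C : Dual.D A, DerivedCategory.IsLE C (min (-((d + 1 : ℕ) : ℤ)) (a - 1)) →
      Function.Bijective (theta (maximalIdeal A) ω C) := by
    intro C hC
    haveI : DerivedCategory.IsLE C (a - 1) :=
      DerivedCategory.TStructure.t.isLE_of_le C (min (-((d + 1 : ℕ) : ℤ)) (a - 1)) (a - 1) (min_le_right _ _)
    exact theta_bijective_of_subsingleton _ _ (subsingleton_col_of_isLE d hd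
      (DerivedCategory.TStructure.t.isLE_of_le C (min (-((d + 1 : ℕ) : ℤ)) (a - 1)) _ (min_le_left _ _)))
      (subsingleton_hom_of_isLE_of_isGE (a - 1) a (by omega))
  have hhigh : ∀ C : Dual.D A, DerivedCategory.IsGE C (max 1 (b + 1)) →
      Function.Bijective (theta (maximalIdeal A) ω C) := by
    intro C hC
    haveI : DerivedCategory.IsGE C (b + 1) :=
      DerivedCategory.TStructure.t.isGE_of_ge C (b + 1) (max 1 (b + 1)) (le_max_right _ _)
    haveI : DerivedCategory.IsGE C 1 :=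
      DerivedCategory.TStructure.t.isGE_of_ge C 1 (max 1 (b + 1)) (le_max_left _ _)
    exact theta_bijective_of_subsingleton _ _ (subsingleton_col_of_isGE _ 1 one_pos)
      (subsingleton_of_forall_eq 0 fun f => KFlatLib.eq_zero_of_injAmplitude (b + 1) a b (by omega) hab f)
  have hbelow : ∀ (C : Dual.D A) (N : ℤ), (∀ i : ℤ, Module.Finite A (Dual.HD A C i)) →
      DerivedCategory.IsLE C N → Function.Bijective (theta (maximalIdeal A) ω C) := by
    intro C N hC hle
    let c := min (min (-((d + 1 : ℕ) : ℤ)) (a - 1)) (N - 1) - 2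
    obtain ⟨T, hT, -, hT₁, h₂, hT₃, hfin₃⟩ := KFlatLib.exists_trunc hC c
    subst h₂
    haveI := hT₁
    haveI := hT₃
    haveI : DerivedCategory.IsLE (T.obj₁⟦(1 : ℤ)⟧) (c - 1) :=
      DerivedCategory.TStructure.t.isLE_shift T.obj₁ c 1 (c - 1) (by omega)
    haveI hle₃ : DerivedCategory.IsLE T.obj₃ N :=
      DerivedCategory.TStructure.t.isLE₂ _ (rot_of_distTriang _ hT) N hle
        (DerivedCategory.TStructure.t.isLE_of_le (T.obj₁⟦(1 : ℤ)⟧) (c - 1) N (by omega))
    have h3 := goodAll_bounded hω hN (N - (c + 1)).toNat T.obj₃ N hfin₃ hle₃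
      (by rwa [show N - ((N - (c + 1)).toNat : ℤ) = c + 1 by omega])
    exact ⟨theta_injective_mid _ _ (baer_col hω hN) hT
      (hlow _ (DerivedCategory.TStructure.t.isLE_of_le T.obj₁ c _ (by omega))).1 (h3.self _ _).1 (h3 (-1)).2,
      theta_surjective_mid _ _ (baer_col hω hN) hT
      (hlow _ (DerivedCategory.TStructure.t.isLE_of_le T.obj₁ c _ (by omega))).2 (h3.self _ _).2
        (hlow _ (DerivedCategory.TStructure.t.isLE_of_le (T.obj₁⟦(1 : ℤ)⟧) (c - 1) _ (by omega))).1⟩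
  intro j
  have hX := finite_hd_shift X hfin j
  generalize X⟦j⟧ = K at hX ⊢
  let M := max 1 (b + 1)
  obtain ⟨T, hT, -, hT₁, h₂, hT₃, hfin₃⟩ := KFlatLib.exists_trunc hX M
  subst h₂
  haveI := hT₁
  haveI := hT₃
  haveI : DerivedCategory.IsGE (T.obj₃⟦(-1 : ℤ)⟧) (M + 2) :=
    DerivedCategory.TStructure.t.isGE_shift T.obj₃ (M + 1) (-1) (M + 2) (by omega)
  have hfin₁ := finite_hd_obj₁ T hT hX hfin₃
  have h1 := hbelow T.obj₁ M hfin₁ hT₁
  have h1' := hbelow (T.obj₁⟦(1 : ℤ)⟧) (M - 1) (finite_hd_shift _ hfin₁ 1)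
    (DerivedCategory.TStructure.t.isLE_shift T.obj₁ M 1 (M - 1) (by omega))
  have h3 := hhigh T.obj₃ (DerivedCategory.TStructure.t.isGE_of_ge T.obj₃ M (M + 1) (by omega))
  have h3' := hhigh (T.obj₃⟦(-1 : ℤ)⟧)
    (DerivedCategory.TStructure.t.isGE_of_ge (T.obj₃⟦(-1 : ℤ)⟧) M (M + 2) (by omega))
  exact ⟨theta_injective_mid _ _ (baer_col hω hN) hT h1.1 h3.1 h3'.2,
    theta_surjective_mid _ _ (baer_col hω hN) hT h1.2 h3.2 h1'.1⟩

end Groth.Agent.DualityLC
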