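import Groth.Agent.CotTLib.RegSurj
import Mathlib.RingTheory.Ideal.Cotangent
import Mathlib.LinearAlgebra.Basis.Defs

/-!
# The conormal module of a weakly regular sequence is free
-/

set_option autoImplicit false
set_option linter.style.haveILetI false

universe u

namespace Groth.Agent.DualityLC

/-- The classes of a weakly regular sequence form a basis of the conormal module. -/
theorem exists_cotangentBasis {A : Type u} [CommRing A] (p : ℕ) (x : Fin p → A)
    (hreg : RingTheory.Sequence.IsWeaklyRegular A (List.ofFn x)) :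
    ∃ b : Module.Basis (Fin p) (A ⧸ Ideal.span (Set.range x)) (Ideal.span (Set.range x)).Cotangent,
      ∀ i, b i = (Ideal.span (Set.range x)).toCotangent ⟨x i, Ideal.subset_span (Set.mem_range_self i)⟩ := by
  classical
  let J := Ideal.span (Set.range x)
  let v : Fin p → J.Cotangent := fun i => J.toCotangent ⟨x i, Ideal.subset_span (Set.mem_range_self i)⟩
  have hx : ∀ k : Fin p, ∀ y : A, y * x k ∈ Ideal.span (x '' {j | j < k}) → y ∈ Ideal.span (x '' {j | j < k}) := by
    intro k y hy
    have hlen : (List.ofFn x).length = p := List.length_ofFn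
    have key : (List.ofFn x).get '' {j | j < k.cast hlen.symm} = x '' {j | j < k} := by
      ext z
      constructor
      · rintro ⟨j, hj, rfl⟩
        exact ⟨j.cast hlen, hj, by simp [List.get_ofFn, Fin.cast]⟩
      · rintro ⟨j, hj, rfl⟩
        exact ⟨j.cast hlen.symm, hj, by simp⟩
    have h := CotTLib.regular_of_isWeaklyRegular _ hreg (k.cast hlen.symm) y
    rw [key, show (List.ofFn x).get (k.cast hlen.symm) = x k by simp] at h
    exact h hy
  have hdiag : ∀ w : A, w ∈ J * J → ∃ c : Fin p → A, (∀ i, c i ∈ J) ∧ ∑ i, c i * x i = w := by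
    intro w hw
    rw [show J * J = J • (Submodule.span A (Set.range x) : Ideal A) from rfl,
      Submodule.mem_ideal_smul_span_iff_exists_sum] at hw
    obtain ⟨a, ha, hsum⟩ := hw
    refine ⟨fun i => a i, fun i => ha i, ?_⟩
    rw [← hsum, Finsupp.sum_fintype]
    · rfl
    · exact fun _ => zero_smul A _
  have hli : LinearIndependent (A ⧸ J) v := by
    refine Fintype.linearIndependent_iff.2 fun g hg i => ?_
    choose a ha using fun i => Ideal.Quotient.mk_surjective (g i)
    have h1 : J.toCotangent (∑ i, a i • (⟨x i, Ideal.subset_span (Set.mem_range_self i)⟩ : J)) = 0 := by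
      rw [map_sum, ← hg]
      refine Finset.sum_congr rfl fun i _ => ?_
      rw [map_smul, ← ha]
      rfl
    have h2 : ((∑ i, a i • (⟨x i, Ideal.subset_span (Set.mem_range_self i)⟩ : J) : J) : A) ∈ J ^ 2 :=
      (J.toCotangent_eq_zero _).1 h1
    rw [sq] at h2
    obtain ⟨c, hc, hsum⟩ := hdiag _ h2
    let q : Fin p →₀ A := Finsupp.equivFunOnFinite.symm fun i => a i - c i
    have hq : Finsupp.linearCombination A x q = 0 := by
      rw [Finsupp.linearCombination_apply, Finsupp.sum_fintype]
      · show ∑ i, (a i - c i) * x i = 0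
        simp only [sub_mul, Finset.sum_sub_distrib, hsum]
        simp
      · exact fun _ => zero_smul A _
    have hmem : ∀ z ∈ CotTLib.koszul x, ∀ i, z i ∈ J := by
      intro z hz i
      induction hz using Submodule.span_induction with
      | mem z hz =>
        obtain ⟨c', d', rfl⟩ := hz
        have hl : ∀ e : Fin p →₀ A, Finsupp.linearCombination A x e ∈ J := fun e =>
          (Finsupp.range_linearCombination (R := A) (v := x)).le (LinearMap.mem_range_self _ e)
        simp only [Finsupp.sub_apply, Finsupp.smul_apply, smul_eq_mul]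
        exact sub_mem (Ideal.mul_mem_right _ _ (hl c')) (Ideal.mul_mem_right _ _ (hl d'))
      | zero => exact zero_mem J
      | add y z _ _ hy hz => rw [Finsupp.add_apply]; exact add_mem hy hz
      | smul r y _ hy => rw [Finsupp.smul_apply, smul_eq_mul]; exact Ideal.mul_mem_left _ _ hy
    have h3 : a i - c i ∈ J := hmem q (CotTLib.mem_koszul_of_regular x hx q hq) i
    rw [← ha]
    exact Ideal.Quotient.eq_zero_iff_mem.2 (sub_add_cancel (a i) (c i) ▸ add_mem h3 (hc i))
  have hsp : ⊤ ≤ Submodule.span (A ⧸ J) (Set.range v) := by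
    rintro z -
    obtain ⟨⟨w, hw⟩, rfl⟩ := J.toCotangent_surjective z
    obtain ⟨a, rfl⟩ := (Ideal.mem_span_range_iff_exists_fun).1 hw
    rw [show (⟨∑ i, a i * x i, hw⟩ : J) = ∑ i, a i • (⟨x i, Ideal.subset_span (Set.mem_range_self i)⟩ : J) from
      Subtype.ext (by simp), map_sum]
    refine Submodule.sum_mem _ fun i _ => ?_
    rw [map_smul, ← algebraMap_smul (A ⧸ J) (a i)]
    exact Submodule.smul_mem _ _ (Submodule.subset_span ⟨i, rfl⟩)
  exact ⟨Module.Basis.mk hli hsp, fun i => Module.Basis.mk_apply hli hsp i⟩

end Groth.Agent.DualityLC
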