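import Groth.Agent.KFlatLib.PsiC
import Mathlib.Algebra.Homology.DerivedCategory.ExactFunctor
import Mathlib.Algebra.Homology.DerivedCategory.Fractions

/-!
# Comparing two models of a derived category
-/

set_option autoImplicit false
set_option linter.style.haveILetI false

universe w w' v u

open CategoryTheory CategoryTheory.Limits

namespace Groth.Agent.DualityLC

section

variable (A : Type u) [Category.{v} A] [Abelian A] (h₁ : HasDerivedCategory.{w} A) (h₂ : HasDerivedCategory.{w'} A)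

/-- The comparison functor between two models of the derived category. -/
noncomputable abbrev cmpD : @DerivedCategory A _ _ h₁ ⥤ @DerivedCategory A _ _ h₂ :=
  @Functor.mapDerivedCategory A _ _ h₁ A _ _ h₂ (𝟭 A) _ _ _

/-- The comparison functor commutes with localization. -/
noncomputable def cmpDFactors :
    @DerivedCategory.Q A _ _ h₁ ⋙ cmpD A h₁ h₂ ≅ @DerivedCategory.Q A _ _ h₂ :=
  @Functor.mapDerivedCategoryFactors A _ _ h₁ A _ _ h₂ (𝟭 A) _ _ _ ≪≫
    Functor.isoWhiskerRight (Functor.mapHomologicalComplexIdIso A (ComplexShape.up ℤ)) _ ≪≫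
    Functor.leftUnitor _

theorem isEquivalence_cmpD : (cmpD A h₁ h₂).IsEquivalence := by
  let W := HomologicalComplex.quasiIso A (ComplexShape.up ℤ)
  let L₁ := @DerivedCategory.Q A _ _ h₁
  let L₂ := @DerivedCategory.Q A _ _ h₂
  haveI : L₁.IsLocalization W := inferInstance
  haveI : L₂.IsLocalization W := inferInstance
  letI : Localization.Lifting L₁ W L₂ (cmpD A h₁ h₂) := ⟨cmpDFactors A h₁ h₂⟩
  exact Functor.isEquivalence_of_iso
    (Localization.liftNatIso L₁ W L₂ L₂ (Localization.uniq L₁ L₂ W).functor (cmpD A h₁ h₂) (Iso.refl _))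

/-- The comparison functor commutes with cohomology. -/
noncomputable def cmpDHomologyIso (n : ℤ) :
    cmpD A h₁ h₂ ⋙ @DerivedCategory.homologyFunctor A _ _ h₂ n ≅ @DerivedCategory.homologyFunctor A _ _ h₁ n :=
  @KFlatLib.mapDCHomologyIso A _ _ h₁ A _ _ h₂ (𝟭 A) _ _ _ n ≪≫ Functor.rightUnitor _

theorem nonempty_cmpD_comp :
    Nonempty (cmpD A h₁ h₂ ⋙ cmpD A h₂ h₁ ≅ 𝟭 (@DerivedCategory A _ _ h₁)) := by
  let W := HomologicalComplex.quasiIso A (ComplexShape.up ℤ)
  let L₁ := @DerivedCategory.Q A _ _ h₁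
  letI : Localization.Lifting L₁ W L₁ (cmpD A h₁ h₂ ⋙ cmpD A h₂ h₁) :=
    ⟨(Functor.associator _ _ _).symm ≪≫ Functor.isoWhiskerRight (cmpDFactors A h₁ h₂) _ ≪≫ cmpDFactors A h₂ h₁⟩
  letI : Localization.Lifting L₁ W L₁ (𝟭 (@DerivedCategory A _ _ h₁)) := ⟨Functor.rightUnitor _⟩
  exact ⟨Localization.liftNatIso L₁ W L₁ L₁ _ _ (Iso.refl _)⟩

end

end Groth.Agent.DualityLC
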