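import Groth.Agent.DualityLC.Pairing
import Mathlib.RingTheory.Ideal.AssociatedPrime.Finiteness

/-!
# Local duality for finite modules
-/

set_option autoImplicit false
set_option linter.style.haveILetI false
set_option backward.isDefEq.respectTransparency false

universe u

open CategoryTheory CategoryTheory.Limits Pretriangulated IsLocalRing

attribute [local instance] HasDerivedCategory.standard

namespace Groth.Agent.DualityLC

open Groth.Agent.KFlatLib (inDMap)

variable {A : Type u} [CommRing A]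

theorem subsingleton_hom_of_isLE_of_isGE {X Y : Dual.D A} (n₀ n₁ : ℤ) (h : n₀ < n₁) [X.IsLE n₀] [Y.IsGE n₁] :
    Subsingleton (X ⟶ Y) :=
  subsingleton_of_forall_eq 0 fun f => DerivedCategory.TStructure.t.zero f n₀ n₁ h

theorem subsingleton_col_of_isGE (I : Ideal A) {Y : Dual.D A} (n : ℤ) (hn : 0 < n) [Y.IsGE n] :
    Subsingleton (Col I Y) :=
  subsingleton_col I fun k f => ⟨k, le_rfl, by
    haveI : Subsingleton (qD I k ⟶ Y) := subsingleton_hom_of_isLE_of_isGE 0 n hn
    exact Subsingleton.elim _ _⟩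

theorem subsingleton_shift_hom_iff (X Y : Dual.D A) (j : ℤ) :
    Subsingleton (X⟦j⟧ ⟶ Y) ↔ Subsingleton (X ⟶ Y⟦-j⟧) := by
  obtain ⟨e⟩ := KFlatLib.exists_shiftHomLEquiv X Y (-j)
  rw [e.toEquiv.subsingleton_congr, neg_neg]

variable [IsNoetherianRing A] [IsLocalRing A] {ω : Dual.D A}
  (hω : Dual.IsDualizing A ω) (hN : Dual.IsNormalized A ω)

include hω hN

theorem theta_bijective_of_neg (M : Type u) [AddCommGroup M] [Module A M] [Module.Finite A M] (j : ℤ)
    (hj : j < 0) : Function.Bijective (theta (maximalIdeal A) ω ((Dual.inD A M)⟦j⟧)) := by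
  haveI : DerivedCategory.IsGE ((Dual.inD A M)⟦j⟧) (-j) :=
    DerivedCategory.TStructure.t.isGE_shift (Dual.inD A M) 0 j (-j) (by omega)
  exact theta_bijective_of_subsingleton _ _ (subsingleton_col_of_isGE _ (-j) (by omega))
    ((subsingleton_shift_hom_iff _ _ j).2 (KFlatLib.subsingleton_hom_module_of_pos hω hN M (-j) (by omega)))

theorem theta_bijective_residue :
    Function.Bijective (theta (maximalIdeal A) ω (Dual.inD A (A ⧸ maximalIdeal A))) := by
  let k := A ⧸ maximalIdeal A
  let S := DerivedCategory.singleFunctor (ModuleCat.{u} A) 0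
  obtain ⟨e⟩ := exists_residueHomEquiv hω hN
  let ek : (A ⧸ maximalIdeal A ^ 1) ≃ₗ[A] k := Submodule.quotEquivOfEq _ _ (pow_one _)
  let π : qD (maximalIdeal A) 1 ≅ Dual.inD A k := S.mapIso ek.toModuleIso
  let u := toCol (maximalIdeal A) (Dual.inD A k) 1 π.hom
  let φ₀ : Dual.inD A k ⟶ ω := e.symm (Submodule.Quotient.mk 1)
  have hφ₀ : ∀ φ : Dual.inD A k ⟶ ω, ∃ r : A, φ = r • φ₀ := fun φ => by
    obtain ⟨r, hr⟩ := Submodule.Quotient.mk_surjective _ (e φ)
    refine ⟨r, e.injective ?_⟩
    rw [map_smul, LinearEquiv.apply_symm_apply, ← Submodule.Quotient.mk_smul, smul_eq_mul, mul_one, hr]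
  have hθ : ∀ φ, theta (maximalIdeal A) ω _ u φ = toCol (maximalIdeal A) ω 1 (π.hom ≫ φ) :=
    fun φ => colMap_toCol _ φ _
  have hm : ∀ a ∈ maximalIdeal A, a • φ₀ = 0 := fun a ha => by
    refine e.injective ?_
    rw [map_smul, LinearEquiv.apply_symm_apply, map_zero, ← Submodule.Quotient.mk_smul, Submodule.Quotient.mk_eq_zero,
      smul_eq_mul, mul_one]
    exact ha
  have hne : toCol (maximalIdeal A) ω 1 (π.hom ≫ φ₀) ≠ 0 := fun h => by
    have h1 : φ₀ = 0 := (cancel_epi π.hom).1 ((toCol_injective hω hN 1 (h.trans (map_zero _).symm)).trans comp_zero.symm)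
    have h2 := congrArg e h1
    rw [LinearEquiv.apply_symm_apply, map_zero, Submodule.Quotient.mk_eq_zero] at h2
    exact (maximalIdeal.isMaximal A).ne_top ((Ideal.eq_top_iff_one _).2 h2)
  have hgen : ∀ z, ∃ r : A, r • u = z := by
    intro z
    obtain ⟨n, hn, f, rfl⟩ := exists_toCol_of_le _ z 1
    obtain ⟨g, rfl⟩ := S.map_surjective (X := LC.qObj (maximalIdeal A) n) (Y := ModuleCat.of A k) f
    obtain ⟨r, hr⟩ := Submodule.Quotient.mk_surjective _ (g.hom (Submodule.Quotient.mk (1 : A)) : k)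
    refine ⟨r, ?_⟩
    rw [← map_smul, ← toCol_res _ hn]
    refine congrArg _ ?_
    have hg : g = r • (LC.qMap (maximalIdeal A) hn ≫ ek.toModuleIso.hom) := by
      refine ModuleCat.hom_ext (Submodule.linearMap_qext _ (LinearMap.ext_ring ?_))
      change g.hom (Submodule.Quotient.mk (1 : A)) = r • ek (Submodule.Quotient.mk (1 : A))
      rw [← hr, show ek (Submodule.Quotient.mk (1 : A)) = Submodule.Quotient.mk (1 : A) from rfl,
        ← Submodule.Quotient.mk_smul, smul_eq_mul, mul_one]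
    rw [hg, Functor.map_smul, Functor.map_comp, Linear.comp_smul]
    rfl
  refine ⟨?_, fun d => ?_⟩
  · rw [injective_iff_map_eq_zero]
    intro z hz
    obtain ⟨r, rfl⟩ := hgen z
    by_cases hr : IsUnit r
    · refine absurd ?_ hne
      rw [← hθ]
      refine hr.smul_left_cancel.1 ?_
      rw [smul_zero, ← LinearMap.smul_apply, ← map_smul, hz]
      rfl
    · have hu : r • π.hom = 0 := smul_qD_hom_eq_zero _ π.hom (by rw [pow_one]; exact hr)
      rw [← map_smul, hu, map_zero]
  · obtain ⟨ψ, hψ⟩ := socle_col hω hN (d φ₀) fun a ha => by rw [← map_smul, hm a ha, map_zero]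
    obtain ⟨r, hr⟩ := hφ₀ (π.inv ≫ ψ)
    refine ⟨r • u, LinearMap.ext fun φ => ?_⟩
    obtain ⟨s, rfl⟩ := hφ₀ φ
    rw [map_smul, map_smul, map_smul, LinearMap.smul_apply, hθ, ← hψ, ← map_smul, ← Linear.comp_smul, ← hr,
      Iso.hom_inv_id_assoc]

theorem goodAll_residue : GoodAll (maximalIdeal A) ω (Dual.inD A (A ⧸ maximalIdeal A)) := by
  intro j
  rcases lt_trichotomy j 0 with hj | rfl | hj
  · exact theta_bijective_of_neg hω hN _ j hj
  · exact theta_bijective_of_iso _ _ ((shiftFunctorZero (Dual.D A) ℤ).app _).symm (theta_bijective_residue hω hN)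
  · obtain ⟨i, rfl⟩ : ∃ i : ℕ, j = ((i + 1 : ℕ) : ℤ) := ⟨(j - 1).toNat, by omega⟩
    refine theta_bijective_of_subsingleton _ _ ?_ ((subsingleton_shift_hom_iff _ _ _).2 (hN _ (by omega)))
    obtain ⟨e⟩ := exists_colHEquiv (maximalIdeal A) (i + 1) (ModuleCat.of A (A ⧸ maximalIdeal A))
    haveI := LC.subsingleton_of_torsion (maximalIdeal A) i (ModuleCat.of A (A ⧸ maximalIdeal A))
      fun x => ⟨1, fun a ha => LC.smul_residueField_eq_zero (by simpa using ha) x⟩
    exact e.toEquiv.subsingleton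

/-- The step through multiplication by an element outside the prime. -/
theorem goodAll_quotient_step (p : Ideal A) [p.IsPrime] (x : A) (hx : x ∈ maximalIdeal A) (hxp : x ∉ p)
    (hrec : ∀ (Q : Type u) [AddCommGroup Q] [Module A Q] [Module.Finite A Q],
      (∀ P ∈ Module.support A Q, p < P.asIdeal) → GoodAll (maximalIdeal A) ω (Dual.inD A Q)) :
    GoodAll (maximalIdeal A) ω (Dual.inD A (A ⧸ p)) := by
  let M := A ⧸ p
  let 𝔪 := maximalIdeal A
  have hD := baer_col hω hN
  obtain ⟨a, b, -, _, _⟩ := KFlatLib.exists_bounds_of_isDualizing hω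
  suffices ∀ (k : ℕ) (j : ℤ), j < k → Function.Bijective (theta 𝔪 ω ((Dual.inD A M)⟦j⟧)) from
    fun j => this (j.toNat + 1) j (by omega)
  intro k
  induction k with
  | zero => exact fun j hj => theta_bijective_of_neg hω hN M j (by omega)
  | succ k ih =>
    intro j hj
    -- multiplication by a power of `x`
    have hinj : ∀ N : ℕ, Function.Injective (x ^ N • (LinearMap.id : M →ₗ[A] M)) := by
      intro N
      rw [← LinearMap.ker_eq_bot, LinearMap.ker_eq_bot']
      intro m hm
      obtain ⟨c, rfl⟩ := Submodule.Quotient.mk_surjective _ m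
      change Submodule.Quotient.mk (x ^ N * c) = 0 at hm
      exact (Submodule.Quotient.mk_eq_zero _).2 (((Ideal.IsPrime.mem_or_mem ‹p.IsPrime›
        ((Submodule.Quotient.mk_eq_zero _).1 hm))).resolve_left fun h =>
          hxp (Ideal.IsPrime.mem_of_pow_mem ‹p.IsPrime› N h))
    let f : ℕ → (M →ₗ[A] M) := fun N => x ^ N • LinearMap.id
    have hQ : ∀ N : ℕ, GoodAll 𝔪 ω (Dual.inD A (M ⧸ LinearMap.range (f N))) := by
      intro N
      refine hrec _ fun P hP => ?_
      have h1 : P ∈ Module.support A M :=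
        Module.support_subset_of_surjective _ (Submodule.mkQ_surjective _) hP
      rw [Module.support_eq_zeroLocus, Ideal.annihilator_quotient] at h1
      refine lt_of_le_of_ne h1 fun he => hxp ?_
      have hann : x ^ N ∈ Module.annihilator A (M ⧸ LinearMap.range (f N)) :=
        Module.mem_annihilator.2 fun q => by
          obtain ⟨m, rfl⟩ := Submodule.Quotient.mk_surjective _ q
          rw [← Submodule.Quotient.mk_smul, Submodule.Quotient.mk_eq_zero]
          exact ⟨m, rfl⟩
      rw [Module.support_eq_zeroLocus] at hP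
      exact he ▸ Ideal.IsPrime.mem_of_pow_mem P.isPrime N (hP hann)
    have key : ∀ N : ℕ, ∃ T : Triangle (Dual.D A), T ∈ distTriang _ ∧ T.obj₁ = (Dual.inD A M)⟦j⟧ ∧
        T.obj₂ = (Dual.inD A M)⟦j⟧ ∧ GoodAll 𝔪 ω T.obj₃ ∧
        ∃ (h : T.obj₁ = T.obj₂) (r : A), T.mor₁ = (r * x ^ N) • eqToHom h := by
      intro N
      obtain ⟨w, hS⟩ := KFlatLib.exists_ses_of_exact (hinj N) (Submodule.mkQ_surjective _)
        (LinearMap.exact_map_mkQ_range (f N))
      refine ⟨_, Triangle.shift_distinguished _ hS.singleTriangle_distinguished j, rfl, rfl,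
        (hQ N).shift _ _ j, rfl, ((j.negOnePow : ℤ) : A), ?_⟩
      change j.negOnePow • (shiftFunctor (Dual.D A) j).map
        ((DerivedCategory.singleFunctor (ModuleCat.{u} A) 0).map (x ^ N • 𝟙 (ModuleCat.of A M))) = _
      rw [Functor.map_smul, Functor.map_smul, CategoryTheory.Functor.map_id, CategoryTheory.Functor.map_id,
        Units.smul_def, ← Int.cast_smul_eq_zsmul A, smul_smul]
      rfl
    have hprev : Function.Bijective (theta 𝔪 ω ((Dual.inD A M)⟦j⟧⟦(-1 : ℤ)⟧)) :=
      theta_bijective_of_iso _ _ ((shiftFunctorAdd' (Dual.D A) j (-1) (j - 1) (by omega)).app _)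
        (ih (j - 1) (by omega))
    refine ⟨?_, fun d => ?_⟩
    · rw [injective_iff_map_eq_zero]
      intro z hz
      obtain ⟨N, hN'⟩ := col_isPowerTorsion 𝔪 _ z
      obtain ⟨⟨X₁, X₂, X₃, m₁, m₂, m₃⟩, hT, h1, h2, hgood, heq, r, hr⟩ := key N
      dsimp only at h1 h2 hgood heq hr
      subst h1 h2
      obtain ⟨b', rfl⟩ := col_exact 𝔪 (inv_rot_of_distTriang _ hT) z (by
        change colMap 𝔪 m₁ z = 0
        rw [hr, eqToHom_refl, colMap_smul, colMap_id, mul_smul, hN' _ (Ideal.pow_mem_pow hx N), smul_zero])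
      replace hz := (theta_natural 𝔪 ω _ b').symm.trans hz
      obtain ⟨c, hc⟩ := tgt_exact 𝔪 ω hD (inv_rot_of_distTriang _ (inv_rot_of_distTriang _ hT))
        (theta 𝔪 ω _ b') hz
      obtain ⟨c', rfl⟩ := hprev.2 c
      rw [← ((hgood (-1)).1 ((theta_natural 𝔪 ω _ c').trans hc))]
      exact colMap_eq_zero_of_comp 𝔪
        (comp_distTriang_mor_zero₁₂ _ (inv_rot_of_distTriang _ (inv_rot_of_distTriang _ hT))) c'
    · obtain ⟨N, hN'⟩ : ∃ N : ℕ, ∀ a ∈ 𝔪 ^ N, a • d = 0 := by
        haveI : Module.Finite A ((Dual.inD A M)⟦j⟧ ⟶ ω) := by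
          obtain ⟨e⟩ := KFlatLib.exists_shiftHomLEquiv (Dual.inD A M) ω (-j)
          rw [neg_neg] at e
          haveI := KFlatLib.finite_hom_module ω a hω.finite_cohomology M (-j)
          exact Module.Finite.equiv e
        obtain ⟨k', g, hg⟩ := Submodule.fg_iff_exists_fin_generating_family.1
          (Module.Finite.fg_top (R := A) (M := (Dual.inD A M)⟦j⟧ ⟶ ω))
        choose n hn using fun i => col_isPowerTorsion 𝔪 ω (d (g i))
        refine ⟨Finset.univ.sup n, fun c hc => LinearMap.ext_on hg ?_⟩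
        rintro _ ⟨i, rfl⟩
        exact hn i c (Ideal.pow_le_pow_right (Finset.le_sup (Finset.mem_univ i)) hc)
      obtain ⟨⟨X₁, X₂, X₃, m₁, m₂, m₃⟩, hT, h1, h2, hgood, heq, r, hr⟩ := key N
      dsimp only at h1 h2 hgood heq hr
      subst h1 h2
      obtain ⟨c, rfl⟩ := tgt_exact 𝔪 ω hD (inv_rot_of_distTriang _ hT) d (by
        refine LinearMap.ext fun φ => ?_
        change d (m₁ ≫ φ) = 0
        rw [hr, eqToHom_refl, Linear.smul_comp, Category.id_comp, map_smul, mul_smul]
        rw [show (x ^ N • d φ) = (x ^ N • d) φ from rfl, hN' _ (Ideal.pow_mem_pow hx N)]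
        exact smul_zero _)
      obtain ⟨b', rfl⟩ := (hgood (-1)).2 c
      exact ⟨colMap 𝔪 _ b', theta_natural 𝔪 ω _ b'⟩

theorem goodAll_of_support (M : Type u) [AddCommGroup M] [Module A M] [Module.Finite A M]
    (h : ∀ P ∈ Module.support A M, GoodAll (maximalIdeal A) ω (Dual.inD A (A ⧸ P.asIdeal))) :
    GoodAll (maximalIdeal A) ω (Dual.inD A M) := by
  refine IsNoetherianRing.induction_on_isQuotientEquivQuotientPrime A (M := M) inferInstance
    (motive := fun N _ _ _ => (∀ P ∈ Module.support A N, GoodAll (maximalIdeal A) ω (Dual.inD A (A ⧸ P.asIdeal))) →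
      GoodAll (maximalIdeal A) ω (Dual.inD A N)) ?_ ?_ ?_ h
  · intro N _ _ _ _ _ j
    have hz : IsZero ((Dual.inD A N)⟦j⟧) := (shiftFunctor (Dual.D A) j).map_isZero
      ((DerivedCategory.singleFunctor (ModuleCat.{u} A) 0).map_isZero (ModuleCat.isZero_of_subsingleton _))
    exact theta_bijective_of_subsingleton _ _
      (subsingleton_col _ fun n f => ⟨n, le_rfl, hz.eq_of_tgt _ _⟩)
      (subsingleton_of_forall_eq 0 fun f => hz.eq_of_src f 0)
  · intro N _ _ _ p e hN'
    refine (hN' p ?_).of_iso _ _ ((DerivedCategory.singleFunctor (ModuleCat.{u} A) 0).mapIso e.toModuleIso).symm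
    rw [e.support_eq, Module.support_eq_zeroLocus, Ideal.annihilator_quotient]
    exact le_refl p.asIdeal
  · intro N₁ _ _ _ N₂ _ _ _ N₃ _ _ _ f g hf hg hfg h₁ h₃ h₂
    obtain ⟨w, hS⟩ := KFlatLib.exists_ses_of_exact hf hg hfg
    have e₁ := h₁ fun P hP => h₂ P (Module.support_subset_of_injective f hf hP)
    have e₃ := h₃ fun P hP => h₂ P (Module.support_subset_of_surjective g hg hP)
    exact GoodAll.mid (maximalIdeal A) ω (baer_col hω hN) (T := hS.singleTriangle)
      hS.singleTriangle_distinguished e₁ e₃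

/-- Local duality holds on all finite modules. -/
theorem goodAll_module (M : Type u) [AddCommGroup M] [Module A M] [Module.Finite A M] :
    GoodAll (maximalIdeal A) ω (Dual.inD A M) := by
  refine goodAll_of_support hω hN M fun P _ => ?_
  suffices ∀ p : Ideal A, p.IsPrime → GoodAll (maximalIdeal A) ω (Dual.inD A (A ⧸ p)) from this _ P.isPrime
  intro p
  induction p using WellFoundedGT.induction with
  | _ p ih =>
    intro hp
    by_cases hm : p = maximalIdeal A
    · subst hm
      exact goodAll_residue hω hN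
    · obtain ⟨x, hx, hxp⟩ := SetLike.exists_of_lt (lt_of_le_of_ne (le_maximalIdeal hp.ne_top) hm)
      exact goodAll_quotient_step hω hN p x hx hxp fun Q _ _ _ hQ =>
        goodAll_of_support hω hN Q fun P hP => ih _ (hQ P hP) P.isPrime

end Groth.Agent.DualityLC
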