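import Groth.Agent.KFlatLib.Ring.DualizingDepth
import Mathlib.RingTheory.Length
import Mathlib.RingTheory.SimpleModule.Basic

/-!
# Maps from finite length modules into a normalized dualizing complex
-/

set_option autoImplicit false
set_option linter.style.haveILetI false
set_option backward.isDefEq.respectTransparency false

universe u

open CategoryTheory CategoryTheory.Limits Pretriangulated IsLocalRing

attribute [local instance] HasDerivedCategory.standard

namespace Groth.Agent.DualityLC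

open Groth.Agent.KFlatLib (inDMap)

variable {A : Type u} [CommRing A]

/-- Maps into the zero shift. -/
noncomputable def homShiftZero (X Y : Dual.D A) : (X ⟶ Y⟦(0 : ℤ)⟧) ≃ₗ[A] (X ⟶ Y) :=
  Linear.homCongr A (Iso.refl X) ((shiftFunctorZero (Dual.D A) ℤ).app Y)

theorem subsingleton_hom_shift_one_iff (X Y : Dual.D A) :
    Subsingleton (X⟦(1 : ℤ)⟧ ⟶ Y) ↔ Subsingleton (X ⟶ Y⟦(-1 : ℤ)⟧) := by
  obtain ⟨e⟩ := KFlatLib.exists_shiftHomLEquiv X Y (-1)
  rw [e.toEquiv.subsingleton_congr, neg_neg]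

/-- Precomposition with a linear map. -/
noncomputable def dualMap {N₁ N₂ : Type u} [AddCommGroup N₁] [Module A N₁] [AddCommGroup N₂] [Module A N₂]
    (f : N₁ →ₗ[A] N₂) (Y : Dual.D A) : (Dual.inD A N₂ ⟶ Y) →ₗ[A] (Dual.inD A N₁ ⟶ Y) :=
  Linear.leftComp A Y (inDMap f)

theorem dualMap_apply {N₁ N₂ : Type u} [AddCommGroup N₁] [Module A N₁] [AddCommGroup N₂] [Module A N₂]
    (f : N₁ →ₗ[A] N₂) {Y : Dual.D A} (φ : Dual.inD A N₂ ⟶ Y) : dualMap f Y φ = inDMap f ≫ φ := rfl

section Seq

variable {N₁ N₂ N₃ : Type u} [AddCommGroup N₁] [Module A N₁] [AddCommGroup N₂] [Module A N₂]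
  [AddCommGroup N₃] [Module A N₃] {f : N₁ →ₗ[A] N₂} {g : N₂ →ₗ[A] N₃}
  (hf : Function.Injective f) (hg : Function.Surjective g) (h : Function.Exact f g)

include hf hg h

theorem dualMap_injective (Y : Dual.D A) (h₁ : Subsingleton (Dual.inD A N₁ ⟶ Y⟦(-1 : ℤ)⟧)) :
    Function.Injective (dualMap g Y) := by
  rw [injective_iff_map_eq_zero]
  intro φ hφ
  obtain ⟨w, hS⟩ := KFlatLib.exists_ses_of_exact hf hg h
  obtain ⟨χ, hχ⟩ := Triangle.yoneda_exact₃ _ hS.singleTriangle_distinguished φ hφ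
  haveI := (subsingleton_hom_shift_one_iff (Dual.inD A N₁) Y).2 h₁
  rw [hχ, Subsingleton.elim (α := (Dual.inD A N₁)⟦(1 : ℤ)⟧ ⟶ Y) χ 0, comp_zero]

theorem dualMap_exact (Y : Dual.D A) : Function.Exact (dualMap g Y) (dualMap f Y) := by
  intro φ
  constructor
  · intro hφ
    obtain ⟨ψ, hψ⟩ := KFlatLib.exists_factor_inD hf hg h Y φ hφ
    exact ⟨ψ, hψ.symm⟩
  · rintro ⟨ψ, rfl⟩
    rw [dualMap_apply, dualMap_apply, ← Category.assoc, ← Functor.map_comp]
    have h0 : ModuleCat.ofHom f ≫ ModuleCat.ofHom g = 0 :=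
      ModuleCat.hom_ext (LinearMap.ext fun x => h.apply_apply_eq_zero x)
    rw [h0, Functor.map_zero, zero_comp]

theorem dualMap_surjective (Y : Dual.D A) (h₃ : Subsingleton (Dual.inD A N₃ ⟶ Y⟦(1 : ℤ)⟧)) :
    Function.Surjective (dualMap f Y) := by
  intro φ
  obtain ⟨δ, hδ⟩ := KFlatLib.exists_extend_inD hf hg h Y 0
  haveI : Subsingleton (Dual.inD A N₃ ⟶ Y⟦(0 : ℤ) + 1⟧) := by rwa [zero_add]
  obtain ⟨ψ, hψ⟩ := hδ ((homShiftZero _ Y).symm φ) (Subsingleton.elim _ _)
  refine ⟨homShiftZero _ Y ψ, ?_⟩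
  rw [← (homShiftZero _ Y).apply_symm_apply φ, ← hψ]
  simp only [dualMap_apply, homShiftZero, Linear.homCongr_apply, Iso.refl_inv, Category.id_comp, Category.assoc]

end Seq

section Normalized

variable [IsNoetherianRing A] [IsLocalRing A] {ω : Dual.D A}

/-- Maps from the residue field into a normalized dualizing complex. -/
theorem exists_residueHomEquiv (hω : Dual.IsDualizing A ω) (hN : Dual.IsNormalized A ω) :
    Nonempty ((Dual.inD A (A ⧸ maximalIdeal A) ⟶ ω) ≃ₗ[A] (A ⧸ maximalIdeal A)) := by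
  haveI := KFlatLib.hasLTen A
  haveI := KFlatLib.hasRHom (A := A)
  obtain ⟨n, -, ⟨e⟩⟩ := KFlatLib.exists_unique_ext_point (maximalIdeal A) hω
  obtain rfl : n = 0 := by
    by_contra hne
    haveI : Subsingleton (Dual.inD A (A ⧸ maximalIdeal A) ⟶ ω⟦n⟧) := hN n hne
    exact not_subsingleton (A ⧸ maximalIdeal A) e.symm.subsingleton
  exact ⟨(homShiftZero _ ω).symm.trans e⟩

omit [IsNoetherianRing A] in
theorem exists_residueEquiv_of_simple (S : Type u) [AddCommGroup S] [Module A S] [IsSimpleModule A S] :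
    Nonempty (S ≃ₗ[A] (A ⧸ maximalIdeal A)) := by
  obtain ⟨m, hm, ⟨e⟩⟩ := isSimpleModule_iff_quot_maximal.mp ‹IsSimpleModule A S›
  rw [IsLocalRing.eq_maximalIdeal hm] at e
  exact ⟨e⟩

/-- Maps out of finite length modules: vanishing off degree zero and the length in degree zero. -/
theorem finLen_hom (hω : Dual.IsDualizing A ω) (hN : Dual.IsNormalized A ω) (N : Type u) [AddCommGroup N]
    [Module A N] (hfl : IsFiniteLength A N) :
    (∀ i : ℤ, i ≠ 0 → Subsingleton (Dual.inD A N ⟶ ω⟦i⟧)) ∧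
      Module.length A (Dual.inD A N ⟶ ω) = Module.length A N := by
  suffices ∀ (M : Type u) [AddCommGroup M] [Module A M] (l : ℕ), Module.length A M = l →
      (∀ i : ℤ, i ≠ 0 → Subsingleton (Dual.inD A M ⟶ ω⟦i⟧)) ∧
        Module.length A (Dual.inD A M ⟶ ω) = Module.length A M by
    obtain ⟨l, hl⟩ := ENat.ne_top_iff_exists.1 (Module.length_ne_top_iff.2 hfl)
    exact this N l hl.symm
  intro M _ _ l
  induction l using Nat.strong_induction_on generalizing M with
  | _ l ih =>
    intro hl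
    rcases subsingleton_or_nontrivial M with hM | hM
    · have hz : IsZero (Dual.inD A M) := (DerivedCategory.singleFunctor (ModuleCat.{u} A) 0).map_isZero
        (ModuleCat.isZero_of_subsingleton _)
      haveI : Subsingleton (Dual.inD A M ⟶ ω) := subsingleton_of_forall_eq 0 fun f => hz.eq_of_src f 0
      exact ⟨fun i _ => subsingleton_of_forall_eq 0 fun f => hz.eq_of_src f 0,
        by rw [Module.length_eq_zero, Module.length_eq_zero]⟩
    have hfl : IsFiniteLength A M := Module.length_ne_top_iff.1 (by rw [hl]; exact ENat.natCast_ne_top l)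
    obtain ⟨N₁, hsimple, -⟩ : ∃ N₁ : Submodule A M, IsSimpleModule A (M ⧸ N₁) ∧ True := by
      cases hfl with
      | of_subsingleton => exact absurd ‹Subsingleton M› (not_subsingleton M)
      | of_simple_quotient h => exact ⟨_, ‹_›, trivial⟩
    haveI := hsimple
    obtain ⟨e⟩ := exists_residueEquiv_of_simple (A := A) (M ⧸ N₁)
    let g : M →ₗ[A] (A ⧸ maximalIdeal A) := e.toLinearMap ∘ₗ N₁.mkQ
    have hg : Function.Surjective g := e.surjective.comp N₁.mkQ_surjective
    have hfg : Function.Exact N₁.subtype g :=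
      (LinearMap.exact_subtype_mkQ N₁).comp_injective _ e.injective (map_zero e)
    have hsum : Module.length A M = Module.length A N₁ + Module.length A (A ⧸ maximalIdeal A) :=
      Module.length_eq_add_of_exact N₁.subtype g N₁.injective_subtype hg hfg
    haveI : IsSimpleModule A (A ⧸ maximalIdeal A) := IsSimpleModule.congr e.symm
    have h1 : Module.length A (A ⧸ maximalIdeal A) = 1 := Module.length_eq_one _ _
    rw [h1, hl] at hsum
    obtain ⟨l₁, hl₁⟩ := ENat.ne_top_iff_exists.1 (show Module.length A N₁ ≠ ⊤ from fun h => by simp [h] at hsum)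
    have hlt : l₁ < l := by
      rw [← hl₁] at hsum
      have : l = l₁ + 1 := by exact_mod_cast hsum
      omega
    obtain ⟨hv, hlen⟩ := ih l₁ hlt N₁ hl₁.symm
    have hk : ∀ i : ℤ, i ≠ 0 → Subsingleton (Dual.inD A (A ⧸ maximalIdeal A) ⟶ ω⟦i⟧) := hN
    refine ⟨fun i hi => KFlatLib.subsingleton_hom_inD_mid N₁.injective_subtype hg hfg _ (hv i hi) (hk i hi), ?_⟩
    rw [Module.length_eq_add_of_exact (dualMap g ω) (dualMap N₁.subtype ω)
      (dualMap_injective N₁.injective_subtype hg hfg ω (hv _ (by omega)))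
      (dualMap_surjective N₁.injective_subtype hg hfg ω (hk _ (by omega)))
      (dualMap_exact N₁.injective_subtype hg hfg ω), hlen]
    obtain ⟨ek⟩ := exists_residueHomEquiv hω hN
    rw [ek.length_eq, h1, ← hl₁, hl, hsum, hl₁, add_comm]

end Normalized

end Groth.Agent.DualityLC
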