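import Groth.Agent.DualityLC.Colim
import Groth.Agent.DualityLC.FinLenHom
import Groth.Agent.LC.Matlis

/-!
# The torsion limit of a normalized dualizing complex is the injective hull of the residue field
-/

set_option autoImplicit false
set_option linter.style.haveILetI false
set_option backward.isDefEq.respectTransparency false

universe u

open CategoryTheory CategoryTheory.Limits Pretriangulated IsLocalRing

attribute [local instance] HasDerivedCategory.standard

namespace Groth.Agent.DualityLC

open Groth.Agent.KFlatLib (inDMap)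

variable {A : Type u} [CommRing A]

theorem dualMap_comp {N₁ N₂ N₃ : Type u} [AddCommGroup N₁] [Module A N₁] [AddCommGroup N₂] [Module A N₂]
    [AddCommGroup N₃] [Module A N₃] (f : N₁ →ₗ[A] N₂) (g : N₂ →ₗ[A] N₃) {Y : Dual.D A}
    (φ : Dual.inD A N₃ ⟶ Y) : dualMap f Y (dualMap g Y φ) = dualMap (g ∘ₗ f) Y φ := by
  simp only [dualMap_apply, ← Category.assoc, ← Functor.map_comp]
  rfl

theorem dualMap_smul {N₁ N₂ : Type u} [AddCommGroup N₁] [Module A N₁] [AddCommGroup N₂] [Module A N₂]
    (r : A) (f : N₁ →ₗ[A] N₂) {Y : Dual.D A} (φ : Dual.inD A N₂ ⟶ Y) :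
    dualMap (r • f) Y φ = r • dualMap f Y φ := by
  simp only [dualMap_apply, inDMap]
  rw [show ModuleCat.ofHom (r • f) = r • ModuleCat.ofHom f from rfl, Functor.map_smul, Linear.smul_comp]

theorem dualMap_sum {N₁ N₂ : Type u} [AddCommGroup N₁] [Module A N₁] [AddCommGroup N₂] [Module A N₂]
    {ι : Type} (s : Finset ι) (f : ι → (N₁ →ₗ[A] N₂)) {Y : Dual.D A} (φ : Dual.inD A N₂ ⟶ Y) :
    dualMap (∑ j ∈ s, f j) Y φ = ∑ j ∈ s, dualMap (f j) Y φ := by
  simp only [dualMap_apply, inDMap]
  rw [show ModuleCat.ofHom (∑ j ∈ s, f j) = ∑ j ∈ s, ModuleCat.ofHom (f j) from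
    ModuleCat.hom_ext (by rw [ModuleCat.hom_sum]; rfl), Functor.map_sum, Preadditive.sum_comp]

variable [IsNoetherianRing A] [IsLocalRing A] {ω : Dual.D A}

omit [IsNoetherianRing A] [IsLocalRing A] in
theorem isFiniteLength_of_injective {M N : Type u} [AddCommGroup M] [Module A M] [AddCommGroup N]
    [Module A N] (f : M →ₗ[A] N) (hf : Function.Injective f) (h : IsFiniteLength A N) :
    IsFiniteLength A M := by
  obtain ⟨_, _⟩ := isFiniteLength_iff_isNoetherian_isArtinian.1 h
  exact isFiniteLength_iff_isNoetherian_isArtinian.2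
    ⟨isNoetherian_of_injective f hf, isArtinian_of_injective f hf⟩

theorem isFiniteLength_pi_quot (n k : ℕ) : IsFiniteLength A (Fin k → A ⧸ maximalIdeal A ^ n) := by
  rw [← Module.length_ne_top_iff, Module.length_pi_of_fintype]
  simp only [ne_eq, ENat.sum_eq_top, not_exists, not_and]
  exact fun j _ => Module.length_ne_top_iff.2 (LC.isFiniteLength_quot_pow n)

/-- Maps into the dualizing complex detect surjections of finite length modules. -/
theorem dualMap_injective_of_surjective (hω : Dual.IsDualizing A ω) (hN : Dual.IsNormalized A ω)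
    {M N : Type u} [AddCommGroup M] [Module A M] [AddCommGroup N] [Module A N] (g : M →ₗ[A] N)
    (hg : Function.Surjective g) (hfl : IsFiniteLength A M) : Function.Injective (dualMap g ω) :=
  dualMap_injective (LinearMap.ker g).injective_subtype hg (LinearMap.exact_subtype_ker_map g) ω
    ((finLen_hom hω hN _ (isFiniteLength_of_injective _ (LinearMap.ker g).injective_subtype hfl)).1 _
      (by omega))

theorem qDMap_comp_injective (hω : Dual.IsDualizing A ω) (hN : Dual.IsNormalized A ω) {n m : ℕ}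
    (h : n ≤ m) :
    Function.Injective fun f : qD (maximalIdeal A) n ⟶ ω => qDMap (maximalIdeal A) h ≫ f :=
  dualMap_injective_of_surjective hω hN (LC.qMap (maximalIdeal A) h).hom
    (Submodule.factor_surjective (Ideal.pow_le_pow_right h)) (LC.isFiniteLength_quot_pow m)

theorem toCol_injective (hω : Dual.IsDualizing A ω) (hN : Dual.IsNormalized A ω) (n : ℕ) :
    Function.Injective (toCol (maximalIdeal A) ω n) := by
  rw [injective_iff_map_eq_zero]
  intro f hf
  obtain ⟨m, h, hm⟩ := (toCol_eq_zero_iff _ f).1 hf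
  exact qDMap_comp_injective hω hN h (hm.trans comp_zero.symm)

/-- Off degree zero the limit vanishes. -/
theorem subsingleton_col_shift (hω : Dual.IsDualizing A ω) (hN : Dual.IsNormalized A ω) (i : ℤ)
    (hi : i ≠ 0) : Subsingleton (Col (maximalIdeal A) (ω⟦i⟧)) :=
  subsingleton_col _ fun n f => ⟨n, le_rfl, by
    haveI : Subsingleton (qD (maximalIdeal A) n ⟶ ω⟦i⟧) :=
      (finLen_hom hω hN (A ⧸ maximalIdeal A ^ n) (LC.isFiniteLength_quot_pow n)).1 i hi
    exact Subsingleton.elim _ _⟩

/-- The socle comes from level one. -/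
theorem socle_col (hω : Dual.IsDualizing A ω) (hN : Dual.IsNormalized A ω)
    (z : Col (maximalIdeal A) ω) (hz : ∀ a ∈ maximalIdeal A, a • z = 0) :
    ∃ f, toCol (maximalIdeal A) ω 1 f = z := by
  obtain ⟨n, hn, φ, rfl⟩ := exists_toCol_of_le _ z 1
  have hφ : ∀ a ∈ maximalIdeal A, a • φ = 0 := fun a ha =>
    toCol_injective hω hN n (by rw [map_smul, map_zero]; exact hz a ha)
  let q : (A ⧸ maximalIdeal A ^ n) →ₗ[A] (A ⧸ maximalIdeal A ^ 1) := (LC.qMap (maximalIdeal A) hn).hom
  have hq : Function.Surjective q := Submodule.factor_surjective (Ideal.pow_le_pow_right hn)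
  obtain ⟨k, a, ha⟩ := Submodule.fg_iff_exists_fin_generating_family.1
    (IsNoetherian.noetherian (maximalIdeal A))
  have ham : ∀ j, a j ∈ maximalIdeal A := fun j => ha ▸ Submodule.subset_span ⟨j, rfl⟩
  let c : (Fin k → A ⧸ maximalIdeal A ^ n) →ₗ[A] (A ⧸ maximalIdeal A ^ n) :=
    ∑ j, a j • LinearMap.proj j
  have hc : ∀ x, q (c x) = 0 := by
    intro x
    simp only [c, LinearMap.sum_apply, map_sum, LinearMap.smul_apply, map_smul, LinearMap.proj_apply]
    refine Finset.sum_eq_zero fun j _ => ?_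
    obtain ⟨r, hr⟩ := Submodule.Quotient.mk_surjective _ (q (x j))
    rw [← hr, ← Submodule.Quotient.mk_smul, Submodule.Quotient.mk_eq_zero, pow_one, smul_eq_mul]
    exact Ideal.mul_mem_right r _ (ham j)
  let π : (Fin k → A ⧸ maximalIdeal A ^ n) →ₗ[A] LinearMap.ker q := c.codRestrict _ hc
  have hπ : Function.Surjective π := by
    rintro ⟨x, hx⟩
    obtain ⟨r, rfl⟩ := Submodule.Quotient.mk_surjective _ x
    have hr : r ∈ maximalIdeal A := by
      rw [← pow_one (maximalIdeal A)]
      exact (Submodule.Quotient.mk_eq_zero _).1 hx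
    rw [← ha, Submodule.mem_span_range_iff_exists_fun] at hr
    obtain ⟨t, ht⟩ := hr
    refine ⟨fun j => Submodule.Quotient.mk (t j), Subtype.ext ?_⟩
    show c _ = Submodule.Quotient.mk r
    rw [← ht]
    simp only [c, LinearMap.sum_apply, LinearMap.smul_apply,
      LinearMap.proj_apply, ← Submodule.mkQ_apply, map_sum, map_smul, smul_eq_mul]
    refine Finset.sum_congr rfl fun j _ => ?_
    rw [← map_smul, smul_eq_mul, mul_comm]
  have hres : dualMap (LinearMap.ker q).subtype ω φ = 0 := by
    refine dualMap_injective_of_surjective hω hN π hπ (isFiniteLength_pi_quot n k) ?_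
    rw [map_zero, dualMap_comp, LinearMap.subtype_comp_codRestrict]
    simp only [c]
    rw [dualMap_sum]
    refine Finset.sum_eq_zero fun j _ => ?_
    rw [dualMap_smul, ← map_smul, hφ _ (ham j), map_zero]
  obtain ⟨ψ, hψ⟩ := ((dualMap_exact (LinearMap.ker q).injective_subtype hq
    (LinearMap.exact_subtype_ker_map q) ω) φ).1 hres
  exact ⟨ψ, by rw [← toCol_res _ hn ψ, ← hψ]; rfl⟩

omit [IsNoetherianRing A] [IsLocalRing A] in
/-- A nonzero power torsion element has a nonzero multiple killed by the ideal. -/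
theorem exists_smul_socle (I : Ideal A) {M : Type*} [AddCommGroup M] [Module A M]
    (hM : LocCoh.IsPowerTorsion I M) {z : M} (hz : z ≠ 0) :
    ∃ r : A, r • z ≠ 0 ∧ ∀ a ∈ I, a • r • z = 0 := by
  classical
  have hex : ∃ n : ℕ, ∀ a ∈ I ^ n, a • z = 0 := hM z
  obtain ⟨l, hl⟩ : ∃ l, Nat.find hex = l + 1 := by
    refine Nat.exists_eq_succ_of_ne_zero fun h0 => hz ?_
    have := Nat.find_spec hex 1
    rw [h0, pow_zero, Ideal.one_eq_top, one_smul] at this
    exact this trivial
  have h2 := Nat.find_min hex (show l < Nat.find hex by omega)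
  simp only [not_forall] at h2
  obtain ⟨r, hr, hrz⟩ := h2
  refine ⟨r, hrz, fun a ha => ?_⟩
  rw [← mul_smul, mul_comm]
  have := Nat.find_spec hex (r * a)
  rw [hl, pow_succ] at this
  exact this (Ideal.mul_mem_mul hr ha)

/-- The limit of a normalized dualizing complex is an injective hull of the residue field. -/
theorem exists_colHullEquiv (hω : Dual.IsDualizing A ω) (hN : Dual.IsNormalized A ω) (E : Type u)
    [AddCommGroup E] [Module A E] (f : ResidueField A →ₗ[A] E) (hf : InjHull.IsInjectiveHull f) :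
    Nonempty (Col (maximalIdeal A) ω ≃ₗ[A] E) := by
  obtain ⟨e₀⟩ := exists_residueHomEquiv hω hN
  obtain ⟨e₁⟩ : Nonempty ((qD (maximalIdeal A) 1 ⟶ ω) ≃ₗ[A] (A ⧸ maximalIdeal A)) :=
    ⟨(Linear.homCongr A ((DerivedCategory.singleFunctor (ModuleCat.{u} A) 0).mapIso
      (Submodule.quotEquivOfEq _ _ (pow_one (maximalIdeal A))).toModuleIso) (Iso.refl ω)).trans e₀⟩
  let ι : (A ⧸ maximalIdeal A) →ₗ[A] Col (maximalIdeal A) ω :=
    toCol (maximalIdeal A) ω 1 ∘ₗ e₁.symm.toLinearMap
  have hι : Function.Injective ι := (toCol_injective hω hN 1).comp e₁.symm.injective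
  obtain ⟨g, hg⟩ := (Module.Baer.of_injective hf.isInjective).extension_property ι hι f
  have ginj : Function.Injective g := by
    rw [injective_iff_map_eq_zero]
    intro z hz
    by_contra hne
    obtain ⟨r, hr, hr'⟩ := exists_smul_socle _ (col_isPowerTorsion _ ω) hne
    obtain ⟨φ, hφ⟩ := socle_col hω hN _ hr'
    have h1 : ι (e₁ φ) = r • z := by
      rw [← hφ]
      exact congrArg _ (e₁.symm_apply_apply φ)
    have h2 : f (e₁ φ) = 0 := by
      have := LinearMap.congr_fun hg (e₁ φ)
      rw [LinearMap.comp_apply, h1, map_smul, hz, smul_zero] at this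
      exact this.symm
    exact hr (by rw [← h1, hf.injective (h2.trans (map_zero f).symm), map_zero])
  refine ⟨LinearEquiv.ofBijective g ⟨ginj, fun e => ?_⟩⟩
  obtain ⟨n, hn⟩ := LC.hull_isPowerTorsion hf e
  let ev : ((A ⧸ maximalIdeal A ^ n) →ₗ[A] E) →ₗ[A] E :=
    LinearMap.applyₗ (Submodule.Quotient.mk (1 : A))
  have hev : Function.Injective ev := fun a b hab => Submodule.linearMap_qext _ (LinearMap.ext_ring hab)
  have hlift : ∀ x : E, (∀ a ∈ maximalIdeal A ^ n, a • x = 0) → x ∈ LinearMap.range ev := fun x hx =>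
    ⟨(maximalIdeal A ^ n).liftQ (LinearMap.toSpanSingleton A E x) (fun a ha => hx a ha),
      one_smul A x⟩
  let F : (qD (maximalIdeal A) n ⟶ ω) →ₗ[A] LinearMap.range ev :=
    (g ∘ₗ toCol (maximalIdeal A) ω n).codRestrict _ fun φ => hlift _ fun a ha => by
      rw [← map_smul, smul_qD_hom_eq_zero _ φ ha, map_zero]
  have hF : Function.Injective F := fun a b hab =>
    toCol_injective hω hN n (ginj (congrArg Subtype.val hab))
  have hfl := LC.isFiniteLength_quot_pow (R := A) n
  have hlen : Module.length A (qD (maximalIdeal A) n ⟶ ω) = Module.length A (LinearMap.range ev) := by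
    rw [← (LinearEquiv.ofInjective ev hev).length_eq, LC.length_dual hf _ hfl]
    exact (finLen_hom hω hN _ hfl).2
  have hfl' : IsFiniteLength A (LinearMap.range ev) := by
    rw [← Module.length_ne_top_iff, ← hlen, (finLen_hom hω hN _ hfl).2]
    exact Module.length_ne_top_iff.2 hfl
  have hsurj : Function.Surjective F := by
    obtain ⟨_, _⟩ := isFiniteLength_iff_isNoetherian_isArtinian.1 hfl'
    rw [← LinearMap.range_eq_top]
    by_contra h
    have := Submodule.length_lt h
    rw [← (LinearEquiv.ofInjective _ hF).length_eq, hlen] at this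
    exact lt_irrefl _ this
  obtain ⟨φ, hφ⟩ := hsurj ⟨e, hlift e hn⟩
  exact ⟨toCol (maximalIdeal A) ω n φ, congrArg Subtype.val hφ⟩

theorem baer_col (hω : Dual.IsDualizing A ω) (hN : Dual.IsNormalized A ω) :
    Module.Baer A (Col (maximalIdeal A) ω) := by
  obtain ⟨E, _, _, f, hf⟩ := LC.exists_injectiveHull A (ResidueField A)
  obtain ⟨e⟩ := exists_colHullEquiv hω hN E f hf
  exact Module.Baer.of_equiv e.symm (Module.Baer.of_injective hf.isInjective)

end Groth.Agent.DualityLC
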