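import Groth.Agent.DualityLC.GorLocus
import Groth.Agent.LC.Finiteness
import Groth.Agent.LC.CanonCM

/-!
# The dualizing module satisfies (S₂)
-/

set_option autoImplicit false
set_option linter.style.haveILetI false
set_option backward.isDefEq.respectTransparency false

universe u v w

open CategoryTheory CategoryTheory.Limits Pretriangulated IsLocalRing RingTheory.Sequence

open Groth.Agent.KFlatLib (inDMap)

open scoped Pointwise

attribute [local instance] HasDerivedCategory.standard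

namespace Groth.Agent.DualityLC

variable {A : Type u} [CommRing A]

theorem inDMap_smul_id {N : Type u} [AddCommGroup N] [Module A N] (x : A) :
    inDMap (x • LinearMap.id : N →ₗ[A] N) = x • 𝟙 (Dual.inD A N) := by
  have h : (ModuleCat.ofHom (x • LinearMap.id : N →ₗ[A] N)) = x • 𝟙 (ModuleCat.of A N) := rfl
  show (DerivedCategory.singleFunctor (ModuleCat.{u} A) 0).map _ = _
  rw [h, Functor.map_smul, CategoryTheory.Functor.map_id]

theorem dualMap_smul_id {N : Type u} [AddCommGroup N] [Module A N] (x : A) {Y : Dual.D A}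
    (φ : Dual.inD A N ⟶ Y) : dualMap (x • LinearMap.id : N →ₗ[A] N) Y φ = x • φ := by
  rw [dualMap_apply, inDMap_smul_id, Linear.smul_comp, Category.id_comp]

/-- Maps out of a module killed by `x` are killed by `x`. -/
theorem smul_hom_eq_zero_of_kill {N : Type u} [AddCommGroup N] [Module A N] {x : A} (hx : ∀ z : N, x • z = 0)
    {Y : Dual.D A} (φ : Dual.inD A N ⟶ Y) : x • φ = 0 := by
  rw [← dualMap_smul_id, show (x • LinearMap.id : N →ₗ[A] N) = 0 from LinearMap.ext hx, dualMap_apply]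
  show (DerivedCategory.singleFunctor (ModuleCat.{u} A) 0).map (ModuleCat.ofHom (0 : N →ₗ[A] N)) ≫ φ = 0
  rw [show ModuleCat.ofHom (0 : N →ₗ[A] N) = 0 from rfl, Functor.map_zero, zero_comp]

theorem regular_of_injective {X : Type v} {Y : Type w} [AddCommGroup X] [Module A X] [AddCommGroup Y] [Module A Y]
    (f : X →ₗ[A] Y) (hf : Function.Injective f) {x : A} (h : IsSMulRegular Y x) : IsSMulRegular X x :=
  fun a b hab => hf (h (by
    show x • f a = x • f b
    rw [← map_smul, ← map_smul]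
    exact congrArg f hab))

theorem le_idealDepth_of_isWeaklyRegular {I : Ideal A} {W : Type v} [AddCommGroup W] [Module A W] (rs : List A)
    (h : IsWeaklyRegular W rs) (hmem : ∀ r ∈ rs, r ∈ I) : (rs.length : ℕ∞) ≤ LocCoh.idealDepth I W := by
  unfold LocCoh.idealDepth
  split_ifs
  · exact le_top
  · exact le_iSup₂ (f := fun (rs : List A) (_ : IsWeaklyRegular W rs ∧ ∀ r ∈ rs, r ∈ I) => (rs.length : ℕ∞))
      rs ⟨h, hmem⟩

theorem min_le_depth [IsLocalRing A] (W : Type v) [AddCommGroup W] [Module A W] (e : ℕ)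
    (h : ∃ rs : List A, rs.length = min 2 e ∧ IsWeaklyRegular W rs ∧ ∀ r ∈ rs, r ∈ maximalIdeal A) :
    ((min 2 e : ℕ) : ℕ∞) ≤ LocCoh.depth A W := by
  obtain ⟨rs, hlen, hreg, hmem⟩ := h
  rw [← hlen]
  exact le_idealDepth_of_isWeaklyRegular rs hreg hmem

variable [IsNoetherianRing A] [IsLocalRing A] {ω : Dual.D A}

theorem subsingleton_hom_of_supportDim_le (hω : Dual.IsDualizing A ω) (hN : Dual.IsNormalized A ω)
    (M : Type u) [AddCommGroup M] [Module A M] [Module.Finite A M] (e : ℕ)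
    (hd : Module.supportDim A M ≤ (e : WithBot ℕ∞)) (i : ℤ) (hi : i < -(e : ℤ)) :
    Subsingleton (Dual.inD A M ⟶ ω⟦i⟧) := by
  rcases subsingleton_or_nontrivial M with h | h
  · rw [← Module.support_eq_empty_iff (R := A), Set.eq_empty_iff_forall_notMem]
    intro q hq
    have := KFlatLib.support_hom_subset M _ hq
    rw [Module.support_eq_empty] at this
    exact this
  obtain ⟨d, hd', hde⟩ : ∃ d : ℕ, Module.supportDim A M = d ∧ d ≤ e := by
    have h1 := Module.supportDim_ne_bot_of_nontrivial A M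
    generalize Module.supportDim A M = z at h1 hd ⊢
    induction z with
    | bot => exact absurd rfl h1
    | coe z => induction z with
      | top => exact absurd (WithBot.coe_le_coe.1 hd) (by simp)
      | coe d => exact ⟨d, rfl, by exact_mod_cast hd⟩
  by_contra hc
  rw [not_subsingleton_iff_nontrivial] at hc
  have := ((KFlatLib.ext_amplitude_and_support hω hN M d hd' i).1 hc).1
  omega

/-- The torsion-free quotient carries the same top Ext. -/
theorem exists_torsionFree_quotient (hω : Dual.IsDualizing A ω) (hN : Dual.IsNormalized A ω)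
    (N : Type u) [AddCommGroup N] [Module A N] [Module.Finite A N] (e : ℤ) (he : e < 0) :
    ∃ _ : (Dual.inD A (N ⧸ DRing.torsionSub (maximalIdeal A) N) ⟶ ω⟦e⟧) ≃ₗ[A] (Dual.inD A N ⟶ ω⟦e⟧),
      True := by
  haveI hfl : IsFiniteLength A (DRing.torsionSub (maximalIdeal A) N) := by
    obtain ⟨m, hm⟩ := LC.exists_pow_smul_eq_zero_of_finite (maximalIdeal A)
      (DRing.torsionSub (maximalIdeal A) N) (fun z => by
        obtain ⟨n, hn⟩ := z.2
        exact ⟨n, fun a ha => Subtype.ext (hn a ha)⟩)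
    haveI := (isFiniteLength_iff_isNoetherian_isArtinian.1 (LC.isFiniteLength_quot_pow (R := A) m)).2
    haveI : IsArtinianRing (A ⧸ maximalIdeal A ^ m) := isArtinian_of_tower A this
    exact isFiniteLength_iff_isNoetherian_isArtinian.2 ⟨inferInstance, LC.isArtinian_of_kill (maximalIdeal A ^ m) _ hm⟩
  have hv := (finLen_hom hω hN _ hfl).1
  refine ⟨LinearEquiv.ofBijective (dualMap (DRing.torsionSub (maximalIdeal A) N).mkQ (ω⟦e⟧)) ⟨?_, ?_⟩, trivial⟩
  · refine dualMap_injective (f := (DRing.torsionSub (maximalIdeal A) N).subtype) (Submodule.injective_subtype _)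
      (Submodule.mkQ_surjective _) (LinearMap.exact_subtype_mkQ _) _ ?_
    exact @Equiv.subsingleton _ _ (Linear.homCongr A (Iso.refl _)
      ((shiftFunctorAdd' (Dual.D A) e (-1) (e - 1) (by omega)).app ω)).toEquiv.symm (hv _ (by omega))
  · intro φ
    haveI := hv e (by omega)
    obtain ⟨ψ, hψ⟩ := (dualMap_exact (f := (DRing.torsionSub (maximalIdeal A) N).subtype)
      (g := (DRing.torsionSub (maximalIdeal A) N).mkQ) (Submodule.injective_subtype _)
      (Submodule.mkQ_surjective _) (LinearMap.exact_subtype_mkQ _) (ω⟦e⟧) φ).1 (Subsingleton.elim _ _)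
    exact ⟨ψ, hψ⟩

/-- One regular element on the top Ext, with control on the quotient. -/
theorem exists_regular_top_hom (hω : Dual.IsDualizing A ω) (hN : Dual.IsNormalized A ω)
    (N : Type u) [AddCommGroup N] [Module A N] [Module.Finite A N] (e : ℕ)
    (hd : Module.supportDim A N ≤ ((e + 1 : ℕ) : WithBot ℕ∞)) :
    ∃ x ∈ maximalIdeal A, IsSMulRegular (Dual.inD A N ⟶ ω⟦-((e + 1 : ℕ) : ℤ)⟧) x ∧
      ∃ (N' : Type u) (_ : AddCommGroup N') (_ : Module A N') (_ : Module.Finite A N')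
        (φ : (Dual.inD A N ⟶ ω⟦-((e + 1 : ℕ) : ℤ)⟧) →ₗ[A] (Dual.inD A N' ⟶ ω⟦-(e : ℤ)⟧)),
        Module.supportDim A N' ≤ (e : WithBot ℕ∞) ∧
          LinearMap.ker φ = x • (⊤ : Submodule A (Dual.inD A N ⟶ ω⟦-((e + 1 : ℕ) : ℤ)⟧)) := by
  obtain ⟨eM, -⟩ := exists_torsionFree_quotient hω hN N (-((e + 1 : ℕ) : ℤ)) (by omega)
  let T := DRing.torsionSub (maximalIdeal A) N
  obtain ⟨x, hx, hreg⟩ := LC.exists_regular_of_torsionFree (maximalIdeal A) (N ⧸ T)
    (LC.torsionSub_quot_eq_bot (maximalIdeal A) N)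
  let f : (N ⧸ T) →ₗ[A] (N ⧸ T) := x • LinearMap.id
  have hf : Function.Injective f := hreg
  let g : (N ⧸ T) →ₗ[A] QuotSMulTop x (N ⧸ T) := Submodule.mkQ _
  have hg : Function.Surjective g := Submodule.mkQ_surjective _
  have hfg : Function.Exact f g := by
    intro z
    rw [show g z = 0 ↔ z ∈ x • (⊤ : Submodule A (N ⧸ T)) from Submodule.Quotient.mk_eq_zero _,
      Submodule.mem_smul_pointwise_iff_exists]
    exact ⟨fun ⟨w, _, hw⟩ => ⟨w, hw⟩, fun ⟨w, hw⟩ => ⟨w, trivial, hw⟩⟩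
  have hd' : Module.supportDim A (QuotSMulTop x (N ⧸ T)) ≤ (e : WithBot ℕ∞) := by
    rcases subsingleton_or_nontrivial (N ⧸ T) with h | h
    · rw [(Module.supportDim_eq_bot_iff_subsingleton A (N ⧸ T)).2 h |> fun h0 => show Module.supportDim A (QuotSMulTop x (N ⧸ T)) = ⊥ from (Module.supportDim_eq_bot_iff_subsingleton A _).2 inferInstance]
      exact bot_le
    have h1 := Module.supportDim_quotSMulTop_succ_eq_supportDim hreg hx
    have h2 := (Module.supportDim_le_of_surjective _ (Submodule.mkQ_surjective T)).trans hd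
    rw [← h1, Nat.cast_add, Nat.cast_one] at h2
    generalize Module.supportDim A (QuotSMulTop x (N ⧸ T)) = z at h2 ⊢
    induction z with
    | bot => exact bot_le
    | coe z => induction z with
      | top => exact absurd (WithBot.coe_le_coe.1 (show (((⊤ : ℕ∞) + 1 : ℕ∞) : WithBot ℕ∞) ≤ (((e + 1 : ℕ) : ℕ∞) : WithBot ℕ∞) from h2)) (by simp)
      | coe d =>
        have h3 : d + 1 ≤ e + 1 := by exact_mod_cast h2
        exact_mod_cast (show d ≤ e by omega)
  have hrg : IsSMulRegular (Dual.inD A (N ⧸ T) ⟶ ω⟦-((e + 1 : ℕ) : ℤ)⟧) x := by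
    intro φ ψ hφψ
    have h0 : dualMap f (ω⟦-((e + 1 : ℕ) : ℤ)⟧) (φ - ψ) = 0 := by
      rw [dualMap_smul_id, smul_sub]
      exact sub_eq_zero.2 hφψ
    obtain ⟨χ, hχ⟩ := (dualMap_exact hf hg hfg _ _).1 h0
    haveI := subsingleton_hom_of_supportDim_le hω hN _ e hd' (-((e + 1 : ℕ) : ℤ)) (by omega)
    rw [Subsingleton.elim χ 0, map_zero] at hχ
    exact sub_eq_zero.1 hχ.symm
  obtain ⟨δ, hδ⟩ := KFlatLib.exists_extend_inD hf hg hfg ω (-((e + 1 : ℕ) : ℤ))
  have hker : LinearMap.ker δ = x • (⊤ : Submodule A (Dual.inD A (N ⧸ T) ⟶ ω⟦-((e + 1 : ℕ) : ℤ)⟧)) := by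
    refine le_antisymm (fun φ hφ => ?_) fun φ hφ => ?_
    · obtain ⟨ψ, hψ⟩ := hδ φ hφ
      refine (Submodule.mem_smul_pointwise_iff_exists φ x ⊤).2 ⟨ψ, trivial, ?_⟩
      rw [← hψ]
      exact (dualMap_smul_id x ψ).symm
    · obtain ⟨ψ, -, rfl⟩ := (Submodule.mem_smul_pointwise_iff_exists φ x ⊤).1 hφ
      rw [LinearMap.mem_ker, map_smul]
      exact smul_hom_eq_zero_of_kill (fun z => by
        obtain ⟨z, rfl⟩ := Submodule.mkQ_surjective _ z
        rw [← map_smul]
        exact (Submodule.Quotient.mk_eq_zero _).2 (Submodule.smul_mem_pointwise_smul z x ⊤ trivial)) _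
  let c : (Dual.inD A (QuotSMulTop x (N ⧸ T)) ⟶ ω⟦-((e + 1 : ℕ) : ℤ) + 1⟧) ≃ₗ[A]
      (Dual.inD A (QuotSMulTop x (N ⧸ T)) ⟶ ω⟦-(e : ℤ)⟧) :=
    Linear.homCongr A (Iso.refl _) (eqToIso (by rw [show -((e + 1 : ℕ) : ℤ) + 1 = -(e : ℤ) by omega]))
  refine ⟨x, hx, regular_of_injective eM.symm.toLinearMap eM.symm.injective hrg,
    QuotSMulTop x (N ⧸ T), inferInstance, inferInstance, inferInstance,
    c.toLinearMap ∘ₗ δ ∘ₗ eM.symm.toLinearMap, hd', ?_⟩
  ext φ
  rw [LinearMap.mem_ker, LinearMap.comp_apply, LinearMap.comp_apply, LinearEquiv.coe_coe, LinearEquiv.map_eq_zero_iff,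
    ← LinearMap.mem_ker, hker, Submodule.mem_smul_pointwise_iff_exists, Submodule.mem_smul_pointwise_iff_exists]
  constructor
  · rintro ⟨ψ, -, hψ⟩
    exact ⟨eM ψ, trivial, by rw [← map_smul, hψ]; exact eM.apply_symm_apply φ⟩
  · rintro ⟨ψ, -, rfl⟩
    exact ⟨eM.symm ψ, trivial, (map_smul _ _ _).symm⟩

/-- Regular sequences of length `min 2 e` on the top Ext. -/
theorem exists_regularSeq_top_hom (hω : Dual.IsDualizing A ω) (hN : Dual.IsNormalized A ω)
    (N : Type u) [AddCommGroup N] [Module A N] [Module.Finite A N] (e : ℕ)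
    (hd : Module.supportDim A N ≤ (e : WithBot ℕ∞)) :
    ∃ rs : List A, rs.length = min 2 e ∧ IsWeaklyRegular (Dual.inD A N ⟶ ω⟦-(e : ℤ)⟧) rs ∧
      ∀ r ∈ rs, r ∈ maximalIdeal A := by
  rcases e with _ | e
  · exact ⟨[], rfl, .nil A _, by simp⟩
  obtain ⟨x, hx, hxreg, N', _, _, _, φ, hd', hker⟩ := exists_regular_top_hom hω hN N e hd
  rcases e with _ | e
  · exact ⟨[x], rfl, (isWeaklyRegular_cons_iff _ _ _).2 ⟨hxreg, .nil A _⟩, by simpa using hx⟩
  obtain ⟨y, hy, hyreg, -⟩ := exists_regular_top_hom hω hN N' e hd'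
  refine ⟨[x, y], by simp, (isWeaklyRegular_cons_iff _ _ _).2 ⟨hxreg,
    (isWeaklyRegular_cons_iff _ _ _).2 ⟨?_, .nil A _⟩⟩, fun r hr => by
      rcases List.mem_cons.1 hr with rfl | hr
      · exact hx
      · rcases List.mem_cons.1 hr with rfl | hr
        · exact hy
        · cases hr⟩
  exact regular_of_injective ((x • (⊤ : Submodule A _)).liftQ φ hker.ge)
    (LinearMap.ker_eq_bot.1 (Submodule.ker_liftQ_eq_bot _ _ _ hker.le)) hyreg

end Groth.Agent.DualityLC
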