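import Groth.Agent.DualityLC.LocalDuality

/-!
# Duality on finite length modules
-/

set_option autoImplicit false
set_option linter.style.haveILetI false
set_option backward.isDefEq.respectTransparency false

universe u

open CategoryTheory CategoryTheory.Limits Pretriangulated IsLocalRing

attribute [local instance] HasDerivedCategory.standard

namespace Groth.Agent.DualityLC

variable {A : Type u} [CommRing A] [IsNoetherianRing A] [IsLocalRing A] {ω : Dual.D A}
  {E : Type u} [AddCommGroup E] [Module A E] {f : ResidueField A →ₗ[A] E}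

omit [AddCommGroup E] [Module A E] in
theorem isPowerTorsion_of_isFiniteLength (N : Type u) [AddCommGroup N] [Module A N] (hN : IsFiniteLength A N) :
    LocCoh.IsPowerTorsion (maximalIdeal A) N := by
  obtain ⟨_, _⟩ := isFiniteLength_iff_isNoetherian_isArtinian.1 hN
  exact LC.isPowerTorsion_of_isArtinian N

/-- Maps from a finite length module into a normalized dualizing complex form its Matlis dual. -/
theorem exists_finLenEquiv (hω : Dual.IsDualizing A ω) (hN : Dual.IsNormalized A ω) (hf : InjHull.IsInjectiveHull f)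
    (N : Type u) [AddCommGroup N] [Module A N] (hfl : IsFiniteLength A N) :
    Nonempty ((Dual.inD A N ⟶ ω) ≃ₗ[A] (N →ₗ[A] E)) := by
  obtain ⟨_, _⟩ := isFiniteLength_iff_isNoetherian_isArtinian.1 hfl
  obtain ⟨e⟩ := exists_HEquiv hω hN hf N 0
  rw [Nat.cast_zero, neg_zero] at e
  let e₀ : LocCoh.H (maximalIdeal A) 0 N ≃ₗ[A] N :=
    (LC.H0Equiv (maximalIdeal A) (ModuleCat.of A N)).trans (LinearEquiv.ofTop _
      (LC.torsionSub_eq_top (maximalIdeal A) (isPowerTorsion_of_isFiniteLength N hfl)))
  let e₁ : N ≃ₗ[A] ((Dual.inD A N ⟶ ω) →ₗ[A] E) := e₀.symm.trans (e.trans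
    (LinearEquiv.arrowCongr (homShiftZero _ ω) (LinearEquiv.refl A E)))
  -- dualize once more
  haveI : Module.Finite A (Dual.inD A N ⟶ ω) := by
    haveI := finite_hom_shift hω (hN := hN) (Dual.inD A N) (finite_hd_inD N) 0
    exact Module.Finite.equiv (homShiftZero (Dual.inD A N) ω)
  obtain ⟨M, _, _, ⟨c⟩⟩ := exists_small_copy (A := A) (Dual.inD A N ⟶ ω)
  have hM : IsFiniteLength A M := by
    rw [← Module.length_ne_top_iff, ← c.length_eq, (finLen_hom hω hN N hfl).2]
    exact Module.length_ne_top_iff.2 hfl
  exact ⟨c.trans ((LinearEquiv.ofBijective _ (LC.applyₗ_bijective_of_isFiniteLength hf M hM)).trans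
    (LinearEquiv.arrowCongr (e₁.trans (LinearEquiv.arrowCongr c (LinearEquiv.refl A E))).symm
      (LinearEquiv.refl A E)))⟩

end Groth.Agent.DualityLC
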