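import Groth.Agent.DualityLC.FiniteDimDual
import Groth.Agent.DualityLC.FinLenDual
import Groth.Agent.DualityLC.GorLocus
import Groth.Agent.H9Misc.DRingCechCompl
import Groth.Agent.KFlatLib.Ring.FiniteShriek

/-!
# Dualizing complexes of quotient rings: the dual triangles
-/

set_option autoImplicit false
set_option linter.style.haveILetI false
set_option backward.isDefEq.respectTransparency false

universe u

open CategoryTheory CategoryTheory.Limits Pretriangulated IsLocalRing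
open CochainComplex.HomComplex
open Groth.Agent.H9Misc.DRingHomCx

attribute [local instance] HasDerivedCategory.standard

namespace Groth.Agent.DualityLC

variable {A : Type u} [CommRing A]

/-- Hom complexes into termwise injective complexes are exact. -/
theorem shortExact_homCxPre_of_injective (S : ShortComplex (DRing.Cx A)) (hS : S.ShortExact) (J : DRing.Cx A)
    [∀ n, Injective (J.X n)] :
    (ShortComplex.mk (homCxPre S.g J) (homCxPre S.f J) (H9Misc.DRingCechCompl.homCxPre_zero_comp S J)).ShortExact := by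
  have hSn : ∀ n, (S.map (HomologicalComplex.eval _ _ n)).ShortExact := fun n => hS.map_of_exact _
  refine HomologicalComplex.shortExact_of_degreewise_shortExact _ fun i => ?_
  refine { exact := ?_, mono_f := ?_, epi_g := ?_ }
  · refine (ShortComplex.moduleCat_exact_iff _).2 fun (z : Cochain S.X₂ J i) hz => ?_
    change (Cochain.ofHom S.f).comp z (zero_add i) = 0 at hz
    have hz' : ∀ p q (h : p + i = q), S.f.f p ≫ z.v p q h = 0 := fun p q h => by
      have := Cochain.congr_v hz p q h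
      rwa [Cochain.zero_cochain_comp_v, Cochain.ofHom_v, Cochain.zero_v] at this
    refine ⟨(Cochain.mk fun p q h =>
      haveI := (hSn p).epi_g
      (hSn p).exact.desc (z.v p q h) (hz' p q h) : Cochain S.X₃ J i), ?_⟩
    apply Cochain.ext
    intro p q h
    change ((Cochain.ofHom S.g).comp (Cochain.mk fun p q h => _ : Cochain S.X₃ J i) (zero_add i)).v p q h = z.v p q h
    rw [Cochain.zero_cochain_comp_v, Cochain.ofHom_v, Cochain.mk_v]
    haveI := (hSn p).epi_g
    exact (hSn p).exact.g_desc (z.v p q h) (hz' p q h)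
  · refine (ModuleCat.mono_iff_injective _).2 fun (z z' : Cochain S.X₃ J i) hz => ?_
    change (Cochain.ofHom S.g).comp z (zero_add i) = (Cochain.ofHom S.g).comp z' (zero_add i) at hz
    apply Cochain.ext
    intro p q h
    have := Cochain.congr_v hz p q h
    rw [Cochain.zero_cochain_comp_v, Cochain.ofHom_v, Cochain.zero_cochain_comp_v, Cochain.ofHom_v] at this
    exact (@cancel_epi _ _ _ _ _ (S.g.f p) (hSn p).epi_g _ _).1 this
  · refine (ModuleCat.epi_iff_surjective _).2 fun (z : Cochain S.X₁ J i) => ?_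
    refine ⟨(Cochain.mk fun p q h =>
      haveI : Mono (S.f.f p) := (hSn p).mono_f
      Injective.factorThru (z.v p q h) (S.f.f p) : Cochain S.X₂ J i), ?_⟩
    apply Cochain.ext
    intro p q h
    change ((Cochain.ofHom S.f).comp (Cochain.mk fun p q h => _ : Cochain S.X₂ J i) (zero_add i)).v p q h = z.v p q h
    rw [Cochain.zero_cochain_comp_v, Cochain.ofHom_v, Cochain.mk_v]
    haveI : Mono (S.f.f p) := (hSn p).mono_f
    exact Injective.comp_factorThru _ _

/-- The complex of a short exact sequence of modules, as single complexes. -/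
theorem exists_dualTriangle_data {ω : Dual.D A} (hω : Dual.IsDualizing A ω) (S : ShortComplex (ModuleCat.{u} A))
    (hS : S.ShortExact) :
    ∃ (J : DRing.Cx A) (_ : J.IsKInjective) (_ : DRing.toD J ≅ ω)
      (T : Triangle (Dual.D A)), T ∈ distinguishedTriangles ∧
        T.obj₁ = DRing.toD (DRing.homCx ((single₀ A).obj S.X₃) J) ∧
        T.obj₂ = DRing.toD (DRing.homCx ((single₀ A).obj S.X₂) J) ∧
        T.obj₃ = DRing.toD (DRing.homCx ((single₀ A).obj S.X₁) J) ∧
        HEq T.mor₂ (DerivedCategory.Q.map (homCxPre ((single₀ A).map S.f) J)) := by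
  obtain ⟨c, d, J, hJ, hJinj, ⟨eω⟩⟩ := KFlatLib.finiteInjDim_of_isDualizing hω
  haveI := isKInjective_of_bounded hJ hJinj
  haveI : ∀ n, Injective (J.X n) := fun n =>
    haveI := hJinj n
    (Module.injective_iff_injective_object A _).1 inferInstance
  have h1 := shortExact_homCxPre_of_injective (S.map (single₀ A)) (hS.map_of_exact _) J
  exact ⟨J, inferInstance, eω, DerivedCategory.triangleOfSES h1, DerivedCategory.triangleOfSES_distinguished h1,
    rfl, rfl, rfl, HEq.rfl⟩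

/-- Restricting the right adjoint of restriction is derived hom out of the quotient. -/
theorem exists_restrictIso {I : Ideal A} {ω : Dual.D A} (R : Dual.D A ⥤ Dual.D (A ⧸ I))
    (adj : DRing.restrictD (Ideal.Quotient.mk I) ⊣ R) (J : DRing.Cx A) [J.IsKInjective] (eω : DRing.toD J ≅ ω) :
    Nonempty ((DRing.restrictD (Ideal.Quotient.mk I)).obj (R.obj ω) ≅
      DRing.toD (DRing.homCx ((single₀ A).obj (ModuleCat.of A (A ⧸ I))) J)) := by
  haveI := KFlatLib.hasLTen A
  haveI := KFlatLib.hasRHom (A := A)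
  obtain ⟨γ⟩ := KFlatLib.nonempty_res_shriek_iso (A := A) (B := A ⧸ I) (algebraMap A (A ⧸ I)) R adj
  obtain ⟨eU⟩ := KFlatLib.nonempty_resUnit_iso A (A ⧸ I)
  obtain ⟨e⟩ := exists_rhomR_boundedIso ((single₀ A).obj (ModuleCat.of A (A ⧸ I))) J
    (X := DerivedCategory.Q.obj (KFlatLib.resUnitCx (algebraMap A (A ⧸ I))))
    (((DerivedCategory.singleFunctorIsoCompQ (ModuleCat.{u} A) 0).app (ModuleCat.of A (A ⧸ I))).symm ≪≫ eU.symm) eω
  exact ⟨γ.app ω ≪≫ e⟩

/-- The triangle of the quotient by a nonzerodivisor. -/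
theorem exists_triangle_nonZeroDivisor {ω : Dual.D A} (hω : Dual.IsDualizing A ω) (f : A) (hf' : f ∈ nonZeroDivisors A)
    (R : Dual.D A ⥤ Dual.D (A ⧸ Ideal.span {f})) (adj : DRing.restrictD (Ideal.Quotient.mk (Ideal.span {f})) ⊣ R) :
    ∃ (u : (DRing.restrictD (Ideal.Quotient.mk (Ideal.span {f}))).obj (R.obj ω) ⟶ ω)
      (w : ω ⟶ ((DRing.restrictD (Ideal.Quotient.mk (Ideal.span {f}))).obj (R.obj ω))⟦(1 : ℤ)⟧),
      Triangle.mk u (f • 𝟙 ω) w ∈ distinguishedTriangles := by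
  let m : A →ₗ[A] A := f • LinearMap.id
  let q : A →ₗ[A] A ⧸ Ideal.span {f} := Submodule.mkQ _
  have hex : Function.Exact m q := fun z => by
    rw [show q z = 0 ↔ z ∈ Ideal.span {f} from Submodule.Quotient.mk_eq_zero _, Ideal.mem_span_singleton']
    exact ⟨fun ⟨a, ha⟩ => ⟨a, by rw [← ha, mul_comm]; rfl⟩, fun ⟨a, ha⟩ => ⟨a, by rw [← ha, mul_comm]; rfl⟩⟩
  have hinj : Function.Injective m := fun a b h => by
    have h' : f * a = f * b := h
    rwa [mul_cancel_left_mem_nonZeroDivisors hf'] at h'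
  obtain ⟨w₀, hS⟩ := KFlatLib.exists_ses_of_exact hinj (Submodule.mkQ_surjective _) hex
  obtain ⟨J, hJ, eω, T, hT, h1, h2, h3, h4⟩ := exists_dualTriangle_data hω _ hS
  obtain ⟨T1, T2, T3, m1, m2, m3⟩ := T
  dsimp only [Triangle.mk] at h1 h2 h3 h4
  subst h1 h2 h3
  obtain rfl := eq_of_heq h4
  obtain ⟨e₁⟩ := exists_restrictIso R adj J eω
  haveI := H9Misc.DRingCechCompl.isIso_toHomSingle J
  let e₂ : DRing.toD (DRing.homCx ((single₀ A).obj (ModuleCat.of A A)) J) ≅ ω :=
    (DerivedCategory.Q.mapIso (asIso (H9Misc.DRingCechCompl.toHomSingle J))).symm ≪≫ eω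
  have hmul : DerivedCategory.Q.map (homCxPre ((single₀ A).map (ModuleCat.ofHom m)) J) = f • 𝟙 _ := by
    have hs : (single₀ A).map (ModuleCat.ofHom m) = f • 𝟙 ((single₀ A).obj (ModuleCat.of A A)) :=
      HomologicalComplex.from_single_hom_ext (by
        simp [HomologicalComplex.single_map_f_self, m,
          show ModuleCat.ofHom (f • LinearMap.id : A →ₗ[A] A) = f • 𝟙 (ModuleCat.of A A) from rfl])
    rw [hs, H9Misc.DRingCechCompl.homCxPre_smul_id, Functor.map_smul, CategoryTheory.Functor.map_id]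
  refine ⟨e₁.hom ≫ m1 ≫ e₂.hom, e₂.inv ≫ m3 ≫ e₁.inv⟦(1 : ℤ)⟧',
    isomorphic_distinguished _ hT _ (Triangle.isoMk _ _ e₁ e₂.symm e₂.symm ?_ ?_ ?_)⟩
  · simp
  · show (f • 𝟙 ω) ≫ e₂.inv = e₂.inv ≫ DerivedCategory.Q.map _
    rw [hmul, Linear.smul_comp, Linear.comp_smul, Category.id_comp]
    exact (congrArg (f • ·) (Category.comp_id _)).symm
  · show (e₂.inv ≫ m3 ≫ e₁.inv⟦(1 : ℤ)⟧') ≫ e₁.hom⟦(1 : ℤ)⟧' = e₂.inv ≫ m3
    simp only [Category.assoc, ← Functor.map_comp, Iso.inv_hom_id, CategoryTheory.Functor.map_id]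
    exact congrArg (e₂.inv ≫ ·) (Category.comp_id _)

/-- The triangle of the quotient by an ideal of finite length. -/
theorem exists_triangle_finiteLength [IsNoetherianRing A] [IsLocalRing A] {ω : Dual.D A} (hω : Dual.IsDualizing A ω)
    (hn : Dual.IsNormalized A ω) (I : Ideal A) (hIl : IsFiniteLength A I) {E : Type u} [AddCommGroup E] [Module A E]
    {e : ResidueField A →ₗ[A] E} (he : InjHull.IsInjectiveHull e) (R : Dual.D A ⥤ Dual.D (A ⧸ I))
    (adj : DRing.restrictD (Ideal.Quotient.mk I) ⊣ R) :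
    ∃ (u : (DRing.restrictD (Ideal.Quotient.mk I)).obj (R.obj ω) ⟶ ω) (v : ω ⟶ Dual.inD A (I →ₗ[A] E))
      (w : Dual.inD A (I →ₗ[A] E) ⟶ ((DRing.restrictD (Ideal.Quotient.mk I)).obj (R.obj ω))⟦(1 : ℤ)⟧),
      Triangle.mk u v w ∈ distinguishedTriangles := by
  haveI := KFlatLib.hasLTen A
  haveI := KFlatLib.hasRHom (A := A)
  obtain ⟨w₀, hS⟩ := KFlatLib.exists_ses_of_exact (f := I.subtype) (g := Submodule.mkQ I)
    (Submodule.injective_subtype _) (Submodule.mkQ_surjective _) (LinearMap.exact_subtype_mkQ _)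
  obtain ⟨J, hJ, eω, T, hT, h1, h2, h3, -⟩ := exists_dualTriangle_data hω _ hS
  obtain ⟨T1, T2, T3, m1, m2, m3⟩ := T
  dsimp only [Triangle.mk] at h1 h2 h3
  subst h1 h2 h3
  obtain ⟨e₁⟩ := exists_restrictIso R adj J eω
  haveI := H9Misc.DRingCechCompl.isIso_toHomSingle J
  let e₂ : DRing.toD (DRing.homCx ((single₀ A).obj (ModuleCat.of A A)) J) ≅ ω :=
    (DerivedCategory.Q.mapIso (asIso (H9Misc.DRingCechCompl.toHomSingle J))).symm ≪≫ eω
  obtain ⟨eI⟩ := exists_rhomR_boundedIso ((single₀ A).obj (ModuleCat.of A I)) J (X := Dual.inD A I)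
    (Iso.refl _) eω
  have hiso : ∀ i : ℤ, Nonempty (Dual.HD A (DRing.toD (DRing.homCx ((single₀ A).obj (ModuleCat.of A I)) J)) i
      ≃ₗ[A] (Dual.inD A I ⟶ ω⟦i⟧)) := fun i => by
    obtain ⟨c⟩ := KFlatLib.exists_hdRHomShiftLEquiv (Dual.inD A I) ω i
    exact ⟨((DerivedCategory.homologyFunctor (ModuleCat.{u} A) i).mapIso eI).symm.toLinearEquiv.trans c⟩
  obtain ⟨c₀⟩ := hiso 0
  obtain ⟨g⟩ := exists_finLenEquiv hω hn he I hIl
  obtain ⟨e₃⟩ := exists_iso_inD_of_concentrated _ 0 (I →ₗ[A] E) (fun j hj => by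
    obtain ⟨c⟩ := hiso j
    haveI := (finLen_hom hω hn I hIl).1 j hj
    exact c.toEquiv.subsingleton) (c₀.trans ((homShiftZero _ _).trans g))
  let e₃' := e₃.symm ≪≫ (shiftFunctorZero (Dual.D A) ℤ).app _
  refine ⟨e₁.hom ≫ m1 ≫ e₂.hom, e₂.inv ≫ m2 ≫ e₃'.inv, e₃'.hom ≫ m3 ≫ e₁.inv⟦(1 : ℤ)⟧',
    isomorphic_distinguished _ hT _ (Triangle.isoMk _ _ e₁ e₂.symm e₃' ?_ ?_ ?_)⟩
  · simp
  · show (e₂.inv ≫ m2 ≫ e₃'.inv) ≫ e₃'.hom = e₂.inv ≫ m2
    simp only [Category.assoc, Iso.inv_hom_id]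
    exact congrArg (e₂.inv ≫ ·) (Category.comp_id _)
  · show (e₃'.hom ≫ m3 ≫ e₁.inv⟦(1 : ℤ)⟧') ≫ e₁.hom⟦(1 : ℤ)⟧' = e₃'.hom ≫ m3
    simp only [Category.assoc, ← Functor.map_comp, Iso.inv_hom_id, CategoryTheory.Functor.map_id]
    exact congrArg (e₃'.hom ≫ ·) (Category.comp_id _)

end Groth.Agent.DualityLC
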