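import Groth.Agent.DualityLC.TwistDual
import Groth.Agent.DualityLC.GorLocus
import Mathlib.RingTheory.PicardGroup

/-!
# Uniqueness of dualizing complexes on a connected spectrum
-/

set_option autoImplicit false
set_option linter.style.haveILetI false
set_option backward.isDefEq.respectTransparency false

universe u

open CategoryTheory CategoryTheory.Limits MonoidalCategory TensorProduct

attribute [local instance] HasDerivedCategory.standard

namespace Groth.Agent.DualityLC

variable {A : Type u} [CommRing A]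

/-- Shifting maps, linearly. -/
noncomputable def shiftMapEquiv (X Y : Dual.D A) (m : ℤ) : (X ⟶ Y) ≃ₗ[A] (X⟦m⟧ ⟶ Y⟦m⟧) :=
  LinearEquiv.ofBijective ((shiftFunctor (Dual.D A) m).mapLinearMap A)
    (Functor.FullyFaithful.ofFullyFaithful (shiftFunctor (Dual.D A) m)).homEquiv.bijective

/-- Maps between shifts. -/
noncomputable def shiftHomSubEquiv (X Y : Dual.D A) (m i : ℤ) :
    (X⟦m⟧ ⟶ Y⟦i⟧) ≃ₗ[A] (X ⟶ Y⟦i - m⟧) :=
  (Linear.homCongr A (Iso.refl _) ((shiftFunctorAdd' (Dual.D A) (i - m) m i (by omega)).app Y)).trans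
    (shiftMapEquiv X (Y⟦i - m⟧) m).symm

variable [IsNoetherianRing A] {ω ω' : Dual.D A}

/-- Maps between dualizing complexes of a local ring. -/
theorem exists_localHom_iff [IsLocalRing A] (hω : Dual.IsDualizing A ω) (hω' : Dual.IsDualizing A ω') :
    ∃ m : ℤ, (∀ i, i ≠ m → Subsingleton (ω' ⟶ ω⟦i⟧)) ∧ Nonempty ((ω' ⟶ ω⟦m⟧) ≃ₗ[A] A) := by
  haveI := KFlatLib.hasLTen A
  haveI := KFlatLib.hasRHom (A := A)
  obtain ⟨m, ⟨e⟩⟩ := KFlatLib.exists_iso_shift_of_isDualizing hω hω'
  refine ⟨m, fun i hi => ?_, ⟨?_⟩⟩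
  · haveI := hω.ext_self_subsingleton (i - m) (by omega)
    exact ((Linear.homCongr A e (Iso.refl (ω⟦i⟧))).trans (shiftHomSubEquiv ω ω m i)).toEquiv.subsingleton
  · let c : A →ₗ[A] (ω ⟶ ω) :=
      { toFun := fun a => a • 𝟙 ω
        map_add' := fun a b => add_smul a b _
        map_smul' := fun a b => mul_smul a b _ }
    exact (Linear.homCongr A e (Iso.refl (ω⟦m⟧))).trans
      ((shiftMapEquiv ω ω m).symm.trans (LinearEquiv.ofBijective c hω.toEnd_bijective).symm)

variable [DTen.HasLTen A] [DTen.HasRHom A]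

/-- At each prime exactly one cohomology of the comparison complex survives, free of rank one. -/
theorem exists_point_degree (hω : Dual.IsDualizing A ω) (hω' : Dual.IsDualizing A ω') (p : PrimeSpectrum A) :
    ∃ m : ℤ, (∀ i, i ≠ m → p ∉ Module.support A (Dual.HD A ((DTen.RHomR A ω').obj ω) i)) ∧
      p ∈ Module.freeLocus A (Dual.HD A ((DTen.RHomR A ω').obj ω) m) ∧
      Module.rankAtStalk (Dual.HD A ((DTen.RHomR A ω').obj ω) m) p = 1 := by
  haveI : Module.Flat A (Localization.AtPrime p.asIdeal) := IsLocalization.flat _ p.asIdeal.primeCompl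
  haveI := KFlatLib.hasLBase (algebraMap A (Localization.AtPrime p.asIdeal))
  obtain ⟨a, b, -, _, _⟩ := KFlatLib.exists_bounds_of_isDualizing hω
  obtain ⟨a', b', -, _, _⟩ := KFlatLib.exists_bounds_of_isDualizing hω'
  have hpc := KFlatLib.pc'_of_finite_hd ω' b' hω'.finite_cohomology
  have e : ∀ i : ℤ, Nonempty (LocalizedModule p.asIdeal.primeCompl (Dual.HD A ((DTen.RHomR A ω').obj ω) i)
      ≃ₗ[Localization.AtPrime p.asIdeal] (locD p.asIdeal ω' ⟶ (locD p.asIdeal ω)⟦i⟧)) := fun i => by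
    obtain ⟨e₁⟩ := KFlatLib.exists_homBaseChangeLEquiv (B := Localization.AtPrime p.asIdeal) (X := ω') (Y := ω) hpc a i
    obtain ⟨e₂⟩ := KFlatLib.exists_hdRHomShiftLEquiv ω' ω i
    exact ⟨(LocalizedModule.equivTensorProduct p.asIdeal.primeCompl _).trans
      ((TensorProduct.AlgebraTensorModule.congr (LinearEquiv.refl (Localization.AtPrime p.asIdeal)
        (Localization.AtPrime p.asIdeal)) e₂).trans e₁.symm)⟩
  obtain ⟨m, hvan, ⟨em⟩⟩ := exists_localHom_iff (isDualizing_locD p.asIdeal hω) (isDualizing_locD p.asIdeal hω')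
  obtain ⟨eL⟩ := e m
  refine ⟨m, fun i hi => ?_, Module.Free.of_equiv (eL.trans em).symm,
    (eL.trans em).finrank_eq.trans (Module.finrank_self _)⟩
  obtain ⟨ei⟩ := e i
  haveI := hvan i hi
  exact Module.notMem_support_iff.2 ei.toEquiv.subsingleton

/-- On a connected spectrum the comparison complex is concentrated in one degree and invertible. -/
theorem exists_global_degree [ConnectedSpace (PrimeSpectrum A)] (hω : Dual.IsDualizing A ω)
    (hω' : Dual.IsDualizing A ω') :
    ∃ m : ℤ, Module.Invertible A (Dual.HD A ((DTen.RHomR A ω').obj ω) m) ∧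
      ∀ i, i ≠ m → Subsingleton (Dual.HD A ((DTen.RHomR A ω').obj ω) i) := by
  let H : ℤ → Type u := fun i => Dual.HD A ((DTen.RHomR A ω').obj ω) i
  have hfin : ∀ i, Module.Finite A (Dual.HD A ((DTen.RHomR A ω').obj ω) i) := fun i =>
    KFlatLib.finite_hd_RHom_of_finite_hd hω'.finite_cohomology hω.finite_cohomology
      (KFlatLib.finiteInjDim_of_isDualizing hω) i
  obtain ⟨P₀⟩ : Nonempty (PrimeSpectrum A) := inferInstance
  obtain ⟨m, hne, hfree, hrk⟩ := exists_point_degree hω hω' P₀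
  haveI := hfin m
  haveI : Module.FinitePresentation A (Dual.HD A ((DTen.RHomR A ω').obj ω) m) :=
    Module.finitePresentation_of_finite A _
  let V : Set (PrimeSpectrum A) := Subtype.val '' ((fun x : Module.freeLocus A (Dual.HD A ((DTen.RHomR A ω').obj ω) m) =>
      Module.rankAtStalk (Dual.HD A ((DTen.RHomR A ω').obj ω) m) x.1) ⁻¹' {1})
  have hV : IsOpen V :=
    Module.isOpen_freeLocus.isOpenMap_subtype_val _ (Module.isLocallyConstant_rankAtStalk_freeLocus {1})
  have hVeq : V = Module.support A (Dual.HD A ((DTen.RHomR A ω').obj ω) m) := by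
    ext q
    obtain ⟨n, hn, hnf, hnr⟩ := exists_point_degree hω hω' q
    constructor
    · rintro ⟨x, hx, rfl⟩
      haveI : Module.Free (Localization.AtPrime x.1.asIdeal)
          (LocalizedModule x.1.asIdeal.primeCompl (Dual.HD A ((DTen.RHomR A ω').obj ω) m)) := x.2
      refine Module.mem_support_iff.2 (Module.nontrivial_of_finrank_pos (R := Localization.AtPrime x.1.asIdeal) ?_)
      rw [show Module.finrank (Localization.AtPrime x.1.asIdeal)
        (LocalizedModule x.1.asIdeal.primeCompl (Dual.HD A ((DTen.RHomR A ω').obj ω) m)) = 1 from hx]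
      exact one_pos
    · intro hq
      have hnm : m = n := by
        by_contra h
        exact hn m h hq
      subst hnm
      exact ⟨⟨q, hnf⟩, hnr, rfl⟩
  have huniv : V = Set.univ :=
    IsClopen.eq_univ ⟨hVeq ▸ isClosed_support_finite (hfin m), hV⟩ ⟨P₀, ⟨P₀, hfree⟩, hrk, rfl⟩
  have hall : ∀ q : PrimeSpectrum A, q ∈ V := fun q => huniv ▸ Set.mem_univ q
  refine ⟨m, invertible_of_rankAtStalk_one fun q => ?_, fun i hi => ?_⟩
  · obtain ⟨x, hx, rfl⟩ := hall q
    exact ⟨x.2, hx⟩
  · rw [← Module.support_eq_empty_iff (R := A), Set.eq_empty_iff_forall_notMem]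
    intro q hq
    obtain ⟨n, hn, -, -⟩ := exists_point_degree hω hω' q
    have h1 : i = n := by
      by_contra h
      exact hn i h hq
    have h2 : m = n := by
      by_contra h
      exact hn m h (hVeq ▸ hall q)
    exact hi (h1.trans h2.symm)

/-- Dualizing complexes on a connected spectrum differ by a twist and a shift. -/
theorem exists_twist_shift_iso [ConnectedSpace (PrimeSpectrum A)] (hω : Dual.IsDualizing A ω)
    (hω' : Dual.IsDualizing A ω') :
    ∃ (P : ModuleCat.{u} A) (_ : Module.Invertible A P) (n : ℤ),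
      ∀ [DRing.HasLTensor A P], Nonempty (ω' ≅ ((DRing.LTensor A P).obj ω)⟦n⟧) := by
  haveI := KFlatLib.hasLTen₃ A
  haveI := KFlatLib.isSymMonoidal A
  obtain ⟨m, hinv, hvan⟩ := exists_global_degree hω hω'
  let M : ModuleCat.{u} A := ModuleCat.of A (Dual.HD A ((DTen.RHomR A ω').obj ω) m)
  haveI : Module.Invertible A M := hinv
  haveI : PreservesFiniteLimits (tensorRight (dualMod M)) :=
    haveI : Module.Invertible A (dualMod M) := inferInstanceAs (Module.Invertible A (Module.Dual A M))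
    KFlatLib.preservesFiniteLimits_tensorRight _
  have hω'' := KFlatLib.isDualizing_shift hω' (-m)
  have eH : ∀ i : ℤ, Nonempty (Dual.HD A ((DTen.RHomR A (ω'⟦-m⟧)).obj ω) i ≃ₗ[A]
      Dual.HD A ((DTen.RHomR A ω').obj ω) (i + m)) := fun i => by
    obtain ⟨e₁⟩ := KFlatLib.exists_hdRHomShiftLEquiv (ω'⟦-m⟧) ω i
    obtain ⟨e₂⟩ := KFlatLib.exists_hdRHomShiftLEquiv ω' ω (i + m)
    exact ⟨e₁.trans ((shiftHomSubEquiv ω' ω (-m) i).trans
      ((Linear.homCongr A (Iso.refl ω') (eqToIso (by rw [sub_neg_eq_add]))).trans e₂.symm))⟩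
  obtain ⟨e₀⟩ := eH 0
  obtain ⟨c⟩ := exists_iso_inD_of_concentrated ((DTen.RHomR A (ω'⟦-m⟧)).obj ω) 0 M (fun j hj => by
    obtain ⟨e⟩ := eH j
    haveI := hvan (j + m) (by omega)
    exact e.toEquiv.subsingleton)
    (e₀.trans (LinearEquiv.cast (R := A) (M := fun k : ℤ => (Dual.HD A ((DTen.RHomR A ω').obj ω) k : Type u))
      (zero_add m)))
  obtain ⟨bd⟩ := KFlatLib.nonempty_biduality hω (K := ω'⟦-m⟧) hω''.finite_cohomology
  obtain ⟨t⟩ := exists_rhomR_twistIso M hω
  let c' : (DTen.RHomR A (ω'⟦-m⟧)).obj ω ≅ Dual.inD A M := ((shiftFunctorZero (Dual.D A) ℤ).app _).symm ≪≫ c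
  refine ⟨dualMod M, inferInstanceAs (Module.Invertible A (Module.Dual A M)), m, ?_⟩
  intro _
  obtain ⟨l⟩ := KFlatLib.nonempty_LTensor_twist (dualMod M) ω
  exact ⟨((shiftEquiv' (Dual.D A) (-m) m (by omega)).unitIso.app ω') ≪≫
    (shiftFunctor (Dual.D A) m).mapIso (bd.symm ≪≫ ((DTen.RHom A).mapIso c'.op).symm.app ω ≪≫ t ≪≫ l.symm)⟩

end Groth.Agent.DualityLC
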