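import Groth.Agent.DualityLC.ExtRegSeq

/-!
# All Ext groups out of the quotient by a weakly regular sequence into a killed module
-/

set_option autoImplicit false
set_option linter.style.haveILetI false
set_option backward.isDefEq.respectTransparency false

universe u

open CategoryTheory CategoryTheory.Limits Abelian
open scoped Pointwise

namespace Groth.Agent.DualityLC

variable {A : Type u} [CommRing A]

/-- The element `m` as a map out of `A/J`, for `m` killed by `J`. -/
noncomputable def spanKilled (J : Ideal A) {M : Type u} [AddCommGroup M] [Module A M]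
    (hM : ∀ a ∈ J, ∀ m : M, a • m = 0) : M →ₗ[A] ((A ⧸ J) →ₗ[A] M) where
  toFun m := Submodule.liftQ J (LinearMap.toSpanSingleton A M m) fun a ha => hM a ha m
  map_add' m m' := LinearMap.ext fun z => by
    obtain ⟨a, rfl⟩ := Submodule.Quotient.mk_surjective _ z
    exact smul_add a m m'
  map_smul' r m := LinearMap.ext fun z => by
    obtain ⟨a, rfl⟩ := Submodule.Quotient.mk_surjective _ z
    exact smul_comm a r m

/-- Push classes forward along the maps attached to elements. -/
noncomputable def extCoord {J : Ideal A} {X : ModuleCat.{u} A} {i : ℕ} {ι : Type*} [Fintype ι]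
    (ξ : ι → Ext X (ModuleCat.of A (A ⧸ J)) i) {M : Type u} [AddCommGroup M] [Module A M]
    (hM : ∀ a ∈ J, ∀ m : M, a • m = 0) : (ι → M) →ₗ[A] Ext X (ModuleCat.of A M) i where
  toFun f := ∑ k, (ξ k).comp (Ext.mk₀ (ModuleCat.ofHom (spanKilled J hM (f k)))) (add_zero i)
  map_add' f g := by
    rw [← Finset.sum_add_distrib]
    refine Finset.sum_congr rfl fun k _ => ?_
    rw [Pi.add_apply, map_add, show ModuleCat.ofHom (spanKilled J hM (f k) + spanKilled J hM (g k)) =
      ModuleCat.ofHom (spanKilled J hM (f k)) + ModuleCat.ofHom (spanKilled J hM (g k)) from rfl, Ext.mk₀_add, Ext.comp_add]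
  map_smul' r f := by
    rw [RingHom.id_apply, Finset.smul_sum]
    refine Finset.sum_congr rfl fun k _ => ?_
    rw [Pi.smul_apply, map_smul, show ModuleCat.ofHom (r • spanKilled J hM (f k)) =
      r • ModuleCat.ofHom (spanKilled J hM (f k)) from rfl, Ext.mk₀_smul, Ext.comp_smul]

theorem extCoord_apply {J : Ideal A} {X : ModuleCat.{u} A} {i : ℕ} {ι : Type*} [Fintype ι]
    (ξ : ι → Ext X (ModuleCat.of A (A ⧸ J)) i) {M : Type u} [AddCommGroup M] [Module A M]
    (hM : ∀ a ∈ J, ∀ m : M, a • m = 0) (f : ι → M) :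
    extCoord ξ hM f = ∑ k, (ξ k).comp (Ext.mk₀ (ModuleCat.ofHom (spanKilled J hM (f k)))) (add_zero i) :=
  rfl

theorem comp_extCoord {J : Ideal A} {X X' : ModuleCat.{u} A} {i j a : ℕ} {ι : Type*} [Fintype ι]
    (α : Ext X' X a) (h : a + i = j) (ξ : ι → Ext X (ModuleCat.of A (A ⧸ J)) i) {M : Type u} [AddCommGroup M]
    [Module A M] (hM : ∀ a ∈ J, ∀ m : M, a • m = 0) (f : ι → M) :
    α.comp (extCoord ξ hM f) h = extCoord (fun k => α.comp (ξ k) h) hM f := by
  rw [extCoord_apply, extCoord_apply]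
  show (Ext.bilinearCompOfLinear A X' X (ModuleCat.of A M) a i j h α) _ = _
  rw [map_sum]
  exact Finset.sum_congr rfl fun k _ => (Ext.comp_assoc_of_third_deg_zero _ _ _ h).symm

theorem extCoord_append {J : Ideal A} {X : ModuleCat.{u} A} {i n m : ℕ}
    (ξ : Fin n → Ext X (ModuleCat.of A (A ⧸ J)) i) (η : Fin m → Ext X (ModuleCat.of A (A ⧸ J)) i) {M : Type u}
    [AddCommGroup M] [Module A M] (hM : ∀ a ∈ J, ∀ m : M, a • m = 0) (f : Fin (n + m) → M) :
    extCoord (Fin.append ξ η) hM f =
      extCoord ξ hM (fun k => f (Fin.castAdd m k)) + extCoord η hM (fun k => f (Fin.natAdd n k)) := by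
  rw [extCoord_apply, extCoord_apply, extCoord_apply, Fin.sum_univ_add]
  simp [Fin.append_left, Fin.append_right]

/-- All `Ext` out of `A/(xs)` into modules killed by an ideal containing `xs`. -/
theorem exists_extCoord_bijective : ∀ (xs : List A), RingTheory.Sequence.IsWeaklyRegular A xs →
    ∀ (J : Ideal A), Ideal.ofList xs ≤ J → ∀ i : ℕ,
      ∃ ξ : Fin (xs.length.choose i) → Ext (ModuleCat.of A (A ⧸ Ideal.ofList xs)) (ModuleCat.of A (A ⧸ J)) i,
        ∀ (M : Type u) [AddCommGroup M] [Module A M] (hM : ∀ a ∈ J, ∀ m : M, a • m = 0),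
          Function.Bijective (extCoord ξ hM) := by
  intro xs
  induction xs using List.reverseRecOn with
  | nil =>
    intro _ J hJ i
    let e : (A ⧸ Ideal.ofList ([] : List A)) ≃ₗ[A] A := Submodule.quotEquivOfEqBot _ Ideal.ofList_nil
    haveI : Projective (ModuleCat.of A (A ⧸ Ideal.ofList ([] : List A))) := by
      haveI : Module.Projective A (A ⧸ Ideal.ofList ([] : List A)) := Module.Projective.of_equiv e.symm
      exact ModuleCat.projective_of_categoryTheory_projective _
    rcases i with _ | j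
    · let π : (A ⧸ Ideal.ofList ([] : List A)) →ₗ[A] A ⧸ J := Submodule.factor hJ
      refine ⟨fun _ => Ext.mk₀ (ModuleCat.ofHom π), fun M _ _ hM => ?_⟩
      have h1 : ∀ f : Fin ((([] : List A).length).choose 0) → M,
          extCoord (fun _ => Ext.mk₀ (ModuleCat.ofHom π)) hM f =
            Ext.mk₀ (ModuleCat.ofHom ((spanKilled J hM (f ⟨0, Nat.one_pos⟩)) ∘ₗ π)) := fun f => by
        rw [extCoord_apply, Finset.sum_eq_single (⟨0, Nat.one_pos⟩ : Fin ((([] : List A).length).choose 0))
          (fun b _ hb => absurd (Fin.ext (Nat.lt_one_iff.1 b.2)) hb) (fun h => absurd (Finset.mem_univ _) h),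
          Ext.mk₀_comp_mk₀]
        rfl
      have h2 : ∀ m : M, (spanKilled J hM m ∘ₗ π) (Submodule.Quotient.mk 1) = m := fun m => one_smul A m
      refine ⟨fun f g hfg => ?_, fun z => ?_⟩
      · rw [h1, h1] at hfg
        have := congrArg (fun φ : _ →ₗ[A] M => φ (Submodule.Quotient.mk 1))
          (congrArg ModuleCat.Hom.hom ((Ext.mk₀_bijective _ _).1 hfg))
        simp only [ModuleCat.hom_ofHom, h2] at this
        funext k
        rw [show k = ⟨0, Nat.one_pos⟩ from Fin.ext (Nat.lt_one_iff.1 k.2), this]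
      · obtain ⟨φ, rfl⟩ := (Ext.mk₀_bijective _ _).2 z
        refine ⟨fun _ => φ.hom (Submodule.Quotient.mk 1), ?_⟩
        rw [h1]
        refine congrArg Ext.mk₀ (ModuleCat.hom_ext (LinearMap.ext fun z => ?_))
        obtain ⟨a, rfl⟩ := Submodule.Quotient.mk_surjective _ z
        show a • φ.hom (Submodule.Quotient.mk 1) = φ.hom (Submodule.Quotient.mk a)
        rw [← map_smul, ← Submodule.Quotient.mk_smul, smul_eq_mul, mul_one]
    · refine ⟨fun k => absurd k.2 (by simp), fun M _ _ hM => ?_⟩
      haveI := Ext.subsingleton_of_projective (ModuleCat.of A (A ⧸ Ideal.ofList ([] : List A))) (ModuleCat.of A M) j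
      haveI : IsEmpty (Fin ((([] : List A).length).choose (j + 1))) := ⟨fun k => absurd k.2 (by simp)⟩
      exact ⟨Function.injective_of_subsingleton _, fun z => ⟨fun k => isEmptyElim k, Subsingleton.elim _ _⟩⟩
  | append_singleton ys x ih =>
    intro h J hJ i
    have hys := ((RingTheory.Sequence.isWeaklyRegular_append_iff A ys [x]).1 h).1
    have hysJ : Ideal.ofList ys ≤ J := le_trans (by rw [Ideal.ofList_append]; exact le_sup_left) hJ
    have hxJ : x ∈ J := hJ (Ideal.subset_span (List.mem_append_right ys List.mem_cons_self))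
    obtain ⟨w, hS⟩ := exists_regStep ys x h
    have hkill : ∀ {M : Type u} [AddCommGroup M] [Module A M] (_ : ∀ a ∈ J, ∀ m : M, a • m = 0) {n : ℕ}
        (θ : Ext (ModuleCat.of A (A ⧸ Ideal.ofList ys)) (ModuleCat.of A M) n), x • θ = 0 := by
      intro M _ _ hM n θ
      rw [Ext.smul_eq_comp_mk₀, show x • 𝟙 (ModuleCat.of A M) = 0 from
        ModuleCat.hom_ext (LinearMap.ext fun m => hM x hxJ m), Ext.mk₀_zero, Ext.comp_zero]
    have hkillJ : ∀ a ∈ J, ∀ z : A ⧸ J, a • z = 0 := fun a ha z => by
      obtain ⟨b, rfl⟩ := Submodule.Quotient.mk_surjective _ z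
      rw [← Submodule.Quotient.mk_smul, Submodule.Quotient.mk_eq_zero, smul_eq_mul]
      exact Ideal.mul_mem_right b _ ha
    have hf0 : ∀ {M : Type u} [AddCommGroup M] [Module A M] (_ : ∀ a ∈ J, ∀ m : M, a • m = 0) {n : ℕ}
        (θ : Ext (ModuleCat.of A (A ⧸ Ideal.ofList ys)) (ModuleCat.of A M) n),
        (Ext.mk₀ (ModuleCat.ofHom (x • LinearMap.id : (A ⧸ Ideal.ofList ys) →ₗ[A] A ⧸ Ideal.ofList ys))).comp θ
          (zero_add n) = 0 := fun hM n θ => (mk₀_smul_id_comp x θ).trans (hkill hM θ)
    rcases i with _ | j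
    · -- degree zero
      obtain ⟨ξ₀, h₀⟩ := ih hys J hysJ 0
      choose ξ hξ using fun k => Ext.contravariant_sequence_exact₂ hS _ (ξ₀ k) (hf0 hkillJ (ξ₀ k))
      rw [show (ys ++ [x]).length.choose 0 = ys.length.choose 0 by simp]
      refine ⟨ξ, fun M _ _ hM => ?_⟩
      have hg : ∀ f, (Ext.mk₀ (ShortComplex.mk _ _ w).g).comp (extCoord ξ hM f) (zero_add 0) = extCoord ξ₀ hM f :=
        fun f => by rw [comp_extCoord _ (zero_add 0)]; simp only [hξ]
      haveI : Epi (ShortComplex.mk _ _ w).g := hS.epi_g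
      have hinj := Ext.precomp_mk₀_injective_of_epi (ModuleCat.of A M) (ShortComplex.mk _ _ w).g
      refine ⟨fun f g hfg => (h₀ M hM).1 ?_, fun z => ?_⟩
      · rw [← hg, ← hg, hfg]
      · obtain ⟨f, hf⟩ := (h₀ M hM).2 ((Ext.mk₀ (ShortComplex.mk _ _ w).g).comp z (zero_add 0))
        exact ⟨f, hinj ((hg f).trans hf)⟩
    · obtain ⟨η, hη⟩ := ih hys J hysJ j
      obtain ⟨ξ₀, h₀⟩ := ih hys J hysJ (j + 1)
      choose ξ hξ using fun k => Ext.contravariant_sequence_exact₂ hS _ (ξ₀ k) (hf0 hkillJ (ξ₀ k))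
      rw [show (ys ++ [x]).length.choose (j + 1) = ys.length.choose j + ys.length.choose (j + 1) by
        rw [List.length_append, List.length_singleton, Nat.choose_succ_succ]]
      refine ⟨Fin.append (fun k => hS.extClass.comp (η k) (by omega : 1 + j = j + 1)) ξ, fun M _ _ hM => ?_⟩
      let g' := fun z : Ext (ModuleCat.of A (A ⧸ Ideal.ofList (ys ++ [x]))) (ModuleCat.of A M) (j + 1) =>
        (Ext.mk₀ (ShortComplex.mk _ _ w).g).comp z (zero_add (j + 1))
      have hgadd : ∀ z z', g' (z + z') = g' z + g' z' := fun z z' => Ext.comp_add _ _ _ _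
      have hcomp : ∀ f, g' (extCoord (Fin.append (fun k => hS.extClass.comp (η k) (by omega : 1 + j = j + 1)) ξ) hM f) =
          extCoord ξ₀ hM (fun k => f (Fin.natAdd _ k)) := fun f => by
        rw [extCoord_append, hgadd, ← comp_extCoord hS.extClass (by omega : 1 + j = j + 1)]
        show (Ext.mk₀ (ShortComplex.mk _ _ w).g).comp (hS.extClass.comp _ _) _ + _ = _
        rw [hS.comp_extClass_assoc, zero_add]
        show (Ext.mk₀ (ShortComplex.mk _ _ w).g).comp (extCoord ξ hM _) _ = _
        rw [comp_extCoord _ (zero_add (j + 1))]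
        simp only [hξ]
      have hsplit : ∀ f, extCoord (Fin.append (fun k => hS.extClass.comp (η k) (by omega : 1 + j = j + 1)) ξ) hM f =
          hS.extClass.comp (extCoord η hM fun k => f (Fin.castAdd _ k)) (by omega : 1 + j = j + 1) +
            extCoord ξ hM (fun k => f (Fin.natAdd _ k)) := fun f => by
        rw [extCoord_append, comp_extCoord hS.extClass (by omega : 1 + j = j + 1)]
      refine ⟨(injective_iff_map_eq_zero _).2 fun f hf => ?_, fun z => ?_⟩
      · have h2 : (fun k => f (Fin.natAdd _ k)) = (0 : Fin (ys.length.choose (j + 1)) → M) := by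
          refine (h₀ M hM).1 ?_
          rw [map_zero, ← hcomp, hf]
          show (Ext.mk₀ (ShortComplex.mk _ _ w).g).comp 0 (zero_add (j + 1)) = 0
          rw [Ext.comp_zero]
        rw [hsplit, h2, map_zero, add_zero] at hf
        obtain ⟨θ, hθ⟩ := Ext.contravariant_sequence_exact₁ hS _ _ (by omega) hf
        have h1 : (fun k => f (Fin.castAdd _ k)) = (0 : Fin (ys.length.choose j) → M) := by
          refine (hη M hM).1 ?_
          rw [map_zero, ← hθ]
          exact hf0 hM θ
        funext k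
        refine Fin.addCases (fun k => ?_) (fun k => ?_) k
        · exact congrFun h1 k
        · exact congrFun h2 k
      · obtain ⟨f₂, hf₂⟩ := (h₀ M hM).2 (g' z)
        have hd : (Ext.mk₀ (ShortComplex.mk _ _ w).g).comp (z - extCoord ξ hM f₂) (zero_add (j + 1)) = 0 := by
          rw [sub_eq_add_neg, Ext.comp_add, Ext.comp_neg, ← sub_eq_add_neg, comp_extCoord _ (zero_add (j + 1))]
          simp only [hξ]
          exact sub_eq_zero.2 hf₂.symm
        obtain ⟨θ, hθ⟩ := Ext.contravariant_sequence_exact₃ hS _ _ hd (by omega : 1 + j = j + 1)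
        obtain ⟨f₁, hf₁⟩ := (hη M hM).2 θ
        refine ⟨Fin.append f₁ f₂, ?_⟩
        rw [hsplit]
        simp only [Fin.append_left, Fin.append_right]
        rw [hf₁, hθ]
        exact sub_add_cancel _ _

/-- All `Ext` out of `A/J` into a module killed by `J`, for `J` generated by a weakly regular sequence. -/
theorem exists_ext_regSeq_killed (xs : List A) (hreg : RingTheory.Sequence.IsWeaklyRegular A xs) (M : Type u)
    [AddCommGroup M] [Module A M] (hJM : Ideal.ofList xs • (⊤ : Submodule A M) = ⊥) (i : ℕ) :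
    Nonempty (Ext (ModuleCat.of A (A ⧸ Ideal.ofList xs)) (ModuleCat.of A M) i ≃ₗ[A]
      (Fin (xs.length.choose i) → M)) := by
  obtain ⟨ξ, hξ⟩ := exists_extCoord_bijective xs hreg _ le_rfl i
  exact ⟨(LinearEquiv.ofBijective (extCoord ξ fun a ha m =>
    (Submodule.eq_bot_iff _).1 hJM _ (Submodule.smul_mem_smul ha trivial)) (hξ M _)).symm⟩

end Groth.Agent.DualityLC
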