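import Groth.Agent.KFlatLib.Ring.DualizingExt
import Mathlib.RingTheory.Regular.RegularSequence
import Mathlib.CategoryTheory.Abelian.Projective.Ext
import Mathlib.Algebra.Category.ModuleCat.Projective
import Mathlib.Algebra.Homology.DerivedCategory.Ext.Linear

/-!
# Ext out of the quotient by a weakly regular sequence
-/

set_option autoImplicit false
set_option linter.style.haveILetI false
set_option backward.isDefEq.respectTransparency false

universe u

open CategoryTheory CategoryTheory.Limits Abelian
open scoped Pointwise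

namespace Groth.Agent.DualityLC

variable {A : Type u} [CommRing A]

/-- Multiplication by the last member of a weakly regular sequence, as a short exact sequence. -/
theorem exists_regStep (ys : List A) (x : A) (h : RingTheory.Sequence.IsWeaklyRegular A (ys ++ [x])) :
    ∃ w, (ShortComplex.mk (ModuleCat.ofHom (x • LinearMap.id : (A ⧸ Ideal.ofList ys) →ₗ[A] A ⧸ Ideal.ofList ys))
      (ModuleCat.ofHom (Submodule.factor (by rw [Ideal.ofList_append]; exact le_sup_left) :
        (A ⧸ Ideal.ofList ys) →ₗ[A] A ⧸ Ideal.ofList (ys ++ [x]))) w).ShortExact := by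
  obtain ⟨-, h2⟩ := (RingTheory.Sequence.isWeaklyRegular_append_iff A ys [x]).1 h
  rw [RingTheory.Sequence.isWeaklyRegular_singleton_iff] at h2
  have hI : (Ideal.ofList ys • ⊤ : Submodule A A) = Ideal.ofList ys := by
    rw [smul_eq_mul]; exact Ideal.mul_top _
  have hx : IsSMulRegular (A ⧸ Ideal.ofList ys) x :=
    ((Submodule.quotEquivOfEq _ _ hI).isSMulRegular_congr x).1 h2
  refine KFlatLib.exists_ses_of_exact hx (Submodule.factor_surjective _) fun z => ?_
  obtain ⟨a, rfl⟩ := Submodule.Quotient.mk_surjective _ z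
  constructor
  · intro h0
    have h1 : a ∈ Ideal.ofList (ys ++ [x]) := (Submodule.Quotient.mk_eq_zero _).1 h0
    rw [Ideal.ofList_append, Ideal.ofList_singleton, Submodule.mem_sup] at h1
    obtain ⟨p, hp, q, hq, rfl⟩ := h1
    obtain ⟨c, rfl⟩ := Ideal.mem_span_singleton'.1 hq
    refine ⟨Submodule.Quotient.mk c, ?_⟩
    rw [LinearMap.smul_apply, LinearMap.id_apply, ← Submodule.Quotient.mk_smul, Submodule.Quotient.eq, smul_eq_mul,
      mul_comm x c, show c * x - (p + c * x) = -p by ring]
    exact neg_mem hp
  · rintro ⟨c, hc⟩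
    obtain ⟨c, rfl⟩ := Submodule.Quotient.mk_surjective _ c
    rw [← hc, LinearMap.smul_apply, LinearMap.id_apply, ← Submodule.Quotient.mk_smul]
    show (Submodule.Quotient.mk (x • c) : A ⧸ Ideal.ofList (ys ++ [x])) = 0
    rw [Submodule.Quotient.mk_eq_zero, Ideal.ofList_append, Ideal.ofList_singleton, smul_eq_mul]
    exact Submodule.mem_sup_right (Ideal.mem_span_singleton'.2 ⟨c, mul_comm _ _⟩)

theorem mk₀_smul_id_comp {X Y : ModuleCat.{u} A} (r : A) {n : ℕ} (ξ : Ext X Y n) :
    (Ext.mk₀ (r • 𝟙 X)).comp ξ (zero_add n) = r • ξ := by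
  rw [Ext.mk₀_smul, Ext.smul_comp, Ext.mk₀_id_comp]

/-- `Ext` out of `A/J` above the length vanishes and in top degree is `M/JM`. -/
theorem ext_regSeq (M : Type u) [AddCommGroup M] [Module A M] : ∀ (xs : List A),
    RingTheory.Sequence.IsWeaklyRegular A xs →
    (∀ i, xs.length < i → Subsingleton (Ext (ModuleCat.of A (A ⧸ Ideal.ofList xs)) (ModuleCat.of A M) i)) ∧
      Nonempty (Ext (ModuleCat.of A (A ⧸ Ideal.ofList xs)) (ModuleCat.of A M) xs.length ≃ₗ[A]
        (M ⧸ (Ideal.ofList xs • (⊤ : Submodule A M)))) := by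
  intro xs
  induction xs using List.reverseRecOn with
  | nil =>
    intro _
    let e : (A ⧸ Ideal.ofList ([] : List A)) ≃ₗ[A] A := Submodule.quotEquivOfEqBot _ Ideal.ofList_nil
    haveI : Projective (ModuleCat.of A (A ⧸ Ideal.ofList ([] : List A))) := by
      haveI : Module.Projective A (A ⧸ Ideal.ofList ([] : List A)) := Module.Projective.of_equiv e.symm
      exact ModuleCat.projective_of_categoryTheory_projective _
    refine ⟨fun i hi => ?_, ⟨?_⟩⟩
    · obtain ⟨j, rfl⟩ := Nat.exists_eq_succ_of_ne_zero (by simp only [List.length_nil] at hi; omega : i ≠ 0)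
      exact Ext.subsingleton_of_projective _ _ j
    · exact Ext.linearEquiv₀.trans ((ModuleCat.homLinearEquiv (S := A)).trans
        ((e.congrLeft M A).trans ((LinearMap.ringLmapEquivSelf A A M).trans
          (Submodule.quotEquivOfEqBot _ (by rw [Ideal.ofList_nil, Submodule.bot_smul])).symm)))
  | append_singleton ys x ih =>
    intro h
    obtain ⟨hvan, ⟨eb⟩⟩ := ih ((RingTheory.Sequence.isWeaklyRegular_append_iff A ys [x]).1 h).1
    obtain ⟨w, hS⟩ := exists_regStep ys x h
    have hlen : (ys ++ [x]).length = ys.length + 1 := by simp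
    have key : ∀ n, ys.length < n + 1 →
        ∀ ξ : Ext (ModuleCat.of A (A ⧸ Ideal.ofList (ys ++ [x]))) (ModuleCat.of A M) (n + 1),
          ∃ η : Ext (ModuleCat.of A (A ⧸ Ideal.ofList ys)) (ModuleCat.of A M) n,
            hS.extClass.comp η (by omega : 1 + n = n + 1) = ξ := fun n hn ξ => by
      haveI := hvan (n + 1) hn
      exact Ext.contravariant_sequence_exact₃ hS _ ξ (Subsingleton.elim _ _) (by omega)
    refine ⟨fun i hi => ?_, ?_⟩
    · obtain ⟨n, rfl⟩ := Nat.exists_eq_succ_of_ne_zero (by omega : i ≠ 0)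
      haveI := hvan n (by omega)
      refine subsingleton_of_forall_eq 0 fun ξ => ?_
      obtain ⟨η, rfl⟩ := key n (by omega) ξ
      rw [Subsingleton.elim η 0, Ext.comp_zero]
    · rw [hlen]
      let δ := Ext.precompOfLinear (a := ys.length) hS.extClass A (ModuleCat.of A M)
        (by omega : 1 + ys.length = ys.length + 1)
      have hδ : Function.Surjective δ := key ys.length (by omega)
      have hker : LinearMap.ker δ = x • ⊤ := by
        ext η
        constructor
        · intro hη
          obtain ⟨θ, hθ⟩ := Ext.contravariant_sequence_exact₁ hS _ η (by omega) hη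
          refine (Submodule.mem_smul_pointwise_iff_exists _ _ _).2 ⟨θ, trivial, ?_⟩
          rw [← hθ]
          exact (mk₀_smul_id_comp x θ).symm
        · intro hη
          obtain ⟨θ, -, rfl⟩ := (Submodule.mem_smul_pointwise_iff_exists _ _ _).1 hη
          have hz := hS.extClass_comp_assoc θ (h := (by omega : 1 + ys.length = ys.length + 1))
          change hS.extClass.comp (x • θ) (by omega : 1 + ys.length = ys.length + 1) = 0
          rw [← mk₀_smul_id_comp x θ]
          exact hz
      let e₁ := ((Submodule.quotEquivOfEq _ _ hker).symm.trans (δ.quotKerEquivOfSurjective hδ)).symm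
      have hmap : (x • (⊤ : Submodule A (Ext (ModuleCat.of A (A ⧸ Ideal.ofList ys)) (ModuleCat.of A M) ys.length))).map
          (eb : _ →ₗ[A] M ⧸ (Ideal.ofList ys • (⊤ : Submodule A M))) = x • ⊤ := by
        ext z
        simp only [Submodule.mem_map, Submodule.mem_smul_pointwise_iff_exists, Submodule.mem_top, true_and]
        constructor
        · rintro ⟨-, ⟨θ, rfl⟩, rfl⟩
          exact ⟨eb θ, (map_smul eb x θ).symm⟩
        · rintro ⟨z, rfl⟩
          exact ⟨x • eb.symm z, ⟨_, rfl⟩, by simp⟩
      let e₂ := Submodule.Quotient.equiv _ _ eb hmap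
      let N := M ⧸ (Ideal.ofList ys • (⊤ : Submodule A M))
      have hmap' : (x • (⊤ : Submodule A N)) =
          (Ideal.ofList (ys ++ [x]) • (⊤ : Submodule A M)).map (Ideal.ofList ys • (⊤ : Submodule A M)).mkQ := by
        rw [Submodule.map_smul'', Submodule.map_top, Submodule.range_mkQ, Ideal.ofList_append, Ideal.ofList_singleton,
          Submodule.sup_smul, Submodule.ideal_span_singleton_smul,
          show (Ideal.ofList ys • (⊤ : Submodule A N)) = ⊥ from ?_, bot_sup_eq]
        rw [← Submodule.range_mkQ (Ideal.ofList ys • (⊤ : Submodule A M)), ← Submodule.map_top,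
          ← Submodule.map_smul'', Submodule.mkQ_map_self]
      exact ⟨e₁.trans (e₂.trans ((Submodule.quotEquivOfEq _ _ hmap').trans
        (Submodule.quotientQuotientEquivQuotient _ _ (by
          rw [Ideal.ofList_append, Submodule.sup_smul]; exact le_sup_left))))⟩

end Groth.Agent.DualityLC
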