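import Groth.Agent.DualityLC.GorShift

/-!
# The lowest possible Ext into a Gorenstein ring as a Hom functor
-/

set_option autoImplicit false
set_option linter.style.haveILetI false
set_option backward.isDefEq.respectTransparency false

universe u

open CategoryTheory CategoryTheory.Limits IsLocalRing Abelian

namespace Groth.Agent.DualityLC

variable {A : Type u} [CommRing A]

/-- Restriction of a class along a linear map. -/
noncomputable def extPull {M N : Type u} [AddCommGroup M] [Module A M] [AddCommGroup N] [Module A N]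
    {p : ℕ} (f : M →ₗ[A] N) (ξ : Ext (ModuleCat.of A N) (ModuleCat.of A A) p) :
    Ext (ModuleCat.of A M) (ModuleCat.of A A) p :=
  (Ext.mk₀ (ModuleCat.ofHom f)).comp ξ (zero_add p)

theorem extPull_comp {L M N : Type u} [AddCommGroup L] [Module A L] [AddCommGroup M] [Module A M]
    [AddCommGroup N] [Module A N] {p : ℕ} (g : L →ₗ[A] M) (f : M →ₗ[A] N)
    (ξ : Ext (ModuleCat.of A N) (ModuleCat.of A A) p) : extPull g (extPull f ξ) = extPull (f ∘ₗ g) ξ := by
  unfold extPull
  rw [Ext.mk₀_comp_mk₀_assoc]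
  rfl

theorem extPull_zero {M N : Type u} [AddCommGroup M] [Module A M] [AddCommGroup N] [Module A N]
    {p : ℕ} (ξ : Ext (ModuleCat.of A N) (ModuleCat.of A A) p) : extPull (0 : M →ₗ[A] N) ξ = 0 := by
  unfold extPull
  rw [show ModuleCat.ofHom (0 : M →ₗ[A] N) = 0 from rfl, Ext.mk₀_zero, Ext.zero_comp]

theorem extPull_map_zero {M N : Type u} [AddCommGroup M] [Module A M] [AddCommGroup N] [Module A N]
    {p : ℕ} (f : M →ₗ[A] N) : extPull f (0 : Ext (ModuleCat.of A N) (ModuleCat.of A A) p) = 0 := by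
  simp [extPull]

theorem extPull_add {M N : Type u} [AddCommGroup M] [Module A M] [AddCommGroup N] [Module A N]
    {p : ℕ} (f g : M →ₗ[A] N) (ξ : Ext (ModuleCat.of A N) (ModuleCat.of A A) p) :
    extPull (f + g) ξ = extPull f ξ + extPull g ξ := by
  unfold extPull
  rw [show ModuleCat.ofHom (f + g) = ModuleCat.ofHom f + ModuleCat.ofHom g from rfl, Ext.mk₀_add, Ext.add_comp]

theorem extPull_finset_sum {M N : Type u} [AddCommGroup M] [Module A M] [AddCommGroup N] [Module A N]
    {p : ℕ} {ι : Type*} (s : Finset ι) (f : ι → M →ₗ[A] N) (ξ : Ext (ModuleCat.of A N) (ModuleCat.of A A) p) :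
    extPull (∑ j ∈ s, f j) ξ = ∑ j ∈ s, extPull (f j) ξ := by
  classical
  induction s using Finset.induction with
  | empty => rw [Finset.sum_empty, Finset.sum_empty, extPull_zero]
  | insert a s ha ih => rw [Finset.sum_insert ha, Finset.sum_insert ha, extPull_add, ih]

/-- Restriction along `r • id` is multiplication. -/
theorem extPull_smul_id {M : Type u} [AddCommGroup M] [Module A M]
    {p : ℕ} (r : A) (ξ : Ext (ModuleCat.of A M) (ModuleCat.of A A) p) :
    extPull (r • LinearMap.id : M →ₗ[A] M) ξ = r • ξ := by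
  unfold extPull
  rw [show ModuleCat.ofHom (r • LinearMap.id : M →ₗ[A] M) = r • 𝟙 (ModuleCat.of A M) from rfl, Ext.mk₀_smul,
    Ext.smul_comp, Ext.mk₀_id_comp]

variable [IsLocalRing A] [IsNoetherianRing A] (hA : LocCoh.IsGorensteinLocalRing A) (p : ℕ) (J : Ideal A)
  (hJ : ringKrullDim (A ⧸ J) + p ≤ ringKrullDim A)

include hA hJ in
/-- Pulling back along a surjection of modules killed by `J` is injective in degree `p`. -/
theorem extPull_injective {L M : Type u} [AddCommGroup L] [Module A L] [Module.Finite A L] [AddCommGroup M] [Module A M]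
    (π : L →ₗ[A] M) (hπ : Function.Surjective π) (hL : J • (⊤ : Submodule A L) = ⊥)
    (ξ : Ext (ModuleCat.of A M) (ModuleCat.of A A) p) (hξ : extPull π ξ = 0) : ξ = 0 := by
  obtain ⟨w, hS⟩ := KFlatLib.exists_ses_of_exact (f := π.ker.subtype) (g := π) (Submodule.injective_subtype _) hπ
    (LinearMap.exact_subtype_ker_map π)
  rcases p with _ | p
  · haveI : Epi (ModuleCat.ofHom π) := (ModuleCat.epi_iff_surjective _).2 hπ
    apply Ext.precomp_mk₀_injective_of_epi (ModuleCat.of A A) (ModuleCat.ofHom π)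
    exact hξ.trans (map_zero _).symm
  · obtain ⟨x, hx⟩ := Ext.contravariant_sequence_exact₃ hS (ModuleCat.of A A) ξ hξ (n₀ := p) (by omega)
    have hdim : Module.supportDim A π.ker + ((p + 1 : ℕ) : WithBot ℕ∞) ≤ ringKrullDim A := by
      refine le_trans (add_le_add_left ?_ _) hJ
      rw [← Module.supportDim_quotient_eq_ringKrullDim]
      refine (Module.supportDim_le_of_injective π.ker.subtype (Submodule.injective_subtype _)).trans ?_
      rw [Module.supportDim, Module.supportDim]
      refine Order.krullDim_le_of_strictMono (fun P => ⟨P.1, ?_⟩) fun _ _ h => h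
      rw [Module.support_eq_zeroLocus, Ideal.annihilator_quotient]
      have := (Set.ext_iff.1 (Module.support_eq_zeroLocus (R := A) (M := L)) P.1).1 P.2
      exact fun a ha => this (Module.mem_annihilator.2 fun m => by
        have : a • m ∈ J • (⊤ : Submodule A L) := Submodule.smul_mem_smul ha trivial
        rwa [hL, Submodule.mem_bot] at this)
    haveI := subsingleton_ext_of_lt hA π.ker (p + 1) hdim p (by omega)
    rw [← hx, Subsingleton.elim x 0, Ext.comp_zero]

include hA hJ in
/-- `Ext^p(M, A)` is `Hom(Hom(A/J, M), Ext^p(A/J, A))` on modules killed by `J`. -/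
theorem extPull_bijective (M : Type u) [AddCommGroup M] [Module A M] [Module.Finite A M]
    (hJM : J • (⊤ : Submodule A M) = ⊥) :
    Function.Injective (fun ξ : Ext (ModuleCat.of A M) (ModuleCat.of A A) p =>
        fun u : (A ⧸ J) →ₗ[A] M => extPull u ξ) ∧
      ∀ g : ((A ⧸ J) →ₗ[A] M) →ₗ[A] Ext (ModuleCat.of A (A ⧸ J)) (ModuleCat.of A A) p,
        ∃ ξ : Ext (ModuleCat.of A M) (ModuleCat.of A A) p, ∀ u, g u = extPull u ξ := by
  classical
  have hkill : ∀ a ∈ J, ∀ m : M, a • m = 0 := fun a ha m => by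
    have : a • m ∈ J • (⊤ : Submodule A M) := Submodule.smul_mem_smul ha trivial
    rwa [hJM, Submodule.mem_bot] at this
  obtain ⟨k, c, hc⟩ := Module.Finite.exists_fin' A M
  let mk : M → ((A ⧸ J) →ₗ[A] M) := fun m =>
    J.liftQ (LinearMap.toSpanSingleton A M m) fun a ha => hkill a ha m
  have ext1 : ∀ {N : Type u} [AddCommGroup N] [Module A N] (u v : (A ⧸ J) →ₗ[A] N),
      u (Submodule.Quotient.mk 1) = v (Submodule.Quotient.mk 1) → u = v := fun u v h => by
    refine LinearMap.ext fun z => ?_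
    obtain ⟨a, rfl⟩ := Submodule.Quotient.mk_surjective _ z
    rw [show (Submodule.Quotient.mk a : A ⧸ J) = a • Submodule.Quotient.mk (1 : A) by
      rw [← Submodule.Quotient.mk_smul, smul_eq_mul, mul_one], map_smul, map_smul, h]
  let u₀ : Fin k → ((A ⧸ J) →ₗ[A] M) := fun j => mk (c (Pi.single j 1))
  let π : (Fin k → A ⧸ J) →ₗ[A] M := ∑ j, u₀ j ∘ₗ LinearMap.proj j
  have hπ : Function.Surjective π := fun m => by
    obtain ⟨b, rfl⟩ := hc m
    refine ⟨fun j => Submodule.Quotient.mk (b j), ?_⟩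
    conv_rhs => rw [pi_eq_sum_univ' b, map_sum]
    simp only [π, LinearMap.sum_apply, LinearMap.comp_apply, LinearMap.proj_apply, u₀, mk, Submodule.liftQ_apply,
      LinearMap.toSpanSingleton_apply, map_smul]
  have hL : J • (⊤ : Submodule A (Fin k → A ⧸ J)) = ⊥ := by
    refine (Submodule.eq_bot_iff _).2 fun z hz => ?_
    refine Submodule.smul_induction_on hz (fun a ha v _ => funext fun j => ?_) fun x y hx hy => by rw [hx, hy, add_zero]
    obtain ⟨b, hb⟩ := Submodule.Quotient.mk_surjective _ (v j)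
    rw [Pi.smul_apply, ← hb, ← Submodule.Quotient.mk_smul]
    exact (Submodule.Quotient.mk_eq_zero _).2 (Ideal.mul_mem_right b J ha)
  have hsum : ∀ v : (A ⧸ J) →ₗ[A] (Fin k → A ⧸ J), π ∘ₗ v = ∑ j, u₀ j ∘ₗ (LinearMap.proj j ∘ₗ v) := fun v => by
    refine LinearMap.ext fun z => ?_
    simp [π]
  have hsumid : ∀ v : (A ⧸ J) →ₗ[A] (Fin k → A ⧸ J), ∀ j, ∃ r : A,
      LinearMap.proj j ∘ₗ v = r • (LinearMap.id : (A ⧸ J) →ₗ[A] (A ⧸ J)) := fun v j => by
    obtain ⟨r, hr⟩ := Submodule.Quotient.mk_surjective _ (v (Submodule.Quotient.mk 1) j)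
    refine ⟨r, ext1 _ _ ?_⟩
    rw [LinearMap.comp_apply, LinearMap.proj_apply, ← hr, LinearMap.smul_apply, LinearMap.id_apply,
      ← Submodule.Quotient.mk_smul, smul_eq_mul, mul_one]
  -- maps into the free cover are detected on coordinates
  have hfree : ∀ η : Ext (ModuleCat.of A (Fin k → A ⧸ J)) (ModuleCat.of A A) p,
      (∀ v : (A ⧸ J) →ₗ[A] (Fin k → A ⧸ J), extPull v η = 0) → η = 0 := fun η h => by
    have hid : (LinearMap.id : (Fin k → A ⧸ J) →ₗ[A] (Fin k → A ⧸ J)) =
        ∑ j, LinearMap.single A (fun _ : Fin k => A ⧸ J) j ∘ₗ LinearMap.proj j := by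
      refine LinearMap.ext fun z => ?_
      simp only [LinearMap.id_apply, LinearMap.sum_apply, LinearMap.comp_apply, LinearMap.proj_apply,
        LinearMap.coe_single, Finset.univ_sum_single]
    have h1 : extPull (LinearMap.id : (Fin k → A ⧸ J) →ₗ[A] (Fin k → A ⧸ J)) η = η := by
      unfold extPull
      exact Ext.mk₀_id_comp η
    rw [← h1, hid, extPull_finset_sum]
    exact Finset.sum_eq_zero fun j _ => by rw [← extPull_comp, h, extPull_map_zero]
  refine ⟨fun ξ ξ' h => sub_eq_zero.1 (extPull_injective hA p J hJ π hπ hL _ (hfree _ fun v => ?_)), fun g => ?_⟩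
  · have h' := congrFun h (π ∘ₗ v)
    rw [extPull_comp]
    unfold extPull at h' ⊢
    rw [sub_eq_add_neg, Ext.comp_add, Ext.comp_neg, ← sub_eq_add_neg]
    exact sub_eq_zero.2 h'
  let η : Ext (ModuleCat.of A (Fin k → A ⧸ J)) (ModuleCat.of A A) p :=
    ∑ j, extPull (LinearMap.proj j) (g (u₀ j))
  have hη : ∀ v : (A ⧸ J) →ₗ[A] (Fin k → A ⧸ J), extPull v η = g (π ∘ₗ v) := fun v => by
    simp only [η]
    rw [show extPull v (∑ j, extPull (LinearMap.proj j) (g (u₀ j))) =
      ∑ j, extPull v (extPull (LinearMap.proj j) (g (u₀ j))) from Ext.comp_sum _ _ _, hsum, map_sum]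
    refine Finset.sum_congr rfl fun j _ => ?_
    obtain ⟨r, hr⟩ := hsumid v j
    rw [extPull_comp, hr, extPull_smul_id, LinearMap.comp_smul, LinearMap.comp_id, map_smul]
  obtain ⟨w, hS⟩ := KFlatLib.exists_ses_of_exact (f := π.ker.subtype) (g := π) (Submodule.injective_subtype _) hπ
    (LinearMap.exact_subtype_ker_map π)
  -- the class vanishes on the kernel
  haveI : Module.Finite A π.ker := inferInstance
  obtain ⟨l, b, hb⟩ := Module.Finite.exists_fin' A π.ker
  have hkerJ : ∀ a ∈ J, ∀ z : π.ker, a • z = 0 := fun a ha z => Subtype.ext <| by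
    have : a • (z : Fin k → A ⧸ J) ∈ J • (⊤ : Submodule A (Fin k → A ⧸ J)) := Submodule.smul_mem_smul ha trivial
    rwa [hL, Submodule.mem_bot] at this
  let σ : (Fin l → A ⧸ J) →ₗ[A] π.ker := ∑ i, (J.liftQ (LinearMap.toSpanSingleton A π.ker (b (Pi.single i 1)))
    fun a ha => hkerJ a ha _) ∘ₗ LinearMap.proj i
  have hσ : Function.Surjective σ := fun m => by
    obtain ⟨b', rfl⟩ := hb m
    refine ⟨fun j => Submodule.Quotient.mk (b' j), ?_⟩
    conv_rhs => rw [pi_eq_sum_univ' b', map_sum]
    simp only [σ, LinearMap.sum_apply, LinearMap.comp_apply, LinearMap.proj_apply, Submodule.liftQ_apply,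
      LinearMap.toSpanSingleton_apply, map_smul]
  have hLl : J • (⊤ : Submodule A (Fin l → A ⧸ J)) = ⊥ := by
    refine (Submodule.eq_bot_iff _).2 fun z hz => ?_
    refine Submodule.smul_induction_on hz (fun a ha v _ => funext fun j => ?_) fun x y hx hy => by rw [hx, hy, add_zero]
    obtain ⟨b, hb⟩ := Submodule.Quotient.mk_surjective _ (v j)
    rw [Pi.smul_apply, ← hb, ← Submodule.Quotient.mk_smul]
    exact (Submodule.Quotient.mk_eq_zero _).2 (Ideal.mul_mem_right b J ha)
  have hσ0 : extPull σ (extPull π.ker.subtype η) = 0 := by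
    have hid : σ = ∑ i, (σ ∘ₗ LinearMap.single A (fun _ : Fin l => A ⧸ J) i) ∘ₗ LinearMap.proj i := by
      refine LinearMap.ext fun z => ?_
      simp only [LinearMap.sum_apply, LinearMap.comp_apply, LinearMap.proj_apply, LinearMap.coe_single,
        ← map_sum, Finset.univ_sum_single]
    rw [hid, extPull_finset_sum]
    refine Finset.sum_eq_zero fun i _ => ?_
    have h0 : π ∘ₗ (π.ker.subtype ∘ₗ (σ ∘ₗ LinearMap.single A (fun _ : Fin l => A ⧸ J) i)) = 0 :=
      LinearMap.ext fun z => ((σ ∘ₗ LinearMap.single A (fun _ : Fin l => A ⧸ J) i) z).2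
    rw [← extPull_comp, extPull_comp _ π.ker.subtype, hη, h0, map_zero, extPull_map_zero]
  have hker0 : extPull π.ker.subtype η = 0 := extPull_injective hA p J hJ σ hσ hLl _ hσ0
  obtain ⟨ξ, hξ⟩ := Ext.contravariant_sequence_exact₂ hS (ModuleCat.of A A) η hker0
  refine ⟨ξ, fun u => ?_⟩
  obtain ⟨z, hz⟩ := hπ (u (Submodule.Quotient.mk 1))
  let v : (A ⧸ J) →ₗ[A] (Fin k → A ⧸ J) := J.liftQ (LinearMap.toSpanSingleton A _ z) fun a ha => by
    have : a • z ∈ J • (⊤ : Submodule A (Fin k → A ⧸ J)) := Submodule.smul_mem_smul ha trivial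
    rwa [hL, Submodule.mem_bot] at this
  have huv : π ∘ₗ v = u := ext1 _ _ (by
    show π ((1 : A) • z) = _
    rw [one_smul]; exact hz)
  rw [← huv, ← hη, ← extPull_comp]
  exact congrArg (extPull v) hξ.symm

end Groth.Agent.DualityLC
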