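import Groth.Prelude.Def_DRing2
import Groth.Prelude.Def_DRing4
import Mathlib.RingTheory.Flat.Tensor
import Mathlib.Algebra.Module.Injective
import Mathlib.LinearAlgebra.TensorProduct.RightExactness
import Mathlib.RingTheory.Noetherian.Basic
import Mathlib.Algebra.Order.Interval.Finset.Basic
import Mathlib.Data.Int.Interval

/-!
# Hom complexes of bounded flat or injective complexes
-/

set_option autoImplicit false
set_option linter.style.haveILetI false
set_option backward.isDefEq.respectTransparency false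

universe u

open CategoryTheory CategoryTheory.Limits TensorProduct
open CochainComplex.HomComplex

namespace Groth.Agent.DualityLC

variable {A : Type u} [CommRing A]

/-- Maps from a flat module into an injective one form an injective module. -/
theorem injective_hom_of_flat (P I : Type u) [AddCommGroup P] [Module A P] [AddCommGroup I] [Module A I]
    [Module.Flat A P] [Module.Injective A I] : Module.Injective A (P →ₗ[A] I) := by
  refine Module.Baer.injective fun 𝔞 g => ?_
  obtain ⟨G, hG⟩ := Module.Injective.extension_property A _ _ _ (𝔞.subtype.rTensor P)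
    (Module.Flat.rTensor_preserves_injective_linearMap _ Subtype.val_injective) (TensorProduct.lift g)
  refine ⟨TensorProduct.curry G, fun a ha => LinearMap.ext fun p => ?_⟩
  exact LinearMap.congr_fun hG (⟨a, ha⟩ ⊗ₜ[A] p)

section FlatHom

variable (J I : Type u) [AddCommGroup J] [Module A J] [AddCommGroup I] [Module A I]

/-- The evaluation map. -/
noncomputable def tensorHomEval (M : Type u) [AddCommGroup M] [Module A M] :
    M ⊗[A] (J →ₗ[A] I) →ₗ[A] ((M →ₗ[A] J) →ₗ[A] I) :=
  TensorProduct.lift
    { toFun := fun m =>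
        { toFun := fun h => h ∘ₗ LinearMap.applyₗ m
          map_add' := fun h h' => LinearMap.ext fun φ => rfl
          map_smul' := fun r h => LinearMap.ext fun φ => rfl }
      map_add' := fun m m' => LinearMap.ext fun h => LinearMap.ext fun φ => by simp
      map_smul' := fun r m => LinearMap.ext fun h => LinearMap.ext fun φ => by simp }

theorem tensorHomEval_tmul {M : Type u} [AddCommGroup M] [Module A M] (m : M) (h : J →ₗ[A] I) (φ : M →ₗ[A] J) :
    tensorHomEval J I M (m ⊗ₜ h) φ = h (φ m) := rfl

theorem tensorHomEval_natural {M N : Type u} [AddCommGroup M] [Module A M] [AddCommGroup N] [Module A N]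
    (f : M →ₗ[A] N) (z : M ⊗[A] (J →ₗ[A] I)) (φ : N →ₗ[A] J) :
    tensorHomEval J I N (f.rTensor _ z) φ = tensorHomEval J I M z (φ ∘ₗ f) := by
  induction z using TensorProduct.induction_on with
  | zero => simp
  | tmul m h => rfl
  | add x y hx hy => simp only [map_add, LinearMap.add_apply, hx, hy]

theorem tensorHomEval_pi_bijective (k : ℕ) : Function.Bijective (tensorHomEval (A := A) J I (Fin k → A)) := by
  classical
  let c : Fin k → (J →ₗ[A] ((Fin k → A) →ₗ[A] J)) := fun j =>
    { toFun := fun x => LinearMap.toSpanSingleton A J x ∘ₗ LinearMap.proj j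
      map_add' := fun x y => LinearMap.ext fun v => by simp
      map_smul' := fun r x => LinearMap.ext fun v => smul_comm (v j) r x }
  let inv : (((Fin k → A) →ₗ[A] J) →ₗ[A] I) →ₗ[A] (Fin k → A) ⊗[A] (J →ₗ[A] I) :=
    ∑ j, (TensorProduct.mk A (Fin k → A) (J →ₗ[A] I) (Pi.single j 1)) ∘ₗ
      { toFun := fun ψ => ψ ∘ₗ c j
        map_add' := fun ψ ψ' => rfl
        map_smul' := fun r ψ => rfl }
  have hinv : ∀ ψ, inv ψ = ∑ j, Pi.single j (1 : A) ⊗ₜ[A] (ψ ∘ₗ c j) := fun ψ => by
    simp [inv]
  have hsum : ∀ φ : (Fin k → A) →ₗ[A] J, ∑ j, c j (φ (Pi.single j 1)) = φ := fun φ => LinearMap.ext fun v => by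
    conv_rhs => rw [pi_eq_sum_univ' v, map_sum]
    simp [c]
  have h2 : ∀ ψ, tensorHomEval (A := A) J I (Fin k → A) (inv ψ) = ψ := fun ψ => LinearMap.ext fun φ => by
    rw [hinv, map_sum, LinearMap.sum_apply]
    simp only [tensorHomEval_tmul, LinearMap.comp_apply]
    rw [← map_sum, hsum]
  have h1 : ∀ z, inv (tensorHomEval (A := A) J I (Fin k → A) z) = z := fun z => by
    induction z using TensorProduct.induction_on with
    | zero => rw [map_zero, map_zero]
    | tmul v h =>
      rw [hinv]
      conv_rhs => rw [pi_eq_sum_univ' v, TensorProduct.sum_tmul]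
      refine Finset.sum_congr rfl fun j _ => ?_
      rw [TensorProduct.smul_tmul]
      congr 1
      refine LinearMap.ext fun x => ?_
      simp [tensorHomEval_tmul, c]
    | add x y hx hy => rw [map_add, map_add, hx, hy]
  exact Function.bijective_iff_has_inverse.2 ⟨inv, h1, h2⟩

/-- Maps between injective modules over a Noetherian ring form a flat module. -/
theorem flat_hom_of_injective [IsNoetherianRing A] [Module.Injective A J] [Module.Injective A I] :
    Module.Flat A (J →ₗ[A] I) := by
  refine Module.Flat.iff_rTensor_injective.2 fun 𝔞 _ => ?_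
  rw [injective_iff_map_eq_zero]
  intro z hz
  have hz0 : ∀ φ : 𝔞 →ₗ[A] J, tensorHomEval J I 𝔞 z φ = 0 := fun φ => by
    obtain ⟨φ', rfl⟩ := Module.Injective.extension_property A _ _ _ 𝔞.subtype Subtype.val_injective φ
    rw [← tensorHomEval_natural, hz, map_zero]
    rfl
  obtain ⟨k, β, hβ⟩ := Module.Finite.exists_fin' A 𝔞
  obtain ⟨l, α, hα⟩ := Module.Finite.exists_fin' A (LinearMap.ker β)
  let α' : (Fin l → A) →ₗ[A] (Fin k → A) := (LinearMap.ker β).subtype ∘ₗ α
  obtain ⟨w, rfl⟩ := LinearMap.rTensor_surjective (J →ₗ[A] I) hβ z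
  -- the evaluation of `w` factors through the restriction to the relations
  let res : ((Fin k → A) →ₗ[A] J) →ₗ[A] ((Fin l → A) →ₗ[A] J) :=
    { toFun := fun φ => φ ∘ₗ α'
      map_add' := fun φ φ' => rfl
      map_smul' := fun r φ => rfl }
  have hker : LinearMap.ker res ≤ LinearMap.ker (tensorHomEval (A := A) J I (Fin k → A) w) := fun φ hφ => by
    have hle : LinearMap.ker β ≤ LinearMap.ker φ := fun v hv => by
      obtain ⟨u, hu⟩ := hα ⟨v, hv⟩
      rw [LinearMap.mem_ker, ← show α' u = v from congrArg Subtype.val hu]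
      exact LinearMap.congr_fun (LinearMap.mem_ker.1 hφ) u
    let φ₁ : 𝔞 →ₗ[A] J := (LinearMap.ker β).liftQ φ hle ∘ₗ (β.quotKerEquivOfSurjective hβ).symm.toLinearMap
    have hφ₁ : φ₁ ∘ₗ β = φ := LinearMap.ext fun v => by
      simp [φ₁, LinearMap.quotKerEquivOfSurjective_symm_apply]
    rw [LinearMap.mem_ker, ← hφ₁, ← tensorHomEval_natural]
    exact hz0 φ₁
  obtain ⟨ψ, hψ⟩ := Module.Injective.extension_property A _ _ _ ((LinearMap.ker res).liftQ res le_rfl)
    (LinearMap.ker_eq_bot.1 (Submodule.ker_liftQ_eq_bot _ _ _ le_rfl))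
    ((LinearMap.ker res).liftQ (tensorHomEval (A := A) J I (Fin k → A) w) hker)
  obtain ⟨v, hv⟩ := (tensorHomEval_pi_bijective J I l).2 ψ
  have hw : α'.rTensor (J →ₗ[A] I) v = w := by
    refine (tensorHomEval_pi_bijective J I k).1 (LinearMap.ext fun φ => ?_)
    rw [tensorHomEval_natural, hv]
    exact LinearMap.congr_fun hψ (Submodule.Quotient.mk φ)
  rw [← hw, ← LinearMap.rTensor_comp_apply, show β ∘ₗ α' = 0 from LinearMap.ext fun u => (α u).2,
    LinearMap.rTensor_zero, LinearMap.zero_apply]

end FlatHom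

section Terms

variable {P Q : CochainComplex (ModuleCat.{u} A) ℤ} {a b : ℤ}

/-- The terms of a Hom complex out of a bounded complex are finite products. -/
theorem exists_cochainPiEquiv (hP : DRing.VanishesOutside P a b) (n : ℤ) :
    Nonempty ((DRing.homCx P Q).X n ≃ₗ[A] ((p : Finset.Icc a b) → (P.X p.1 →ₗ[A] Q.X (p.1 + n)))) := by
  classical
  refine ⟨LinearEquiv.ofBijective
    ({ toFun := fun z p => (Cochain.v z p.1 (p.1 + n) rfl).hom
       map_add' := fun z z' => rfl
       map_smul' := fun r z => rfl } : Cochain P Q n →ₗ[A] ((p : Finset.Icc a b) → (P.X p.1 →ₗ[A] Q.X (p.1 + n))))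
    ⟨fun z z' h => Cochain.ext _ _ fun p q hpq => ?_, fun g => ?_⟩⟩
  · subst hpq
    by_cases hp : p ∈ Finset.Icc a b
    · exact ModuleCat.hom_ext (congrFun h ⟨p, hp⟩)
    · rw [Finset.mem_Icc] at hp
      exact (hP p (by omega)).eq_of_src _ _
  · refine ⟨Cochain.mk fun p q hpq =>
      if hp : p ∈ Finset.Icc a b then ModuleCat.ofHom (g ⟨p, hp⟩) ≫ eqToHom (by rw [hpq]) else 0, funext fun p => ?_⟩
    dsimp only [LinearMap.coe_mk, AddHom.coe_mk]
    rw [Cochain.mk_v, dif_pos p.2, eqToHom_refl, Category.comp_id]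
    rfl

theorem vanishesOutside_homCx_of_bounded (hP : DRing.VanishesOutside P a b) {c d : ℤ}
    (hQ : DRing.VanishesOutside Q c d) : DRing.VanishesOutside (DRing.homCx P Q) (c - b) (d - a) := fun n hn => by
  haveI : Subsingleton ((DRing.homCx P Q).X n) := ⟨fun z z' => Cochain.ext _ _ fun p q hpq => by
    by_cases hp : p < a ∨ b < p
    · exact (hP p hp).eq_of_src _ _
    · exact (hQ q (by omega)).eq_of_tgt _ _⟩
  exact ModuleCat.isZero_of_subsingleton _

/-- The Hom complex from bounded flat into injective is termwise injective. -/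
theorem termwiseInjective_homCx (hP : DRing.VanishesOutside P a b) (hflat : DRing.TermwiseFlat P)
    (hQ : DRing.TermwiseInjective Q) : DRing.TermwiseInjective (DRing.homCx P Q) := fun n => by
  obtain ⟨e⟩ := exists_cochainPiEquiv (Q := Q) hP n
  haveI : ∀ p : Finset.Icc a b, Module.Injective A (P.X p.1 →ₗ[A] Q.X (p.1 + n)) := fun p =>
    haveI := hflat p.1
    haveI := hQ (p.1 + n)
    injective_hom_of_flat _ _
  exact Module.Baer.injective ((Module.Baer.of_injective (R := A)
    (Q := (p : Finset.Icc a b) → (P.X p.1 →ₗ[A] Q.X (p.1 + n))) inferInstance).of_equiv e.symm)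

/-- The Hom complex between bounded injective complexes is termwise flat. -/
theorem termwiseFlat_homCx [IsNoetherianRing A] (hP : DRing.VanishesOutside P a b)
    (hPi : DRing.TermwiseInjective P) (hQ : DRing.TermwiseInjective Q) :
    DRing.TermwiseFlat (DRing.homCx P Q) := fun n => by
  classical
  obtain ⟨e⟩ := exists_cochainPiEquiv (Q := Q) hP n
  haveI : ∀ p : Finset.Icc a b, Module.Flat A (P.X p.1 →ₗ[A] Q.X (p.1 + n)) := fun p =>
    haveI := hPi p.1
    haveI := hQ (p.1 + n)
    flat_hom_of_injective _ _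
  haveI := Module.Flat.dfinsupp_iff.2 this
  exact Module.Flat.of_linearEquiv (e.trans DFinsupp.linearEquivFunOnFintype.symm)

end Terms

end Groth.Agent.DualityLC
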