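import Groth.Agent.DualityLC.HomCxAdj
import Groth.Agent.DualityLC.InjFlat
import Groth.Agent.KFlatLib.Ring.Dualizing

/-!
# Duality exchanges finite tor dimension and finite injective dimension
-/

set_option autoImplicit false
set_option linter.style.haveILetI false
set_option backward.isDefEq.respectTransparency false

universe u

open CategoryTheory CategoryTheory.Limits

attribute [local instance] HasDerivedCategory.standard

namespace Groth.Agent.DualityLC

variable {A : Type u} [CommRing A]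

theorem isKInjective_of_bounded {I : DRing.Cx A} {a b : ℤ} (hI : DRing.VanishesOutside I a b)
    (hinj : DRing.TermwiseInjective I) : I.IsKInjective := by
  haveI : CochainComplex.IsStrictlyGE I a :=
    (CochainComplex.isStrictlyGE_iff I a).2 fun i hi => hI i (Or.inl hi)
  haveI : ∀ n, Injective (I.X n) := fun n =>
    haveI := hinj n
    (Module.injective_iff_injective_object A _).1 inferInstance
  exact CochainComplex.isKInjective_of_injective I a

/-- Derived hom into a bounded complex of injectives. -/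
theorem exists_rhomR_boundedIso [DTen.HasLTen A] [DTen.HasRHom A] (P I : DRing.Cx A) [I.IsKInjective]
    {X ω : Dual.D A} (eX : DRing.toD P ≅ X) (eω : DRing.toD I ≅ ω) :
    Nonempty ((DTen.RHomR A X).obj ω ≅ DRing.toD (DRing.homCx P I)) := by
  haveI := H9Misc.DRingHomCx.hasRHomCx P
  obtain ⟨e⟩ := exists_rhomCxIso P ω
  exact ⟨((DTen.RHom A).mapIso eX.op).app ω ≪≫ e.symm ≪≫ (DRing.RHomCx P).mapIso eω.symm ≪≫
    (H9Misc.DRingHomCx.isoOfKInjective P I).symm⟩

variable [IsNoetherianRing A]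

theorem finiteTorDim_iff_finiteInjDim {ω : Dual.D A} (hω : Dual.IsDualizing A ω) (G : DRing.Cx A)
    [DRing.HasRHomCx G] (hfin : ∀ i : ℤ, Module.Finite A (Dual.HD A (DRing.toD G) i)) :
    DRing.HasFiniteTorDimCx A (DRing.toD G) ↔ DRing.HasFiniteInjDim A ((DRing.RHomCx G).obj ω) := by
  haveI := KFlatLib.hasLTen A
  haveI := KFlatLib.hasRHom (A := A)
  obtain ⟨c, d, I, hI, hIinj, ⟨eω⟩⟩ := KFlatLib.finiteInjDim_of_isDualizing hω
  haveI := isKInjective_of_bounded hI hIinj
  obtain ⟨eG⟩ := exists_rhomCxIso G ω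
  constructor
  · rintro ⟨a, b, P, hP, hflat, ⟨eP⟩⟩
    obtain ⟨e⟩ := exists_rhomR_boundedIso P I eP eω
    exact ⟨c - b, d - a, _, vanishesOutside_homCx_of_bounded hP hI, termwiseInjective_homCx hP hflat hIinj,
      ⟨e.symm ≪≫ eG.symm⟩⟩
  · rintro ⟨a, b, J, hJ, hJinj, ⟨eJ⟩⟩
    obtain ⟨e⟩ := exists_rhomR_boundedIso J I (eJ ≪≫ eG) eω
    obtain ⟨bd⟩ := KFlatLib.nonempty_biduality hω (K := DRing.toD G) hfin
    exact ⟨c - b, d - a, _, vanishesOutside_homCx_of_bounded hJ hI, termwiseFlat_homCx hJ hJinj hIinj,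
      ⟨e.symm ≪≫ bd⟩⟩

end Groth.Agent.DualityLC
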