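import Groth.Agent.DualityLC.FlatPushAmp
import Groth.Agent.Perf52.ProperPush
import Groth.Agent.Perf52.RelPerf
import Groth.Agent.KFlatLib.Scheme.RpushRestrict
import Groth.Agent.KFlatLib.Perfect.Corollaries
import Groth.Agent.S1039

/-!
# `Rf_*` preserves perfect objects for flat proper morphisms of Noetherian schemes
-/

set_option autoImplicit false
set_option linter.style.haveILetI false
set_option backward.isDefEq.respectTransparency false

universe u

open CategoryTheory CategoryTheory.Limits AlgebraicGeometry Pretriangulated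

attribute [local instance] HasDerivedCategory.standard

namespace Groth.Agent.DualityLC

open Groth.Agent.KFlatLib

/-- Perfect objects on a Noetherian scheme are bounded with coherent cohomology. -/
theorem bddCoh_of_isPerfect {X : Scheme.{u}} [IsNoetherian X] {E : DCoh.D X} (hE : DCoh.IsPerfect E) :
    DCoh.IsCohD E ∧ ∃ a b : ℤ, a ≤ b ∧ E.IsGE a ∧ E.IsLE b := by
  refine ⟨fun i => ?_, Perf52.exists_bounds_of_isPerfect hE⟩
  exact ((S1039.result X E (Perf52.isQCohD_of_isPerfect hE) i).1 ((isPseudoCoherentD_iff i E).2 (((isPerfect_iff E).1 hE).locPC i))).1 i le_rfl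

/-- The derived pushforward of a perfect object along a flat separated quasi-compact morphism has finite tor
amplitude over every affine open. -/
theorem finTorAmp_rho_rpush {X Y : Scheme.{u}} (f : X ⟶ Y) [Flat f] [IsSeparated f] [QuasiCompact f]
    [DCoh.HasRpush f] (E : DCoh.D X) (hE : DCoh.IsPerfect E) {V : Y.Opens} (hV : IsAffineOpen V) :
    FinTorAmp ((rho hV.fromSpec).obj ((DCoh.Rpush f).obj E)) := by
  let e := hV.isoSpec
  haveI := hasRpush_scheme (f ∣_ V)
  haveI := hasRpush_scheme e.hom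
  haveI := hasRpush_scheme (f ∣_ V ≫ e.hom)
  haveI : CompactSpace (f ⁻¹ᵁ V : X.Opens) :=
    isCompact_iff_compactSpace.1 (f.isCompact_preimage hV.isCompact)
  obtain ⟨rR⟩ := nonempty_rpush_restrictD_iso f V
  obtain ⟨c⟩ := nonempty_rpush_comp (f ∣_ V) e.hom
  obtain ⟨r⟩ := nonempty_rpush_iso_rho e ((DCoh.Rpush (f ∣_ V)).obj ((rho (f ⁻¹ᵁ V).ι).obj E))
  have h := finTorAmp_rpush (f ∣_ V ≫ e.hom) ((rho (f ⁻¹ᵁ V).ι).obj E)
    (Perf52.isPerfect_rho (f ⁻¹ᵁ V).ι hE)
  exact h.of_iso ((c.app _).symm ≪≫ r ≪≫ (rho e.inv).mapIso (rR.app E).symm ≪≫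
    rhoComp e.inv V.ι hV.fromSpec hV.isoSpec_inv_ι _)

/-- `Rf_*` of a perfect object is perfect for a flat proper morphism of Noetherian schemes. -/
theorem isPerfect_rpush_of_flat_proper {X Y : Scheme.{u}} [IsNoetherian X] [IsNoetherian Y] (f : X ⟶ Y)
    [IsProper f] [Flat f] [DCoh.HasRpush f] (E : DCoh.D X) (hE : DCoh.IsPerfect E) :
    DCoh.IsPerfect ((DCoh.Rpush f).obj E) := by
  obtain ⟨hcoh, a, b, hab, ha, hb⟩ := bddCoh_of_isPerfect hE
  haveI := ha
  haveI := hb
  have hq : ∀ i, Perf52.IsCohProper f (DCoh.HD E i) := fun i => by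
    refine ⟨hcoh i, ?_⟩
    have hu : ClSub.IsProperOver f (Set.univ : Set X) := by
      simpa using (QCoh.isProperOver_iff (f := f) (𝟙 X)).2 (by rw [Category.id_comp]; infer_instance)
    exact QCoh.IsProperOver.subset (p := f) hu (QCoh.isClosed_support_of_isFT (hcoh i).1 (hcoh i).2) (Set.subset_univ _)
  have hc : DCoh.IsCohD ((DCoh.Rpush f).obj E) := Perf52.isCohD_rpush_cohProper f E a hq
  obtain ⟨-, N, hN⟩ := Perf52.rpush_cohProper_bounded f (b - a).toNat a E ha
    (by rw [show a + ((b - a).toNat : ℤ) = b by omega]; exact hb) hq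
  have hpc : ∀ m, LocPC m ((DCoh.Rpush f).obj E) := fun m =>
    locPC_of_coh (fun i => (hc i).1) (fun i _ => hc i) N fun i hi =>
    haveI := hN; DerivedCategory.isZero_of_isLE _ N i hi
  refine (isPerfect_iff _).2 (LocSP.of_local fun y => ?_)
  obtain ⟨V, hV, hyV, -⟩ := exists_isAffineOpen_mem_and_subset (X := Y) (x := y) (U := ⊤) trivial
  obtain ⟨c, d, hcd, htor⟩ := finTorAmp_rho_rpush f E hE hV
  refine ⟨_, hV.fromSpec, inferInstance, by rw [hV.range_fromSpec]; exact hyV,
    locSP_of_flat_pc hcd (flatAmplitude_of_torAmplitude hasLTensorMod hcd htor) ((hpc (c - 1)).restrict _)⟩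

end Groth.Agent.DualityLC
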