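import Groth.Agent.DualityLC.Complexes
import Groth.Agent.DualityLC.Bidual

/-!
# Local duality in module form
-/

set_option autoImplicit false
set_option linter.style.haveILetI false
set_option backward.isDefEq.respectTransparency false

universe u

open CategoryTheory CategoryTheory.Limits Pretriangulated IsLocalRing

attribute [local instance] HasDerivedCategory.standard

namespace Groth.Agent.DualityLC

variable {A : Type u} [CommRing A] [IsNoetherianRing A] [IsLocalRing A] {ω : Dual.D A}
  {E : Type u} [AddCommGroup E] [Module A E] {f : ResidueField A →ₗ[A] E}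
  (hω : Dual.IsDualizing A ω) (hN : Dual.IsNormalized A ω) (hf : InjHull.IsInjectiveHull f)

include hω hN

omit [AddCommGroup E] [Module A E] in
theorem finite_hom_shift (K : Dual.D A) (hK : ∀ i : ℤ, Module.Finite A (Dual.HD A K i)) (i : ℤ) :
    Module.Finite A (K ⟶ ω⟦i⟧) :=
  KFlatLib.finite_hom_of_finite_hd hK hω.finite_cohomology (KFlatLib.finiteInjDim_of_isDualizing hω) i

include hf

/-- Local duality: the local cohomology of a complex with finite cohomology. -/
theorem exists_hdiEquiv (K : Dual.D A) (hK : ∀ i : ℤ, Module.Finite A (Dual.HD A K i)) (i : ℤ) :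
    Nonempty (Dual2.HDI A (maximalIdeal A) K i ≃ₗ[A] ((K ⟶ ω⟦-i⟧) →ₗ[A] E)) := by
  obtain ⟨eD⟩ := exists_colHullEquiv hω hN E f hf
  obtain ⟨e⟩ := KFlatLib.exists_shiftHomLEquiv K ω (-i)
  rw [neg_neg] at e
  exact ⟨(LinearEquiv.ofBijective _ (goodAll_of_finite hω hN K hK i)).trans (LinearEquiv.arrowCongr e.symm eD)⟩

/-- Local duality: the local cohomology of a finite module. -/
theorem exists_HEquiv (M : Type u) [AddCommGroup M] [Module A M] [Module.Finite A M] (i : ℕ) :
    Nonempty (LocCoh.H (maximalIdeal A) i M ≃ₗ[A] ((Dual.inD A M ⟶ ω⟦(-(i : ℤ))⟧) →ₗ[A] E)) := by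
  obtain ⟨e⟩ := exists_colHEquiv (maximalIdeal A) i (ModuleCat.of A M)
  obtain ⟨eD⟩ := exists_colHullEquiv hω hN E f hf
  obtain ⟨e'⟩ := KFlatLib.exists_shiftHomLEquiv (Dual.inD A M) ω (-(i : ℤ))
  rw [neg_neg] at e'
  exact ⟨e.symm.trans ((LinearEquiv.ofBijective _ (goodAll_module hω hN M i)).trans
    (LinearEquiv.arrowCongr e'.symm eD))⟩

omit [IsLocalRing A] hω hN hf in
theorem finite_hd_inD (M : Type u) [AddCommGroup M] [Module A M] [Module.Finite A M] (i : ℤ) :
    Module.Finite A (Dual.HD A (Dual.inD A M) i) := by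
  by_cases hi : i = 0
  · subst hi
    exact Module.Finite.equiv ((DerivedCategory.homologyFunctor (ModuleCat.{u} A) 0).mapIso
          ((DerivedCategory.singleFunctorIsoCompQ (ModuleCat.{u} A) 0).app (ModuleCat.of A M)) ≪≫
        (DerivedCategory.homologyFunctorFactors (ModuleCat.{u} A) 0).app _ ≪≫
        HomologicalComplex.singleObjHomologySelfIso (ComplexShape.up ℤ) 0 (ModuleCat.of A M)).symm.toLinearEquiv
  · haveI : Subsingleton (Dual.HD A (Dual.inD A M) i) := by
      rcases lt_or_gt_of_ne hi with h | h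
      · exact ModuleCat.subsingleton_of_isZero (DerivedCategory.isZero_of_isGE (Dual.inD A M) 0 i h)
      · exact ModuleCat.subsingleton_of_isZero (DerivedCategory.isZero_of_isLE (Dual.inD A M) 0 i h)
    exact Module.Finite.of_finite

omit hω hN in
/-- Double duals of finite modules in a larger universe. -/
theorem exists_bidualEquiv (X : Type (u + 1)) [AddCommGroup X] [Module A X] [Module.Finite A X]
    [IsAdicComplete (maximalIdeal A) A] : Nonempty (X ≃ₗ[A] ((X →ₗ[A] E) →ₗ[A] E)) := by
  obtain ⟨M, _, _, ⟨e⟩⟩ := exists_small_copy (A := A) X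
  haveI := Module.Finite.equiv e
  exact ⟨e.trans ((LinearEquiv.ofBijective _ (LC.applyₗ_bijective_of_finite hf M)).trans
    (LinearEquiv.arrowCongr (LinearEquiv.arrowCongr e.symm (LinearEquiv.refl A E)) (LinearEquiv.refl A E)))⟩

omit hω hN in
theorem exists_completionEquiv (X : Type (u + 1)) [AddCommGroup X] [Module A X] [Module.Finite A X] :
    Nonempty (AdicCompletion (maximalIdeal A) X ≃ₗ[A] ((X →ₗ[A] E) →ₗ[A] E)) := by
  obtain ⟨M, _, _, ⟨e⟩⟩ := exists_small_copy (A := A) X
  haveI := Module.Finite.equiv e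
  obtain ⟨b⟩ := exists_bidualEquiv_completion hf M
  let c := AdicCompletion.congr (maximalIdeal A) e
  exact ⟨(c.restrictScalars A).trans (b.trans
    (LinearEquiv.arrowCongr (LinearEquiv.arrowCongr e.symm (LinearEquiv.refl A E)) (LinearEquiv.refl A E)))⟩

end Groth.Agent.DualityLC
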