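import Groth.Agent.DualityLC.LocalDuality
import Groth.Agent.KFlatLib.Ring.InvertibleTwist
import Groth.Agent.LC.GorLoc

/-!
# Localizing maps into a dualizing complex
-/

set_option autoImplicit false
set_option linter.style.haveILetI false
set_option backward.isDefEq.respectTransparency false

universe u

open CategoryTheory CategoryTheory.Limits Pretriangulated IsLocalRing

open scoped TensorProduct

attribute [local instance] HasDerivedCategory.standard

namespace Groth.Agent.DualityLC

variable {A : Type u} [CommRing A]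

/-- Flat base change of a module in degree zero. -/
theorem exists_LBase_inD {B : Type u} [CommRing B] [Algebra A B] [Module.Flat A B]
    [DTen.HasLBase (algebraMap A B)] (M : Type u) [AddCommGroup M] [Module A M] :
    Nonempty ((DTen.LBase (algebraMap A B)).obj (Dual.inD A M) ≅ Dual.inD B (B ⊗[A] M)) := by
  obtain ⟨_, ⟨e⟩⟩ := KFlatLib.exists_LBase_map_iso (B := B) (Dual.inD A M)
  obtain ⟨c⟩ := KFlatLib.exists_extendLEquiv (B := B) (ModuleCat.of A M)
  exact ⟨e ≪≫ ((ModuleCat.extendScalars.{u, u, u} (algebraMap A B)).mapDerivedCategorySingleFunctor 0).app _ ≪≫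
    (DerivedCategory.singleFunctor (ModuleCat.{u} B) 0).mapIso c.toModuleIso⟩

variable [IsNoetherianRing A] {ω : Dual.D A}

section Prime

variable (p : Ideal A) [p.IsPrime]

/-- The localization of a complex at a prime. -/
noncomputable abbrev locD [DTen.HasLBase (algebraMap A (Localization.AtPrime p))] (Y : Dual.D A) :
    Dual.D (Localization.AtPrime p) :=
  (DTen.LBase (algebraMap A (Localization.AtPrime p))).obj Y

variable [DTen.HasLBase (algebraMap A (Localization.AtPrime p))]

/-- Maps out of a localized module are the localized maps. -/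
theorem exists_localHomLEquiv (a : ℤ) [ω.IsGE a] (M : Type u) [AddCommGroup M] [Module A M]
    [Module.Finite A M] (i : ℤ) :
    Nonempty ((Dual.inD (Localization.AtPrime p) (LocalizedModule p.primeCompl M) ⟶ (locD p ω)⟦i⟧)
      ≃ₗ[Localization.AtPrime p] LocalizedModule p.primeCompl (Dual.inD A M ⟶ ω⟦i⟧)) := by
  haveI : Module.Flat A (Localization.AtPrime p) := IsLocalization.flat _ p.primeCompl
  obtain ⟨eM⟩ := exists_LBase_inD (A := A) (B := Localization.AtPrime p) M
  obtain ⟨e⟩ := KFlatLib.exists_homBaseChangeLEquiv (B := Localization.AtPrime p) (X := Dual.inD A M) (Y := ω)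
    ((Groth.Agent.S6942.result A 0 ω M).2.2 inferInstance) a i
  exact ⟨(Linear.homCongr (Localization.AtPrime p)
      (((DerivedCategory.singleFunctor (ModuleCat.{u} (Localization.AtPrime p)) 0).mapIso
        (LocalizedModule.equivTensorProduct p.primeCompl M).toModuleIso) ≪≫ eM.symm) (Iso.refl _)).trans
    (e.trans (LocalizedModule.equivTensorProduct p.primeCompl (Dual.inD A M ⟶ ω⟦i⟧)).symm)⟩

theorem isDualizing_locD (hω : Dual.IsDualizing A ω) : Dual.IsDualizing (Localization.AtPrime p) (locD p ω) := by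
  haveI : Module.Flat A (Localization.AtPrime p) := IsLocalization.flat _ p.primeCompl
  exact KFlatLib.isDualizing_LBase hω fun m hm => ⟨p, by
    rw [IsLocalRing.eq_maximalIdeal hm]
    exact Localization.AtPrime.map_eq_maximalIdeal⟩

/-- The shift of the localization which is normalized. -/
theorem isNormalized_locD_shift (hω : Dual.IsDualizing A ω) {n : PrimeSpectrum A → ℤ}
    (hn : KFlatLib.IsExtDegree ω n) :
    Dual.IsNormalized (Localization.AtPrime p) ((locD p ω)⟦n ⟨p, inferInstance⟩⟧) := by
  obtain ⟨a, b, -, _, _⟩ := KFlatLib.exists_bounds_of_isDualizing hω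
  intro i hi
  obtain ⟨e⟩ := KFlatLib.exists_localExtLEquiv (ω := ω) a p p (n ⟨p, inferInstance⟩ + i)
  haveI : Subsingleton (LocalizedModule p.primeCompl (Dual.inD A (A ⧸ p) ⟶ ω⟦n ⟨p, inferInstance⟩ + i⟧)) :=
    not_nontrivial_iff_subsingleton.1 fun h => hi (by
      have := (hn ⟨p, inferInstance⟩ _).1 h
      omega)
  have h1 := e.subsingleton
  rw [Localization.AtPrime.map_eq_maximalIdeal] at h1
  haveI : Subsingleton (Dual.inD (Localization.AtPrime p) (ResidueField (Localization.AtPrime p)) ⟶
      (locD p ω)⟦n ⟨p, inferInstance⟩ + i⟧) := h1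
  exact (Linear.homCongr (Localization.AtPrime p) (Iso.refl _)
    ((shiftFunctorAdd' (Dual.D (Localization.AtPrime p)) (n ⟨p, inferInstance⟩) i
      (n ⟨p, inferInstance⟩ + i) rfl).app (locD p ω))).toEquiv.symm.subsingleton

end Prime

/-- The range of the localized Ext at a prime of the support: both ends are attained. -/
theorem ext_range_at (hω : Dual.IsDualizing A ω) {n : PrimeSpectrum A → ℤ} (hn : KFlatLib.IsExtDegree ω n)
    (P : PrimeSpectrum A) (M : Type u) [AddCommGroup M] [Module A M] [Module.Finite A M]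
    (hP : P ∈ Module.support A M) (k d : ℕ)
    (hk : LocCoh.depth (Localization.AtPrime P.asIdeal) (LocalizedModule P.asIdeal.primeCompl M) = k)
    (hd : Module.supportDim (Localization.AtPrime P.asIdeal) (LocalizedModule P.asIdeal.primeCompl M) = d) :
    (∀ i : ℤ, Nontrivial (LocalizedModule P.asIdeal.primeCompl (Dual.inD A M ⟶ ω⟦i⟧)) →
      n P - d ≤ i ∧ i ≤ n P - k) ∧
    Nontrivial (LocalizedModule P.asIdeal.primeCompl (Dual.inD A M ⟶ ω⟦n P - d⟧)) ∧
    Nontrivial (LocalizedModule P.asIdeal.primeCompl (Dual.inD A M ⟶ ω⟦n P - k⟧)) := by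
  haveI := KFlatLib.hasLBase (algebraMap A (Localization.AtPrime P.asIdeal))
  obtain ⟨a, b, -, _, _⟩ := KFlatLib.exists_bounds_of_isDualizing hω
  haveI : Nontrivial (LocalizedModule P.asIdeal.primeCompl M) := Module.mem_support_iff.1 hP
  have hN := isNormalized_locD_shift P.asIdeal hω hn
  have hD := KFlatLib.isDualizing_shift (isDualizing_locD P.asIdeal hω) (n P)
  have key : ∀ c : ℤ, Nontrivial (Dual.inD (Localization.AtPrime P.asIdeal) (LocalizedModule P.asIdeal.primeCompl M) ⟶
      ((locD P.asIdeal ω)⟦n P⟧)⟦c⟧) ↔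
      Nontrivial (LocalizedModule P.asIdeal.primeCompl (Dual.inD A M ⟶ ω⟦n P + c⟧)) := fun c => by
    obtain ⟨e⟩ := exists_localHomLEquiv (ω := ω) P.asIdeal a M (n P + c)
    exact ((Linear.homCongr (Localization.AtPrime P.asIdeal) (Iso.refl _)
      ((shiftFunctorAdd' (Dual.D (Localization.AtPrime P.asIdeal)) (n P) c (n P + c) rfl).app
        (locD P.asIdeal ω))).toEquiv.symm.trans e.toEquiv).nontrivial_congr
  obtain ⟨hlow, hnt⟩ := (KFlatLib.depth_eq_iff_ext hD hN _ k).1 hk
  refine ⟨fun i hi => ?_, ?_, ?_⟩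
  · rw [show i = n P + (i - n P) by omega, ← key] at hi
    obtain ⟨h1, h2⟩ := (KFlatLib.ext_amplitude_and_support hD hN _ d hd (i - n P)).1 hi
    refine ⟨by omega, ?_⟩
    by_contra hcon
    obtain ⟨δ, hδ⟩ := Int.eq_ofNat_of_zero_le (show 0 ≤ -(i - n P) by omega)
    rw [show i - n P = -(δ : ℤ) by omega] at hi
    exact not_subsingleton _ (hlow δ (by omega))
  · rw [show n P - (d : ℤ) = n P + -(d : ℤ) by omega, ← key]
    exact KFlatLib.nontrivial_ext_neg_supportDim hD hN _ d hd
  · rw [show n P - (k : ℤ) = n P + -(k : ℤ) by omega, ← key]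
    exact hnt

/-- Depth and dimension of a nonzero localized module are finite. -/
theorem exists_depth_dim (P : PrimeSpectrum A) (M : Type u) [AddCommGroup M] [Module A M] [Module.Finite A M]
    (hP : P ∈ Module.support A M) :
    ∃ k d : ℕ, LocCoh.depth (Localization.AtPrime P.asIdeal) (LocalizedModule P.asIdeal.primeCompl M) = k ∧
      Module.supportDim (Localization.AtPrime P.asIdeal) (LocalizedModule P.asIdeal.primeCompl M) = d := by
  haveI : Nontrivial (LocalizedModule P.asIdeal.primeCompl M) := Module.mem_support_iff.1 hP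
  obtain ⟨k, hk⟩ := KFlatLib.exists_depth_eq (A := Localization.AtPrime P.asIdeal) (LocalizedModule P.asIdeal.primeCompl M)
  have h1 : Module.supportDim (Localization.AtPrime P.asIdeal) (LocalizedModule P.asIdeal.primeCompl M) ≠ ⊥ :=
    Module.supportDim_ne_bot_of_nontrivial _ _
  have h2 : Module.supportDim (Localization.AtPrime P.asIdeal) (LocalizedModule P.asIdeal.primeCompl M) < ⊤ :=
    (Module.supportDim_le_ringKrullDim _ _).trans_lt ringKrullDim_lt_top
  refine ⟨k, ?_⟩
  generalize Module.supportDim (Localization.AtPrime P.asIdeal) (LocalizedModule P.asIdeal.primeCompl M) = x at h1 h2 ⊢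
  induction x with
  | bot => exact absurd rfl h1
  | coe x => induction x with
    | top => exact absurd h2 (lt_irrefl _)
    | coe d => exact ⟨d, hk, rfl⟩

end Groth.Agent.DualityLC
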