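import Groth.Agent.DualityLC.DualModule
import Groth.Agent.LC.CohTorsion
import Mathlib.CategoryTheory.Triangulated.Pretriangulated

/-!
# The duality pairing between the torsion limit and maps into the dualizing complex
-/

set_option autoImplicit false
set_option linter.style.haveILetI false
set_option backward.isDefEq.respectTransparency false

universe u

open CategoryTheory CategoryTheory.Limits Pretriangulated IsLocalRing

attribute [local instance] HasDerivedCategory.standard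

namespace Groth.Agent.DualityLC

variable {A : Type u} [CommRing A] (I : Ideal A) (ω : Dual.D A)

/-- The pairing `z, φ ↦ φ_*(z)`. -/
noncomputable def theta (Y : Dual.D A) : Col I Y →ₗ[A] ((Y ⟶ ω) →ₗ[A] Col I ω) :=
  LinearMap.mk₂ A (fun z φ => colMap I φ z)
    (fun _ _ _ => map_add _ _ _) (fun _ _ _ => map_smul _ _ _)
    (fun z φ φ' => colMap_add I φ φ' z) (fun r z φ => colMap_smul I r φ z)

theorem theta_apply {Y : Dual.D A} (z : Col I Y) (φ : Y ⟶ ω) : theta I ω Y z φ = colMap I φ z := rfl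

/-- The map induced on the targets of the pairing. -/
noncomputable def tgtMap {Y Z : Dual.D A} (g : Y ⟶ Z) :
    ((Y ⟶ ω) →ₗ[A] Col I ω) →ₗ[A] ((Z ⟶ ω) →ₗ[A] Col I ω) :=
  LinearMap.lcomp A _ (Linear.leftComp A ω g)

theorem tgtMap_apply {Y Z : Dual.D A} (g : Y ⟶ Z) (d : (Y ⟶ ω) →ₗ[A] Col I ω) (φ : Z ⟶ ω) :
    tgtMap I ω g d φ = d (g ≫ φ) := rfl

theorem theta_natural {Y Z : Dual.D A} (g : Y ⟶ Z) (z : Col I Y) :
    theta I ω Z (colMap I g z) = tgtMap I ω g (theta I ω Y z) :=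
  LinearMap.ext fun φ => (colMap_comp I g φ z).symm

theorem colMap_eq_zero_of_comp {X Y Z : Dual.D A} {f : X ⟶ Y} {g : Y ⟶ Z} (h : f ≫ g = 0)
    (z : Col I X) : colMap I g (colMap I f z) = 0 := by
  rw [← colMap_comp, h, colMap_zero]

theorem tgtMap_eq_zero_of_comp {X Y Z : Dual.D A} {f : X ⟶ Y} {g : Y ⟶ Z} (h : f ≫ g = 0)
    (d : (X ⟶ ω) →ₗ[A] Col I ω) : tgtMap I ω g (tgtMap I ω f d) = 0 :=
  LinearMap.ext fun φ => by
    rw [tgtMap_apply, tgtMap_apply, ← Category.assoc, h, zero_comp, map_zero]; rfl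

theorem tgt_exact (hD : Module.Baer A (Col I ω)) {T : Triangle (Dual.D A)} (hT : T ∈ distTriang _)
    (d : (T.obj₂ ⟶ ω) →ₗ[A] Col I ω) (hd : tgtMap I ω T.mor₂ d = 0) :
    ∃ c, tgtMap I ω T.mor₁ c = d := by
  let f := Linear.leftComp A ω T.mor₁
  have hker : LinearMap.ker f ≤ LinearMap.ker d := fun φ hφ => by
    obtain ⟨ψ, rfl⟩ := Triangle.yoneda_exact₂ T hT φ hφ
    exact LinearMap.congr_fun hd ψ
  obtain ⟨c, hc⟩ := hD.extension_property ((LinearMap.ker f).liftQ f le_rfl)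
    (LinearMap.ker_eq_bot.1 (Submodule.ker_liftQ_eq_bot _ _ _ le_rfl)) ((LinearMap.ker f).liftQ d hker)
  exact ⟨c, LinearMap.ext fun φ => LinearMap.congr_fun hc (Submodule.Quotient.mk φ)⟩

theorem theta_bijective_of_iso {Y Z : Dual.D A} (e : Y ≅ Z) (h : Function.Bijective (theta I ω Y)) :
    Function.Bijective (theta I ω Z) := by
  refine ⟨fun z z' hz => ?_, fun d => ?_⟩
  · have h1 := theta_natural I ω e.inv
    refine (colEquiv I e).symm.injective (h.1 ?_)
    show theta I ω Y (colMap I e.inv z) = theta I ω Y (colMap I e.inv z')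
    rw [h1, h1, hz]
  · obtain ⟨z, hz⟩ := h.2 (tgtMap I ω e.inv d)
    refine ⟨colMap I e.hom z, LinearMap.ext fun φ => ?_⟩
    rw [theta_natural, hz, tgtMap_apply, tgtMap_apply, Iso.inv_hom_id_assoc]

theorem theta_bijective_of_subsingleton {Y : Dual.D A} (h₁ : Subsingleton (Col I Y))
    (h₂ : Subsingleton (Y ⟶ ω)) : Function.Bijective (theta I ω Y) :=
  ⟨fun _ _ _ => Subsingleton.elim _ _, fun d => ⟨0, LinearMap.ext fun φ => by
    rw [Subsingleton.elim φ 0, map_zero, map_zero]⟩⟩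

theorem theta_injective_mid (hD : Module.Baer A (Col I ω)) {T : Triangle (Dual.D A)} (hT : T ∈ distTriang _)
    (h₁ : Function.Injective (theta I ω T.obj₁)) (h₃ : Function.Injective (theta I ω T.obj₃))
    (h₀ : Function.Surjective (theta I ω T.invRotate.obj₁)) : Function.Injective (theta I ω T.obj₂) := by
  rw [injective_iff_map_eq_zero]
  intro z hz
  obtain ⟨a, rfl⟩ := col_exact I hT z (h₃ (by rw [theta_natural, hz, map_zero, map_zero]))
  rw [theta_natural] at hz
  obtain ⟨c, hc⟩ := tgt_exact I ω hD (inv_rot_of_distTriang _ hT) (theta I ω T.obj₁ a) hz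
  obtain ⟨c', rfl⟩ := h₀ c
  obtain rfl : colMap I T.invRotate.mor₁ c' = a := h₁ ((theta_natural I ω _ c').trans hc)
  exact colMap_eq_zero_of_comp I (comp_distTriang_mor_zero₁₂ _ (inv_rot_of_distTriang _ hT)) c'

theorem theta_surjective_mid (hD : Module.Baer A (Col I ω)) {T : Triangle (Dual.D A)} (hT : T ∈ distTriang _)
    (h₁ : Function.Surjective (theta I ω T.obj₁)) (h₃ : Function.Surjective (theta I ω T.obj₃))
    (h₄ : Function.Injective (theta I ω T.rotate.obj₃)) : Function.Surjective (theta I ω T.obj₂) := by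
  intro d
  obtain ⟨c, hc⟩ := h₃ (tgtMap I ω T.mor₂ d)
  obtain ⟨z, rfl⟩ : ∃ z : Col I T.obj₂, colMap I T.mor₂ z = c := col_exact I (rot_of_distTriang _ hT) c (h₄ (by
    rw [theta_natural, map_zero]
    refine (congrArg (tgtMap I ω T.rotate.mor₂) hc).trans ?_
    exact tgtMap_eq_zero_of_comp I ω (comp_distTriang_mor_zero₂₃ _ hT) d))
  obtain ⟨e, he⟩ := tgt_exact I ω hD hT (d - theta I ω T.obj₂ z) (by
    rw [map_sub, sub_eq_zero, ← hc]
    exact theta_natural I ω T.mor₂ z)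
  obtain ⟨a, rfl⟩ := h₁ e
  refine ⟨z + colMap I T.mor₁ a, ?_⟩
  rw [map_add, theta_natural, he, add_sub_cancel]

/-- The pairing is perfect on all shifts. -/
def GoodAll (Y : Dual.D A) : Prop := ∀ j : ℤ, Function.Bijective (theta I ω (Y⟦j⟧))

theorem GoodAll.of_iso {Y Z : Dual.D A} (e : Y ≅ Z) (h : GoodAll I ω Y) : GoodAll I ω Z := fun j =>
  theta_bijective_of_iso I ω ((shiftFunctor (Dual.D A) j).mapIso e) (h j)

theorem GoodAll.shift {Y : Dual.D A} (h : GoodAll I ω Y) (n : ℤ) : GoodAll I ω (Y⟦n⟧) := fun j =>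
  theta_bijective_of_iso I ω ((shiftFunctorAdd' (Dual.D A) n j (n + j) rfl).app Y) (h (n + j))

theorem GoodAll.self {Y : Dual.D A} (h : GoodAll I ω Y) : Function.Bijective (theta I ω Y) :=
  theta_bijective_of_iso I ω ((shiftFunctorZero (Dual.D A) ℤ).app Y) (h 0)

theorem GoodAll.mid (hD : Module.Baer A (Col I ω)) {T : Triangle (Dual.D A)} (hT : T ∈ distTriang _)
    (h₁ : GoodAll I ω T.obj₁) (h₃ : GoodAll I ω T.obj₃) : GoodAll I ω T.obj₂ := fun j => by
  have hS := Triangle.shift_distinguished T hT j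
  exact ⟨theta_injective_mid I ω hD hS (h₁ j).1 (h₃ j).1 ((h₃.shift I ω j) (-1)).2,
    theta_surjective_mid I ω hD hS (h₁ j).2 (h₃ j).2 ((h₁.shift I ω j) 1).1⟩

end Groth.Agent.DualityLC
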