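import Groth.Agent.DualityLC.Colim
import Groth.Agent.TriCat.DerivedOfAdjunction
import Groth.Agent.TriCat.KInjRes
import Groth.Prelude.Def_DRing3
import Mathlib.Algebra.Homology.HomotopyCategory.HomComplexSingle
import Mathlib.Algebra.Homology.HomotopyCategory.HomComplexCohomology

/-!
# The cohomology of `RΓ_I` is the colimit of maps out of `A/I^n`
-/

set_option autoImplicit false
set_option linter.style.haveILetI false
set_option backward.isDefEq.respectTransparency false

universe u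

open CategoryTheory CategoryTheory.Limits Pretriangulated
open CochainComplex (IsKInjective)
open CochainComplex.HomComplex

attribute [local instance] HasDerivedCategory.standard

namespace Groth.Agent.DualityLC

variable {A : Type u} [CommRing A] (I : Ideal A)

section Unit

theorem qh_isLeftAdjoint' : (DerivedCategory.Qh (C := ModuleCat.{u} A)).IsLeftAdjoint :=
  TriCat.qh_isLeftAdjoint_of_exists_resolution fun M => by
    obtain ⟨J, f, hJ, hf, -, -⟩ := TriCat.exists_kInjective_resolution'.{u} M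
    exact ⟨J, f, hJ, hf⟩

/-- `RΓ_I` is computed by K-injective complexes. -/
theorem exists_rgammaIso [DRing.HasRgammaI I] (J : CochainComplex (ModuleCat.{u} A) ℤ) [J.IsKInjective] :
    Nonempty ((DRing.RgammaI I).obj (DerivedCategory.Q.obj J) ≅
      DerivedCategory.Q.obj (((DRing.gammaI I).mapHomologicalComplex (ComplexShape.up ℤ)).obj J)) := by
  haveI := qh_isLeftAdjoint' (A := A)
  let adj := Adjunction.ofIsLeftAdjoint (DerivedCategory.Qh (C := ModuleCat.{u} A))
  let W := HomotopyCategory.quasiIso (ModuleCat.{u} A) (ComplexShape.up ℤ)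
  let R := (DerivedCategory.Qh (C := ModuleCat.{u} A)).rightAdjoint
  let a : DRing.gammaIKh I ⟶ DerivedCategory.Qh ⋙ R ⋙ DRing.gammaIKh I :=
    Functor.whiskerRight adj.unit (DRing.gammaIKh I)
  haveI : (R ⋙ DRing.gammaIKh I).IsRightDerivedFunctor a W :=
    TriCat.isRightDerivedFunctor_of_adjunction adj W (DRing.gammaIKh I)
  let η := (DRing.gammaIKh I).totalRightDerivedUnit DerivedCategory.Qh W
  let i := Functor.rightDerivedUnique (R ⋙ DRing.gammaIKh I) (DRing.RgammaI I) a η W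
  let X := (HomotopyCategory.quotient (ModuleCat.{u} A) (ComplexShape.up ℤ)).obj J
  haveI := TriCat.isIso_unit_of_isKInjective adj J
  haveI : IsIso (a.app X) := by
    show IsIso ((DRing.gammaIKh I).map (adj.unit.app X))
    infer_instance
  exact ⟨(DRing.RgammaI I).mapIso ((DerivedCategory.quotientCompQhIso (ModuleCat.{u} A)).app J).symm ≪≫
    (i.app (DerivedCategory.Qh.obj X)).symm ≪≫ (asIso (a.app X)).symm ≪≫
    DerivedCategory.Qh.mapIso (((DRing.gammaI I).mapHomotopyCategoryFactors (ComplexShape.up ℤ)).app J) ≪≫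
    (DerivedCategory.quotientCompQhIso (ModuleCat.{u} A)).app _⟩

end Unit

section Classes

variable (J : CochainComplex (ModuleCat.{u} A) ℤ) (q : ℤ)

/-- The map in `D(A)` of a cocycle out of a module. -/
noncomputable def cm {M : ModuleCat.{u} A} (f : M ⟶ J.X q) (hf : f ≫ J.d q (q + 1) = 0) :
    (DerivedCategory.singleFunctor (ModuleCat.{u} A) 0).obj M ⟶ (DerivedCategory.Q.obj J)⟦q⟧ :=
  (DerivedCategory.singleFunctorIsoCompQ (ModuleCat.{u} A) 0).hom.app M ≫
    DerivedCategory.Q.map (Cocycle.equivHomShift.symm (Cocycle.fromSingleMk f (zero_add q) (q + 1) rfl hf)) ≫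
    (DerivedCategory.Q.commShiftIso q).hom.app J

theorem cm_add {M : ModuleCat.{u} A} (f g : M ⟶ J.X q) (hf : f ≫ J.d q (q + 1) = 0) (hg : g ≫ J.d q (q + 1) = 0) :
    cm J q (f + g) (by rw [Preadditive.add_comp, hf, hg, add_zero]) = cm J q f hf + cm J q g hg := by
  unfold cm
  rw [Cocycle.fromSingleMk_add f g (zero_add q) (q + 1) rfl hf hg, map_add, Functor.map_add,
    Preadditive.add_comp, Preadditive.comp_add]

theorem cm_precomp {M M' : ModuleCat.{u} A} (g : M' ⟶ M) (f : M ⟶ J.X q) (hf : f ≫ J.d q (q + 1) = 0) :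
    cm J q (g ≫ f) (by rw [Category.assoc, hf, comp_zero]) =
      (DerivedCategory.singleFunctor (ModuleCat.{u} A) 0).map g ≫ cm J q f hf := by
  unfold cm
  rw [Cocycle.fromSingleMk_precomp g f (zero_add q) (q + 1) rfl hf, Cocycle.equivHomShift_symm_precomp,
    Functor.map_comp, Category.assoc]
  exact ((DerivedCategory.singleFunctorIsoCompQ (ModuleCat.{u} A) 0).hom.naturality_assoc g _).symm

theorem cm_congr {M : ModuleCat.{u} A} {f g : M ⟶ J.X q} (h : f = g) (hf : f ≫ J.d q (q + 1) = 0) :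
    cm J q f hf = cm J q g (h ▸ hf) := by
  subst h; rfl

variable [J.IsKInjective]

theorem cm_eq_zero_iff {M : ModuleCat.{u} A} (f : M ⟶ J.X q) (hf : f ≫ J.d q (q + 1) = 0) :
    cm J q f hf = 0 ↔ ∃ g : M ⟶ J.X (q - 1), g ≫ J.d (q - 1) q = f := by
  unfold cm
  rw [Preadditive.IsIso.comp_left_eq_zero, Preadditive.IsIso.comp_right_eq_zero,
    ← Cocycle.fromSingleMk_mem_coboundaries_iff f (zero_add q) (q + 1) rfl hf (q - 1) (sub_add_cancel q 1),
    ← CohomologyClass.toHom_mk_eq_zero_iff, CohomologyClass.toHom_mk]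
  generalize Cocycle.equivHomShift.symm (Cocycle.fromSingleMk f (zero_add q) (q + 1) rfl hf) = φ
  refine ⟨fun h => (IsKInjective.Qh_map_bijective _ (J⟦q⟧)).injective ?_, fun h => ?_⟩
  · rw [Functor.map_zero, ← cancel_mono ((DerivedCategory.quotientCompQhIso (ModuleCat.{u} A)).hom.app (J⟦q⟧)),
      DerivedCategory.quotientCompQhIso_hom_naturality, h, comp_zero, zero_comp]
  · rw [← cancel_epi ((DerivedCategory.quotientCompQhIso (ModuleCat.{u} A)).hom.app _),
      ← DerivedCategory.quotientCompQhIso_hom_naturality, h, Functor.map_zero, zero_comp, comp_zero]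

theorem cm_surjective {M : ModuleCat.{u} A}
    (φ : (DerivedCategory.singleFunctor (ModuleCat.{u} A) 0).obj M ⟶ (DerivedCategory.Q.obj J)⟦q⟧) :
    ∃ f hf, cm J q f hf = φ := by
  obtain ⟨ψ, hψ⟩ : ∃ ψ : DerivedCategory.Q.obj ((CochainComplex.singleFunctor (ModuleCat.{u} A) 0).obj M) ⟶
      DerivedCategory.Q.obj (J⟦q⟧), φ = (DerivedCategory.singleFunctorIsoCompQ (ModuleCat.{u} A) 0).hom.app M ≫
        ψ ≫ (DerivedCategory.Q.commShiftIso q).hom.app J :=
    ⟨(DerivedCategory.singleFunctorIsoCompQ (ModuleCat.{u} A) 0).inv.app M ≫ φ ≫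
      (DerivedCategory.Q.commShiftIso q).inv.app J, by simp⟩
  obtain ⟨h, hh⟩ := (IsKInjective.Qh_map_bijective _ (J⟦q⟧)).surjective
    ((DerivedCategory.quotientCompQhIso (ModuleCat.{u} A)).hom.app _ ≫ ψ ≫
      (DerivedCategory.quotientCompQhIso (ModuleCat.{u} A)).inv.app _)
  obtain ⟨χ, rfl⟩ := Functor.map_surjective (HomotopyCategory.quotient (ModuleCat.{u} A) (ComplexShape.up ℤ)) h
  obtain ⟨f, hf, hfe⟩ := Cocycle.fromSingleMk_surjective (Cocycle.equivHomShift χ) q (zero_add q) (q + 1) rfl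
  refine ⟨f, hf, ?_⟩
  unfold cm
  rw [hfe, AddEquiv.symm_apply_apply, hψ]
  congr 2
  rw [← cancel_epi ((DerivedCategory.quotientCompQhIso (ModuleCat.{u} A)).hom.app _),
    ← DerivedCategory.quotientCompQhIso_hom_naturality, hh, Category.assoc, Category.assoc, Iso.inv_hom_id_app,
    Category.comp_id]

end Classes

section Compare

variable (J : CochainComplex (ModuleCat.{u} A) ℤ) (q : ℤ)

/-- The torsion cocycles. -/
noncomputable def torCyc : Submodule A (J.X q) := DRing.torsionSub I (J.X q) ⊓ LinearMap.ker (J.d q (q + 1)).hom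

/-- The map `A/I^n → J^q` of an element killed by `I^n`. -/
noncomputable def liftPow {i : ℤ} (x : J.X i) (n : ℕ) (hx : ∀ a ∈ I ^ n, a • x = 0) :
    ModuleCat.of A (A ⧸ I ^ n) ⟶ J.X i :=
  ModuleCat.ofHom ((I ^ n).liftQ (LinearMap.toSpanSingleton A _ x) hx)

theorem liftPow_mk {i : ℤ} (x : J.X i) (n : ℕ) (hx : ∀ a ∈ I ^ n, a • x = 0) (r : A) :
    (liftPow I J x n hx).hom (Ideal.Quotient.mk (I ^ n) r) = r • x := rfl

theorem hom_ext_pow {n : ℕ} {N : ModuleCat.{u} A} {f g : ModuleCat.of A (A ⧸ I ^ n) ⟶ N}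
    (h : f.hom (Ideal.Quotient.mk (I ^ n) 1) = g.hom (Ideal.Quotient.mk (I ^ n) 1)) : f = g := by
  refine ModuleCat.hom_ext (LinearMap.ext fun z => ?_)
  obtain ⟨r, rfl⟩ := Ideal.Quotient.mk_surjective z
  have hr : Ideal.Quotient.mk (I ^ n) r = r • Ideal.Quotient.mk (I ^ n) (1 : A) := by
    show Submodule.Quotient.mk r = r • Submodule.Quotient.mk 1
    rw [← Submodule.Quotient.mk_smul, smul_eq_mul, mul_one]
  rw [hr, map_smul, map_smul, h]

theorem torCyc_liftPow_d (x : torCyc I J q) (n : ℕ) (hx : ∀ a ∈ I ^ n, a • (x : J.X q) = 0) :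
    liftPow I J (x : J.X q) n hx ≫ J.d q (q + 1) = 0 := by
  refine hom_ext_pow I ?_
  show (J.d q (q + 1)).hom ((1 : A) • (x : J.X q)) = 0
  rw [one_smul]
  exact x.2.2

/-- The class of a torsion cocycle at a level. -/
noncomputable def clsAt (x : torCyc I J q) (n : ℕ) (hx : ∀ a ∈ I ^ n, a • (x : J.X q) = 0) :
    qD I n ⟶ (DerivedCategory.Q.obj J)⟦q⟧ :=
  cm J q (liftPow I J (x : J.X q) n hx) (torCyc_liftPow_d I J q x n hx)

theorem qDMap_clsAt (x : torCyc I J q) {n m : ℕ} (h : n ≤ m) (hx : ∀ a ∈ I ^ n, a • (x : J.X q) = 0) :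
    qDMap I h ≫ clsAt I J q x n hx =
      clsAt I J q x m (fun a ha => hx a (Ideal.pow_le_pow_right h ha)) := by
  have hm : ∀ a ∈ I ^ m, a • (x : J.X q) = 0 := fun a ha => hx a (Ideal.pow_le_pow_right h ha)
  have e1 : LC.qMap I h ≫ liftPow I J (x : J.X q) n hx = liftPow I J (x : J.X q) m hm := by
    refine hom_ext_pow I (N := J.X q) ?_
    show (liftPow I J (x : J.X q) n hx).hom ((LC.qMap I h).hom (Ideal.Quotient.mk (I ^ m) 1)) = _
    rw [LC.qMap_mk, liftPow_mk, liftPow_mk]
  unfold clsAt qDMap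
  exact (cm_precomp J q (LC.qMap I h) (liftPow I J (x : J.X q) n hx) (torCyc_liftPow_d I J q x n hx)).symm.trans
    (cm_congr J q e1 _)

/-- The class of a torsion cocycle in the colimit. -/
noncomputable def colCls (x : torCyc I J q) : Col I ((DerivedCategory.Q.obj J)⟦q⟧) :=
  toCol I _ x.2.1.choose (clsAt I J q x x.2.1.choose x.2.1.choose_spec)

theorem colCls_eq (x : torCyc I J q) (n : ℕ) (hx : ∀ a ∈ I ^ n, a • (x : J.X q) = 0) :
    colCls I J q x = toCol I _ n (clsAt I J q x n hx) := by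
  have key : ∀ (k : ℕ) (hk : ∀ a ∈ I ^ k, a • (x : J.X q) = 0),
      toCol I _ k (clsAt I J q x k hk) = toCol I _ n (clsAt I J q x n hx) := fun k hk => by
    rw [← toCol_res I (le_max_left k n), ← toCol_res I (le_max_right k n), qDMap_clsAt, qDMap_clsAt]
  exact key _ _

/-- The comparison map on cocycles. -/
noncomputable def colClsHom : torCyc I J q →ₗ[A] Col I ((DerivedCategory.Q.obj J)⟦q⟧) where
  toFun := colCls I J q
  map_add' x y := by
    obtain ⟨n, hn⟩ := x.2.1
    obtain ⟨m, hm⟩ := y.2.1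
    have hx : ∀ a ∈ I ^ (max n m), a • (x : J.X q) = 0 := fun a ha => hn a (Ideal.pow_le_pow_right (le_max_left n m) ha)
    have hy : ∀ a ∈ I ^ (max n m), a • (y : J.X q) = 0 := fun a ha => hm a (Ideal.pow_le_pow_right (le_max_right n m) ha)
    have hxy : ∀ a ∈ I ^ (max n m), a • ((x + y : torCyc I J q) : J.X q) = 0 := fun a ha => by
      rw [Submodule.coe_add, smul_add, hx a ha, hy a ha, add_zero]
    rw [colCls_eq I J q _ _ hxy, colCls_eq I J q _ _ hx, colCls_eq I J q _ _ hy, ← map_add]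
    congr 1
    refine (cm_congr J q (hom_ext_pow I ?_) _).trans (cm_add J q _ _ _ _)
    show (1 : A) • ((x + y : torCyc I J q) : J.X q) = (1 : A) • (x : J.X q) + (1 : A) • (y : J.X q)
    rw [Submodule.coe_add, smul_add]
  map_smul' r x := by
    obtain ⟨n, hn⟩ := x.2.1
    have hrx : ∀ a ∈ I ^ n, a • ((r • x : torCyc I J q) : J.X q) = 0 := fun a ha => by
      rw [Submodule.coe_smul, smul_comm, hn a ha, smul_zero]
    rw [RingHom.id_apply, colCls_eq I J q _ _ hrx, colCls_eq I J q _ _ hn, ← map_smul]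
    congr 1
    refine (cm_congr J q (g := (r • 𝟙 (ModuleCat.of A (A ⧸ I ^ n))) ≫ liftPow I J (x : J.X q) n hn)
      (hom_ext_pow I ?_) _).trans ?_
    · show (1 : A) • ((r • x : torCyc I J q) : J.X q) =
        (liftPow I J (x : J.X q) n hn).hom (r • Ideal.Quotient.mk (I ^ n) (1 : A))
      rw [map_smul, Submodule.coe_smul, one_smul, liftPow_mk, one_smul]
    · rw [cm_precomp J q _ _ (torCyc_liftPow_d I J q x n hn), Functor.map_smul, CategoryTheory.Functor.map_id,
        Linear.smul_comp, Category.id_comp]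
      rfl

variable [J.IsKInjective]

theorem colClsHom_surjective : Function.Surjective (colClsHom I J q) := fun z => by
  obtain ⟨n, φ, rfl⟩ := exists_toCol I z
  obtain ⟨f, hf, hcf⟩ := cm_surjective J q φ
  let v : J.X q := f.hom (Ideal.Quotient.mk (I ^ n) 1)
  have hv : ∀ a ∈ I ^ n, a • v = 0 := fun a ha => by
    show a • f.hom (Submodule.Quotient.mk (1 : A)) = 0
    rw [← map_smul, ← Submodule.Quotient.mk_smul, smul_eq_mul, mul_one, (Submodule.Quotient.mk_eq_zero _).2 ha,
      map_zero]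
  have hdv : (J.d q (q + 1)).hom v = 0 := ConcreteCategory.congr_hom hf (Ideal.Quotient.mk (I ^ n) 1)
  refine ⟨⟨v, ⟨n, hv⟩, hdv⟩, ?_⟩
  show colCls I J q _ = _
  rw [colCls_eq I J q _ n hv, ← hcf]
  congr 1
  exact cm_congr J q (hom_ext_pow I (one_smul A v)) _

theorem colClsHom_eq_zero_iff (x : torCyc I J q) :
    colClsHom I J q x = 0 ↔ ∃ y ∈ DRing.torsionSub I (J.X (q - 1)), (J.d (q - 1) q).hom y = (x : J.X q) := by
  obtain ⟨n, hn⟩ := x.2.1
  show colCls I J q x = 0 ↔ _
  rw [colCls_eq I J q x n hn, toCol_eq_zero_iff]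
  constructor
  · rintro ⟨m, h, hm⟩
    rw [qDMap_clsAt] at hm
    obtain ⟨g, hg⟩ := (cm_eq_zero_iff J q _ _).1 hm
    refine ⟨g.hom (Ideal.Quotient.mk (I ^ m) 1), ⟨m, fun a ha => ?_⟩, ?_⟩
    · show a • g.hom (Submodule.Quotient.mk (1 : A)) = 0
      rw [← map_smul, ← Submodule.Quotient.mk_smul, smul_eq_mul, mul_one, (Submodule.Quotient.mk_eq_zero _).2 ha,
        map_zero]
    · exact (ConcreteCategory.congr_hom hg (Ideal.Quotient.mk (I ^ m) 1)).trans (one_smul A _)
  · rintro ⟨y, ⟨k, hk⟩, hy⟩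
    refine ⟨max k n, le_max_right k n, ?_⟩
    rw [qDMap_clsAt]
    refine (cm_eq_zero_iff J q _ _).2
      ⟨liftPow I J y (max k n) fun a ha => hk a (Ideal.pow_le_pow_right (le_max_left k n) ha), hom_ext_pow I ?_⟩
    show (J.d (q - 1) q).hom ((1 : A) • y) = (1 : A) • (x : J.X q)
    rw [one_smul, one_smul, hy]

/-- The cohomology of the torsion subcomplex. -/
theorem exists_homologyColEquiv :
    Nonempty ((((DRing.gammaI I).mapHomologicalComplex (ComplexShape.up ℤ)).obj J).homology q ≃ₗ[A]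
      Col I ((DerivedCategory.Q.obj J)⟦q⟧)) := by
  let G := ((DRing.gammaI I).mapHomologicalComplex (ComplexShape.up ℤ)).obj J
  let S := G.sc' (q - 1) q (q + 1)
  let e : LinearMap.ker S.g.hom ≃ₗ[A] torCyc I J q :=
    { toFun := fun z => ⟨(z.1 : DRing.torsionSub I (J.X q)).1,
        (z.1 : DRing.torsionSub I (J.X q)).2, congrArg Subtype.val (LinearMap.mem_ker.1 z.2)⟩
      map_add' := fun z z' => rfl
      map_smul' := fun r z => rfl
      invFun := fun x => ⟨(⟨x.1, x.2.1⟩ : DRing.torsionSub I (J.X q)), Subtype.ext x.2.2⟩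
      left_inv := fun z => rfl
      right_inv := fun x => rfl }
  have hker : LinearMap.range S.moduleCatToCycles = LinearMap.ker (colClsHom I J q ∘ₗ e.toLinearMap) := by
    ext z
    rw [LinearMap.mem_ker, LinearMap.comp_apply, LinearEquiv.coe_coe, colClsHom_eq_zero_iff]
    constructor
    · rintro ⟨y, rfl⟩
      exact ⟨(y : DRing.torsionSub I (J.X (q - 1))).1, (y : DRing.torsionSub I (J.X (q - 1))).2, rfl⟩
    · rintro ⟨y, hy, hyz⟩
      exact ⟨(⟨y, hy⟩ : DRing.torsionSub I (J.X (q - 1))), Subtype.ext (Subtype.ext hyz)⟩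
  have hsurj : Function.Surjective (colClsHom I J q ∘ₗ e.toLinearMap) :=
    (colClsHom_surjective I J q).comp e.surjective
  exact ⟨((G.homologyIsoSc' (q - 1) q (q + 1) (by simp) (by simp)) ≪≫ S.moduleCatHomologyIso).toLinearEquiv.trans
    ((Submodule.quotEquivOfEq _ _ hker).trans (LinearMap.quotKerEquivOfSurjective _ hsurj))⟩

end Compare

/-- Cohomology of `RΓ_I` is the colimit of maps out of `A/I^n`. -/
theorem exists_hdRGammaEquiv [DRing.HasRgammaI I] (K : Dual.D A) (q : ℤ) :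
    Nonempty (Dual.HD A ((DRing.RgammaI I).obj K) q ≃ₗ[A] Dual2.HDI A I K q) := by
  let L := (DerivedCategory.Q (C := ModuleCat.{u} A)).objPreimage K
  let eL : K ≅ DerivedCategory.Q.obj L := (DerivedCategory.Q.objObjPreimageIso K).symm
  obtain ⟨J, f, hJ, hf, -, -⟩ := TriCat.exists_kInjective_resolution'.{u} L
  haveI := hJ
  haveI := hf
  let eK : K ≅ DerivedCategory.Q.obj J := eL ≪≫ asIso (DerivedCategory.Q.map f)
  obtain ⟨eR⟩ := exists_rgammaIso I J
  obtain ⟨eH⟩ := exists_homologyColEquiv I J q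
  exact ⟨(((DerivedCategory.homologyFunctor (ModuleCat.{u} A) q).mapIso ((DRing.RgammaI I).mapIso eK ≪≫ eR)).toLinearEquiv.trans
    ((DerivedCategory.homologyFunctorFactors (ModuleCat.{u} A) q).app _).toLinearEquiv).trans
    (eH.trans (colEquiv I ((shiftFunctor (Dual.D A) q).mapIso eK)).symm)⟩

end Groth.Agent.DualityLC
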