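import Groth.Agent.KFlatLib.Scheme.RHomBounded
import Groth.Agent.KFlatLib.Scheme.CohD
import Groth.Agent.DEqT.RHomExists
import Groth.Agent.QCohAb92.Abelian

/-!
# `RSheafHom` from a complex with coherent cohomology into a bounded complex of injectives
-/

set_option autoImplicit false
set_option linter.style.haveILetI false
set_option backward.isDefEq.respectTransparency false

universe u

open CategoryTheory CategoryTheory.Limits CategoryTheory.Pretriangulated AlgebraicGeometry

attribute [local instance] HasDerivedCategory.standard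

namespace Groth.Agent.DualityLC

open Groth.Agent.KFlatLib

variable {X : Scheme.{u}}

/-- High degree cohomology of `iHom` of complexes bounded below and above vanishes. -/
theorem isZero_homology_iHom_high (C J : CochainComplex X.Modules ℤ) (c b : ℤ) [C.IsStrictlyGE c]
    [J.IsStrictlyLE b] (k : ℤ) (hk : b < k + c) : IsZero (((iHom C).obj J).homology k) := by
  let A := (iHom C).obj J
  have hA : IsZero (A.cycles k) := by
    let g : (HomologicalComplex.single X.Modules (ComplexShape.up ℤ) k).obj (A.cycles k) ⟶ A :=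
      HomologicalComplex.mkHomFromSingle (A.iCycles k) (fun i _ => A.iCycles_d k i)
    have hg : g = 0 := by
      refine ((iHomAdj C).homEquiv _ _).symm.injective
        (HomologicalComplex.hom_ext _ _ fun n => ?_)
      by_cases hn : b < n
      · exact (J.isZero_of_isStrictlyLE b n hn).eq_of_tgt _ _
      · refine HomologicalComplex.mapBifunctor.hom_ext (fun p q h => ?_)
        change p + q = n at h
        refine IsZero.eq_of_src ?_ _ _
        by_cases hp : p = k
        · exact Functor.map_isZero _ (C.isZero_of_isStrictlyGE c q (by omega))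
        · exact Functor.map_isZero ((DCoh.tensorBi (X := X)).flip.obj (C.X q))
            (HomologicalComplex.isZero_single_obj_X _ _ _ _ hp)
    have h := congrArg (fun φ : _ ⟶ A => φ.f k) hg
    simp only [g, HomologicalComplex.mkHomFromSingle_f, HomologicalComplex.zero_f] at h
    rw [IsZero.iff_id_eq_zero, ← cancel_mono (A.iCycles k), Category.id_comp, zero_comp,
      ← cancel_epi (HomologicalComplex.singleObjXSelf (ComplexShape.up ℤ) k (A.cycles k)).hom,
      comp_zero]
    exact h
  exact IsZero.of_epi (A.homologyπ k) hA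

/-- Cohomology of `iHom` into a bounded above complex only sees the low degrees of the source. -/
theorem nonempty_homology_iHom_iso_high {E B : CochainComplex X.Modules ℤ} (φ : E ⟶ B) (m : ℤ)
    (hφ : ∀ k, k < m → IsZero ((CochainComplex.mappingCone φ).homology k))
    (J : CochainComplex X.Modules ℤ) [J.IsKInjective] [∀ n, Injective (J.X n)] (b : ℤ)
    [J.IsStrictlyLE b] (i : ℤ) (hi : b < i + m) :
    Nonempty (((iHom B).obj J).homology i ≅ ((iHom (E⟦(1 : ℤ)⟧)).obj J).homology (i + 1)) := by
  let C := CochainComplex.mappingCone φ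
  haveI : C.IsGE m := by
    rw [CochainComplex.isGE_iff]
    exact fun k hk => (C.exactAt_iff_isZero_homology k).2 (hφ k hk)
  haveI : QuasiIso (C.πTruncGE m) := (C.quasiIso_πTruncGE_iff m).2 inferInstance
  haveI := quasiIso_iHomMap (C.πTruncGE m) J
  have hz : ∀ k, b < k + m → IsZero (((iHom C).obj J).homology k) := fun k hk =>
    (isZero_homology_iHom_high (C.truncGE m) J m b k hk).of_iso
      (asIso (HomologicalComplex.homologyMap ((iHomMap (C.πTruncGE m)).app J) k)).symm
  obtain ⟨hw, hse⟩ := Inner.innerHom_shortExact (DCoh.tensorBi (X := X)) (coneSeq φ)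
    (fun n => ⟨coneSeqSplitting φ n⟩) J
  haveI := hse.isIso_δ i (i + 1) rfl (hz i hi) (hz (i + 1) (by omega))
  exact ⟨asIso (hse.δ i (i + 1) rfl)⟩

/-- `RSheafHom` from a complex with coherent cohomology into a bounded complex of injectives with
quasi-coherent cohomology has quasi-coherent cohomology. -/
theorem isQCohD_RSheafHom_of_injBounded [IsLocallyNoetherian X] (K : CochainComplex X.Modules ℤ)
    (hK : DCoh.IsCohD (DCoh.toD X K)) [DCoh.HasLTensorCx K] [DCoh.HasRSheafHom K]
    (J : CochainComplex X.Modules ℤ) [J.IsKInjective] [∀ n, Injective (J.X n)] (a b : ℤ)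
    [J.IsStrictlyGE a] [J.IsStrictlyLE b] (hJ : DCoh.IsQCohD (DCoh.toD X J)) :
    DCoh.IsQCohD ((DCoh.RSheafHom K).obj (DCoh.toD X J)) := fun i => by
  let m := b - i + 1
  let E := K.truncLE m
  let φ : E ⟶ K := K.ιTruncLE m
  have hcone : ∀ k, k < m → IsZero ((CochainComplex.mappingCone φ).homology k) := fun k hk => by
    have hT := DerivedCategory.mem_distTriang_iff _ |>.2 ⟨_, _, φ, ⟨Iso.refl _⟩⟩
    haveI h1 : ∀ j, j ≤ m → IsIso ((DerivedCategory.homologyFunctor X.Modules j).map (DerivedCategory.Q.map φ)) :=
      fun j hj => by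
        haveI : IsIso (HomologicalComplex.homologyMap φ j) := by
          haveI : QuasiIsoAt φ j := K.quasiIsoAt_ιTruncLE m j hj
          infer_instance
        exact (NatIso.isIso_map_iff (DerivedCategory.homologyFunctorFactors X.Modules j) φ).2 ‹_›
    refine IsZero.of_iso ?_ ((DerivedCategory.homologyFunctorFactors X.Modules k).app _).symm
    refine (DerivedCategory.HomologySequence.exact₃ _ hT k (k + 1) rfl).isZero_of_both_zeros ?_ ?_
    · haveI := h1 k hk.le
      exact (DerivedCategory.HomologySequence.exact₂ _ hT k).epi_f_iff.1 (inferInstanceAs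
        (Epi ((DerivedCategory.homologyFunctor X.Modules k).map (DerivedCategory.Q.map φ))))
    · haveI := h1 (k + 1) (by omega)
      exact (DerivedCategory.HomologySequence.exact₁ _ hT k (k + 1) rfl).mono_g_iff.1 (inferInstanceAs
        (Mono ((DerivedCategory.homologyFunctor X.Modules (k + 1)).map (DerivedCategory.Q.map φ))))
  obtain ⟨e₃⟩ := nonempty_homology_iHom_iso_high φ m hcone J b i (by omega)
  let E' := E⟦(1 : ℤ)⟧
  haveI := hasLTensorCx E'
  haveI := DEqT.hasRSheafHom E'
  haveI : E'.IsStrictlyLE (m - 1) := E.isStrictlyLE_shift m 1 (m - 1) (by omega)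
  haveI : (DCoh.toD X E').IsLE (m - 1) := (DerivedCategory.isLE_Q_obj_iff E' (m - 1)).2 inferInstance
  have hcoh : DCoh.IsCohD (DCoh.toD X E) := fun j => by
    rcases le_or_gt j m with hj | hj
    · haveI : QuasiIsoAt φ j := K.quasiIsoAt_ιTruncLE m j hj
      exact QCohAb92.isCoh_of_iso' ((DerivedCategory.homologyFunctorFactors X.Modules j).app K ≪≫
        (asIso (HomologicalComplex.homologyMap φ j)).symm ≪≫
          ((DerivedCategory.homologyFunctorFactors X.Modules j).app E).symm) (hK j)
    · haveI : (DCoh.toD X E).IsLE m := (DerivedCategory.isLE_Q_obj_iff E m).2 inferInstance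
      exact isCoh_of_isZero (DerivedCategory.isZero_of_isLE _ m j hj)
  have hcoh' : DCoh.IsCohD (DCoh.toD X E') :=
    isCohD_of_iso ((DerivedCategory.Q.commShiftIso (1 : ℤ)).app E).symm (isCohD_shift hcoh 1)
  haveI : (DCoh.toD X J).IsGE a := (DerivedCategory.isGE_Q_obj_iff J a).2 inferInstance
  have hq := isQCohD_RSheafHom_of_pseudoCoherent E' (fun k => (isPseudoCoherentD_iff k _).2
    (locPC_of_coh (fun j => (hcoh' j).1) (fun j _ => hcoh' j) (m - 1)
      fun j hj => DerivedCategory.isZero_of_isLE _ (m - 1) j hj)) (DCoh.toD X J) hJ a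
  obtain ⟨e⟩ := nonempty_RSheafHom_iso K J
  obtain ⟨e'⟩ := nonempty_RSheafHom_iso E' J
  exact isQCoh_of_iso ((DerivedCategory.homologyFunctor X.Modules (i + 1)).mapIso e' ≪≫
    (DerivedCategory.homologyFunctorFactors _ (i + 1)).app _ ≪≫ e₃.symm ≪≫
    ((DerivedCategory.homologyFunctorFactors _ i).app _).symm ≪≫
    (DerivedCategory.homologyFunctor X.Modules i).mapIso e.symm) (hq (i + 1))

end Groth.Agent.DualityLC
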