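import Groth.Agent.DualityLC.RpushAdjoint

/-!
# A right adjoint of `Rf_*` on `D_QCoh` is triangulated
-/

set_option autoImplicit false
set_option linter.style.haveILetI false
set_option backward.isDefEq.respectTransparency false

universe u

open CategoryTheory CategoryTheory.Limits AlgebraicGeometry Pretriangulated

attribute [local instance] HasDerivedCategory.standard

namespace Groth.Agent.DualityLC

variable {X Y : Scheme.{u}} (f : X ⟶ Y) [DCoh.HasRpush f]

/-- A right adjoint of `Rf_*` turns a distinguished triangle into one. -/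
theorem exists_rightAdjoint_triangle (hf : DCoh.RpushPreservesQCoh f) (a : DCoh.DQCoh Y ⥤ DCoh.DQCoh X)
    (adj : DCoh.RpushQ f hf ⊣ a) (K K' : DCoh.DQCoh Y) (η : K ⟶ K') :
    ∃ (Q : DCoh.DQCoh Y) (v : K'.obj ⟶ Q.obj) (w : Q.obj ⟶ K.obj⟦(1 : ℤ)⟧)
      (v' : (a.obj K').obj ⟶ (a.obj Q).obj) (w' : (a.obj Q).obj ⟶ (a.obj K).obj⟦(1 : ℤ)⟧),
      Triangle.mk η.hom v w ∈ distTriang (DCoh.D Y) ∧
      Triangle.mk (a.map η).hom v' w' ∈ distTriang (DCoh.D X) := by
  haveI := isTriangulated_isQCohD X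
  haveI := isTriangulated_isQCohD Y
  haveI := isClosedUnderIso_isQCohD X
  haveI := isClosedUnderIso_isQCohD Y
  haveI := TriCat.qh_isLeftAdjoint_of_exists_resolution (A := X.Modules) KFlatLib.exists_kInjective_res
  let adjQ := Adjunction.ofIsLeftAdjoint (DerivedCategory.Qh (C := X.Modules))
  let ρ := (DerivedCategory.Qh (C := X.Modules)).rightAdjoint
  let W := HomotopyCategory.quasiIso X.Modules (ComplexShape.up ℤ)
  haveI : (ρ ⋙ DCoh.pushKh f).IsRightDerivedFunctor
      (Functor.whiskerRight adjQ.unit (DCoh.pushKh f)) W :=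
    TriCat.isRightDerivedFunctor_of_adjunction adjQ W (DCoh.pushKh f)
  let er : ρ ⋙ DCoh.pushKh f ≅ DCoh.Rpush f :=
    Functor.rightDerivedUnique _ _ (Functor.whiskerRight adjQ.unit (DCoh.pushKh f))
      ((DCoh.pushKh f).totalRightDerivedUnit DerivedCategory.Qh W) W
  letI := adjQ.rightAdjointCommShift ℤ
  haveI := adjQ.commShift_of_leftAdjoint ℤ
  haveI : ρ.IsTriangulated := adjQ.isTriangulated_rightAdjoint
  letI : (DCoh.Rpush f).CommShift ℤ := Functor.CommShift.ofIso er ℤ
  haveI : NatTrans.CommShift er.hom ℤ := Functor.CommShift.ofIso_compatibility er ℤ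
  haveI : (DCoh.Rpush f).IsTriangulated := Functor.isTriangulated_of_iso er
  let F := DCoh.RpushQ f hf
  letI : F.CommShift ℤ := inferInstanceAs ((ObjectProperty.lift DCoh.IsQCohD
    (ObjectProperty.ι DCoh.IsQCohD ⋙ DCoh.Rpush f) (fun K => hf K.obj K.property)).CommShift ℤ)
  haveI : F.IsTriangulated := inferInstanceAs ((ObjectProperty.lift DCoh.IsQCohD
    (ObjectProperty.ι DCoh.IsQCohD ⋙ DCoh.Rpush f) (fun K => hf K.obj K.property)).IsTriangulated)
  letI := adj.rightAdjointCommShift ℤ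
  haveI := adj.commShift_of_leftAdjoint ℤ
  haveI : a.IsTriangulated := adj.isTriangulated_rightAdjoint
  obtain ⟨Q, v, w, hT⟩ := distinguished_cocone_triangle η
  let ιY := ObjectProperty.ι (DCoh.IsQCohD (X := Y))
  let ιX := ObjectProperty.ι (DCoh.IsQCohD (X := X))
  have h1 := ιY.map_distinguished _ hT
  have h2 := (a ⋙ ιX).map_distinguished _ hT
  exact ⟨Q, _, _, _, _, h1, h2⟩

end Groth.Agent.DualityLC
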