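import Groth.Agent.DualityLC.DerModels
import Groth.Agent.H9Misc.BrownGroth
import Groth.Agent.TriCat.BrownCompact
import Groth.Agent.Perf52.CompactScheme
import Groth.Agent.Perf52.GeneratorGlobal
import Groth.Agent.Perf52.HomRange
import Groth.Agent.Perf52.Tower
import Groth.Agent.KFlatLib.Scheme.RpushCoprodQCoh
import Groth.Agent.KFlatLib.Scheme.RpushTriangle
import Mathlib.CategoryTheory.Adjunction.Restrict

/-!
# `Rf_*` on `D_QCoh` has a right adjoint
-/

set_option autoImplicit false
set_option linter.style.haveILetI false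
set_option backward.isDefEq.respectTransparency false

universe u

open CategoryTheory CategoryTheory.Limits AlgebraicGeometry Pretriangulated ZeroObject
open Pretriangulated.Opposite

attribute [local instance] HasDerivedCategory.standard

namespace Groth.Agent.DualityLC

variable (X : Scheme.{u})

/-- A model of `D(O_X)` with small hom sets. -/
@[implicit_reducible]
noncomputable def smallX : HasDerivedCategory.{u} X.Modules :=
  H9Misc.BrownGroth.smallDerived X.Modules fun K => KFlatLib.exists_kInjective_res K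

/-- `D(O_X)` with small hom sets. -/
abbrev DS : Type (u + 1) := @DerivedCategory X.Modules _ _ (smallX X)

/-- From the small model. -/
noncomputable abbrev toStd : DS X ⥤ DCoh.D X := cmpD X.Modules (smallX X) (HasDerivedCategory.standard _)

/-- To the small model. -/
noncomputable abbrev frStd : DCoh.D X ⥤ DS X := cmpD X.Modules (HasDerivedCategory.standard _) (smallX X)

instance isEquivalence_toStd : (toStd X).IsEquivalence := isEquivalence_cmpD _ _ _

instance isEquivalence_frStd : (frStd X).IsEquivalence := isEquivalence_cmpD _ _ _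

instance additive_shift_DS (n : ℤ) : (shiftFunctor (DS X) n).Additive := by
  letI := smallX X
  exact (inferInstanceAs ((shiftFunctor (DerivedCategory X.Modules) n).Additive))

theorem isTriangulated_isQCohD : (DCoh.IsQCohD (X := X)).IsTriangulated where
  exists_zero := ⟨0, Limits.isZero_zero (DCoh.D X), fun i => KFlatLib.isQCoh_of_isZero
    ((DerivedCategory.homologyFunctor X.Modules i).map_isZero (Limits.isZero_zero _))⟩
  isStableUnderShiftBy n := ⟨fun K hK => KFlatLib.isQCohD_shift hK n⟩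
  ext₂' T hT h₁ h₃ := ObjectProperty.le_isoClosure _ _ (KFlatLib.isQCohD_obj₂ hT h₁ h₃)

theorem isClosedUnderIso_isQCohD : (DCoh.IsQCohD (X := X)).IsClosedUnderIsomorphisms :=
  ⟨fun e h => KFlatLib.isQCohD_of_iso e h⟩

attribute [local instance] isTriangulated_isQCohD isClosedUnderIso_isQCohD

/-- Quasi-coherent cohomology, in the small model. -/
noncomputable abbrev qcS : ObjectProperty (DS X) := (DCoh.IsQCohD (X := X)).inverseImage (toStd X)

instance hasColimitsOfShape_DS (J : Type u) : HasColimitsOfShape (Discrete J) (DS X) :=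
  letI := smallX X
  TriCat.hasColimitsOfShape_derivedCategory (J := J) (A := X.Modules)

theorem isClosedUnderColimits_qcS (J : Type u) : (qcS X).IsClosedUnderColimitsOfShape (Discrete J) where
  colimitsOfShape_le := by
    rintro Z ⟨p⟩
    haveI : HasColimitsOfShape (Discrete J) (DCoh.D X) := TriCat.hasColimitsOfShape_derivedCategory
    let c := isColimitOfPreserves (toStd X) p.isColimit
    let e : p.diag ⋙ toStd X ≅ Discrete.functor fun j => (toStd X).obj (p.diag.obj ⟨j⟩) := Discrete.natIsoFunctor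
    exact KFlatLib.isQCohD_of_iso (c.coconePointsIsoOfNatIso (colimit.isColimit _) e).symm
      (KFlatLib.isQCohD_sigma _ fun j => p.prop_diag_obj ⟨j⟩)

attribute [local instance] isClosedUnderColimits_qcS

/-- `D_QCoh(O_X)` with small hom sets. -/
abbrev DQS : Type (u + 1) := (qcS X).FullSubcategory

instance additive_shift_DQS (n : ℤ) : (shiftFunctor (DQS X) n).Additive := inferInstance

instance hasCoproducts_DQS : HasCoproducts.{u} (DQS X) := fun _ => inferInstance

/-- The object of the small model attached to a quasi-coherent object. -/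
noncomputable def liftS (K : DCoh.D X) (hK : DCoh.IsQCohD K) : DQS X :=
  ⟨(frStd X).obj K, KFlatLib.isQCohD_of_iso
    ((Classical.choice (nonempty_cmpD_comp X.Modules (HasDerivedCategory.standard _) (smallX X))).app K).symm hK⟩

/-- Brown representability for `D_QCoh(O_X)`. -/
theorem isRepresentable_DQS [CompactSpace X] [QuasiSeparatedSpace X]
    (H : (DQS X)ᵒᵖ ⥤ AddCommGrpCat.{u}) [H.IsHomological]
    [∀ τ : Type u, PreservesLimitsOfShape (Discrete τ) H] :
    (H ⋙ forget AddCommGrpCat.{u}).IsRepresentable := by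
  classical
  obtain ⟨P, hP, -, hgen⟩ := Perf52.genOn_qcqs (X := X) (T := Set.univ) isClosed_univ (by simp)
  let Φ : DQS X ⥤ DCoh.D X := (qcS X).ι ⋙ toStd X
  let P₀ : DQS X := liftS X P (Perf52.isQCohD_of_isPerfect hP)
  let eP : Φ.obj P₀ ≅ P :=
    (Classical.choice (nonempty_cmpD_comp X.Modules (HasDerivedCategory.standard _) (smallX X))).app P
  refine TriCat.isRepresentable_of_detects (fun n : ULift.{u} ℤ => P₀⟦n.down⟧) ?_ ?_ H
  · intro Z hZ
    by_contra! h
    refine hZ ((IsZero.iff_id_eq_zero Z).2 (Φ.map_injective ?_))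
    rw [CategoryTheory.Functor.map_id, Functor.map_zero]
    refine (IsZero.iff_id_eq_zero _).1 (hgen _ Z.property (fun _ hx => absurd trivial hx) fun n φ => ?_)
    refine Perf52.eq_zero_of_shift' n (fun ψ => ?_) φ
    let e : Φ.obj (P₀⟦-n⟧) ≅ P⟦-n⟧ := (Φ.commShiftIso (-n)).app P₀ ≪≫ (shiftFunctor _ (-n)).mapIso eP
    obtain ⟨g, hg⟩ := Φ.map_surjective (e.hom ≫ ψ)
    rw [← cancel_epi e.hom, ← hg, h ⟨-n⟩ g, Functor.map_zero, comp_zero]
  · intro _ M i α
    haveI := Perf52.hasCountableCoproducts_D (X := X)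
    haveI : ∀ κ : Type u, PreservesColimitsOfShape (Discrete κ) Φ := fun κ => inferInstance
    haveI := TriCat.preservesDiscreteNat_of_preserves Φ
    let e : Φ.obj (P₀⟦i.down⟧) ≅ P⟦i.down⟧ :=
      (Φ.commShiftIso i.down).app P₀ ≪≫ (shiftFunctor _ i.down).mapIso eP
    obtain ⟨s, a, ha⟩ := Perf52.finFactor_nat (Perf52.isPerfect_shift hP i.down) (fun m => Φ.obj (M m))
      (fun m => (M m).property) (e.inv ≫ Φ.map α ≫ inv (sigmaComparison Φ M))
    choose b hb using fun m => Φ.map_surjective (e.hom ≫ a m)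
    refine ⟨fun _ => i, b, ∑ k ∈ s, Sigma.ι (fun _ : ℕ => P₀⟦i.down⟧) k, Φ.map_injective ?_⟩
    have h1 : Φ.map α = e.hom ≫ (∑ k ∈ s, a k ≫ Sigma.ι (fun m => Φ.obj (M m)) k) ≫ sigmaComparison Φ M := by
      rw [← ha]
      simp
    rw [Preadditive.sum_comp, h1, Functor.map_sum, Preadditive.sum_comp, Preadditive.comp_sum]
    refine Finset.sum_congr rfl fun k _ => ?_
    rw [Limits.Sigma.ι_map, Functor.map_comp, hb, Category.assoc, Category.assoc, ι_comp_sigmaComparison]

variable {X}

/-- `Rf_*` on `D_QCoh` has a right adjoint. -/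
theorem isLeftAdjoint_rpush {Y : Scheme.{u}} [CompactSpace X] [QuasiSeparatedSpace X] [CompactSpace Y]
    [QuasiSeparatedSpace Y] (f : X ⟶ Y) [DCoh.HasRpush f]
    (h : ∀ K : DCoh.D X, DCoh.IsQCohD K → DCoh.IsQCohD ((DCoh.Rpush f).obj K)) :
    (ObjectProperty.lift DCoh.IsQCohD (ObjectProperty.ι DCoh.IsQCohD ⋙ DCoh.Rpush f)
      (fun K => h K.obj K.property)).IsLeftAdjoint := by
  haveI : QuasiCompact f := inferInstance
  haveI : QuasiSeparated f := inferInstance
  haveI := TriCat.qh_isLeftAdjoint_of_exists_resolution (A := X.Modules) KFlatLib.exists_kInjective_res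
  let adjQ := Adjunction.ofIsLeftAdjoint (DerivedCategory.Qh (C := X.Modules))
  let ρ := (DerivedCategory.Qh (C := X.Modules)).rightAdjoint
  let W := HomotopyCategory.quasiIso X.Modules (ComplexShape.up ℤ)
  haveI : (ρ ⋙ DCoh.pushKh f).IsRightDerivedFunctor
      (Functor.whiskerRight adjQ.unit (DCoh.pushKh f)) W :=
    TriCat.isRightDerivedFunctor_of_adjunction adjQ W (DCoh.pushKh f)
  let er : ρ ⋙ DCoh.pushKh f ≅ DCoh.Rpush f :=
    Functor.rightDerivedUnique _ _ (Functor.whiskerRight adjQ.unit (DCoh.pushKh f))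
      ((DCoh.pushKh f).totalRightDerivedUnit DerivedCategory.Qh W) W
  letI := adjQ.rightAdjointCommShift ℤ
  haveI := adjQ.commShift_of_leftAdjoint ℤ
  haveI : ρ.IsTriangulated := adjQ.isTriangulated_rightAdjoint
  let Φ : DQS X ⥤ DCoh.D X := (qcS X).ι ⋙ toStd X
  let Rp : DCoh.D X ⥤ DCoh.D Y := ρ ⋙ DCoh.pushKh f
  let G : DQS X ⥤ DS Y := Φ ⋙ Rp ⋙ frStd Y
  haveI : ∀ τ : Type u, PreservesColimitsOfShape (Discrete τ) (Φ ⋙ Rp) := fun τ => by
    haveI : HasColimitsOfShape (Discrete τ) (DCoh.D Y) := TriCat.hasColimitsOfShape_derivedCategory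
    haveI : HasColimitsOfShape (Discrete τ) (DCoh.D X) := TriCat.hasColimitsOfShape_derivedCategory
    haveI : PreservesColimitsOfShape (Discrete τ) Φ := inferInstance
    haveI : PreservesColimitsOfShape (Discrete τ) (Φ ⋙ DCoh.Rpush f) := by
      refine ⟨fun {M} => ?_⟩
      haveI : IsIso (sigmaComparison (DCoh.Rpush f) fun j => Φ.obj (M.obj ⟨j⟩)) :=
        KFlatLib.isIso_sigmaDesc_rpush f _ fun j => (M.obj ⟨j⟩).property
      haveI : PreservesColimit (Discrete.functor ((M ⋙ Φ).obj ∘ Discrete.mk)) (DCoh.Rpush f) :=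
        PreservesCoproduct.of_iso_comparison (DCoh.Rpush f) fun j => Φ.obj (M.obj ⟨j⟩)
      haveI : PreservesColimit (M ⋙ Φ) (DCoh.Rpush f) :=
        preservesColimit_of_iso_diagram _ (Discrete.natIsoFunctor (F := M ⋙ Φ)).symm
      infer_instance
    exact preservesColimitsOfShape_of_natIso (Functor.isoWhiskerLeft Φ er.symm)
  haveI : ∀ τ : Type u, PreservesColimitsOfShape (Discrete τ) G := fun τ =>
    inferInstanceAs (PreservesColimitsOfShape (Discrete τ) ((Φ ⋙ Rp) ⋙ frStd Y))
  haveI : G.IsLeftAdjoint := TriCat.isLeftAdjoint_of_representable G fun H _ _ => isRepresentable_DQS X H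
  let F₀ := ObjectProperty.lift DCoh.IsQCohD (ObjectProperty.ι DCoh.IsQCohD ⋙ DCoh.Rpush f)
    (fun K => h K.obj K.property)
  let eX := Classical.choice (nonempty_cmpD_comp X.Modules (HasDerivedCategory.standard _) (smallX X))
  let e : DCoh.DQCoh X ⥤ DQS X := (qcS X).lift (ObjectProperty.ι _ ⋙ frStd X) fun K =>
    KFlatLib.isQCohD_of_iso (eX.app K.obj).symm K.property
  let c : e ⋙ (qcS X).ι ≅ ObjectProperty.ι _ ⋙ frStd X := Iso.refl _
  haveI : e.Full := Functor.Full.of_comp_faithful_iso c
  haveI : e.Faithful := Functor.Faithful.of_comp_iso c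
  haveI : e.EssSurj := ⟨fun Z => ⟨⟨(toStd X).obj Z.obj, Z.property⟩, ⟨(qcS X).fullyFaithfulι.preimageIso
    ((Classical.choice (nonempty_cmpD_comp X.Modules (smallX X) (HasDerivedCategory.standard _))).app Z.obj)⟩⟩⟩
  haveI : e.IsEquivalence := { }
  let J : DCoh.DQCoh Y ⥤ DS Y := ObjectProperty.ι _ ⋙ frStd Y
  let cm : e ⋙ G ≅ F₀ ⋙ J := NatIso.ofComponents
    (fun K => (frStd Y).mapIso (Rp.mapIso (eX.app K.obj) ≪≫ er.app K.obj)) fun {K L} g => by
    change (frStd Y).map (Rp.map ((toStd X).map ((frStd X).map g.hom))) ≫ (frStd Y).map _ =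
      (frStd Y).map _ ≫ (frStd Y).map ((DCoh.Rpush f).map g.hom)
    rw [← Functor.map_comp, ← Functor.map_comp]
    refine congrArg (frStd Y).map ?_
    simp only [Iso.trans_hom, Functor.mapIso_hom, Iso.app_hom, Category.assoc]
    erw [← Functor.map_comp_assoc, eX.hom.naturality g.hom]
    rw [Functor.map_comp, Category.assoc]
    exact congrArg (_ ≫ ·) (er.hom.naturality g.hom)
  let adj := Adjunction.ofIsLeftAdjoint (e ⋙ G)
  exact (Adjunction.restrictFullyFaithful (iC := 𝟭 (DCoh.DQCoh X)) (iD := J) adj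
    (Functor.FullyFaithful.id _) (Functor.FullyFaithful.ofFullyFaithful J)
    (L := F₀) (R := J ⋙ (e ⋙ G).rightAdjoint)
    ((Functor.leftUnitor _).trans cm) (Functor.rightUnitor _).symm).isLeftAdjoint

end Groth.Agent.DualityLC
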