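import Groth.Agent.Dual349.FinitePush
import Groth.Agent.DEqT.RHomExists
import Groth.Agent.DualityLC.RightAdjCoprod

/-!
# Sheafified duality `Rf_* RHom(P, a K) ≅ RHom(Rf_* P, K)`
-/

set_option autoImplicit false
set_option linter.style.haveILetI false
set_option backward.isDefEq.respectTransparency false

universe u

open CategoryTheory CategoryTheory.Limits AlgebraicGeometry

attribute [local instance] HasDerivedCategory.standard

namespace Groth.Agent.DualityLC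

open KFlatLib

variable {X Y : Scheme.{u}}

/-- `I ⊗^L Lf^* -` is the composition of `Lf^*` and `I ⊗^L -`. -/
theorem nonempty_projH_iso (f : X ⟶ Y) [DCoh.HasLpull f] (I : CochainComplex X.Modules ℤ)
    [DCoh.HasLTensorCx I] :
    Nonempty (projH f I ≅ DCoh.Lpull f ⋙ DCoh.LTensorCx I) := by
  obtain ⟨e₁⟩ := Dual349.nonempty_projF_iso (Y := X) I
  refine ⟨Dual349.natIsoOfKRes ?_ ≪≫ Functor.isoWhiskerLeft (DCoh.Lpull f) e₁⟩
  haveI h₁ : ∀ K, IsIso ((kLiftε (kRespects_pullTensor f I)).app ((kRes Y).obj K)) := fun K =>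
    isIso_kLiftε _ (isKFlat_kRes K)
  haveI h₂ : ∀ K, IsIso ((kLiftε (kRespects_tensor (Y := X) I)).app ((pullCx f).obj ((kRes Y).obj K))) :=
    fun K => isIso_kLiftε _ (isKFlat_pullback f (isKFlat_kRes K))
  haveI h₃ : ∀ K, IsIso ((lpullComparison f).app ((kRes Y).obj K)) := fun K =>
    isIso_lpullComparison f (isKFlat_kRes K)
  refine NatIso.ofComponents (fun K =>
    asIso ((kLiftε (kRespects_pullTensor f I)).app ((kRes Y).obj K)) ≪≫
      (asIso ((kLiftε (kRespects_tensor (Y := X) I)).app ((pullCx f).obj ((kRes Y).obj K)))).symm ≪≫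
      (projF I).mapIso (asIso ((lpullComparison f).app ((kRes Y).obj K))).symm) (fun {K L} g => ?_)
  have n₁ := (kLiftε (kRespects_pullTensor f I)).naturality ((kRes Y).map g)
  have n₂ := (kLiftε (kRespects_tensor (Y := X) I)).naturality ((pullCx f).map ((kRes Y).map g))
  simp only [Iso.trans_hom, Functor.mapIso_hom, Iso.symm_hom, asIso_hom, asIso_inv]
  refine ((Category.assoc _ _ _).symm.trans (congrArg (· ≫ _) n₁)).trans ((Category.assoc _ _ _).trans ?_)
  simp only [Category.assoc]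
  refine congrArg (_ ≫ ·) ?_
  rw [IsIso.eq_inv_comp]
  refine ((Category.assoc _ _ _).symm.trans (congrArg (· ≫ _) n₂.symm)).trans ?_
  refine (Category.assoc _ _ _).trans ?_
  rw [IsIso.hom_inv_id_assoc]
  refine ((projF I).map_comp _ _).symm.trans
    ((congrArg (projF I).map ?_).trans ((projF I).map_comp _ _))
  rw [IsIso.comp_inv_eq, Category.assoc, IsIso.eq_inv_comp]
  exact ((lpullComparison f).naturality ((kRes Y).map g)).symm

/-- Quasi-coherence of cohomology is local on the source of `f`. -/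
theorem isQCohD_projH (f : X ⟶ Y) [QuasiCompact f] [QuasiSeparated f] [DCoh.HasRpush f]
    (I : CochainComplex X.Modules ℤ) [I.IsKInjective] (hI : DCoh.IsQCohD (DerivedCategory.Q.obj I))
    {M : DCoh.D Y} (hM : DCoh.IsQCohD M) : DCoh.IsQCohD ((projH f I).obj M) := by
  let R := (kRes Y).obj ((pushCxF f).obj I)
  let a : R ⟶ (pushCxF f).obj I := (flatCover Y).ψ.app _
  haveI : QuasiIso a := (flatCover Y).quasiIso_ψ _
  let P := DerivedCategory.Q.objPreimage M
  let eP : DerivedCategory.Q.obj P ≅ M := DerivedCategory.Q.objObjPreimageIso M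
  refine isQCohD_of_iso ((projH f I).mapIso eP) fun i => ?_
  refine QCoh.isQCoh_of_isOpenCover (fun U : Y.affineOpens => f ⁻¹ᵁ U.1) ?_ fun U => ?_
  · exact top_le_iff.1 (fun x _ => by
      obtain ⟨_, ⟨V, hV, rfl⟩, hxV, -⟩ :=
        Y.isBasis_affineOpens.exists_subset_of_mem_open (Set.mem_univ (f.base x)) isOpen_univ
      exact TopologicalSpace.Opens.mem_iSup.2 ⟨⟨V, hV⟩, hxV⟩)
  have h := (projClass_of_isAffineOpen f I a U.1 U.2 (isKFlat_kRes _) hI P (isQCohD_of_iso eP.symm hM)).2 0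
  exact KFlatLib.isQCoh_of_iso ((mapDCHomologyIso (Scheme.Modules.restrictFunctor (kIm f U.1)) i).app _)
    (isQCohD_of_iso ((DCoh.restrictD (kIm f U.1)).mapIso
      ((projH f I).mapIso ((shiftFunctorZero (DCoh.D Y) ℤ).app _))) h i)

/-- A pair `(R, Θ)`: tensoring with a representative of `Rf_* P` is `Rf_* (P ⊗^L Lf^* -)`. -/
theorem nonempty_ltensor_rpush_iso (f : X ⟶ Y) [QuasiCompact f] [QuasiSeparated f] [DCoh.HasRpush f]
    [DCoh.HasLpull f] (P : CochainComplex X.Modules ℤ) [DCoh.HasLTensorCx P]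
    (hP : DCoh.IsQCohD (DCoh.toD X P)) (R : CochainComplex Y.Modules ℤ) [DCoh.HasLTensorCx R]
    (hR : Nonempty (DCoh.toD Y R ≅ (DCoh.Rpush f).obj (DCoh.toD X P))) :
    Nonempty (ObjectProperty.ι (DCoh.IsQCohD (X := Y)) ⋙ DCoh.Lpull f ⋙ DCoh.LTensorCx P ⋙ DCoh.Rpush f ≅
      ObjectProperty.ι (DCoh.IsQCohD (X := Y)) ⋙ DCoh.LTensorCx R) ∧
    (∀ M : DCoh.DQCoh Y, DCoh.IsQCohD ((DCoh.LTensorCx P).obj ((DCoh.Lpull f).obj M.obj))) := by
  obtain ⟨eR⟩ := hR
  obtain ⟨I, _, _, ⟨eI⟩⟩ := exists_kInjective_rep (DCoh.toD X P)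
  haveI := hasLTensorCx I
  have hIq : DCoh.IsQCohD (DerivedCategory.Q.obj I) := isQCohD_of_iso eI hP
  let R₀ := (kRes Y).obj ((pushCxF f).obj I)
  haveI := hasLTensorCx R₀
  let a : R₀ ⟶ (pushCxF f).obj I := (flatCover Y).ψ.app _
  haveI : QuasiIso a := (flatCover Y).quasiIso_ψ _
  haveI := isIso_Q_map a inferInstance
  obtain ⟨eJ⟩ := nonempty_rpush_iso_of_kInjective (f := f) (I := I) (Iso.refl _)
  let e₀ : DerivedCategory.Q.obj R₀ ≅ DerivedCategory.Q.obj R :=
    asIso (DerivedCategory.Q.map a) ≪≫ eJ.symm ≪≫ (DCoh.Rpush f).mapIso eI.symm ≪≫ eR.symm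
  obtain ⟨cR⟩ := nonempty_LTensorCx_congr_D e₀
  obtain ⟨cP⟩ := nonempty_LTensorCx_congr_D (P := I) (E := P) eI.symm
  obtain ⟨e₁⟩ := Dual349.nonempty_projF_iso R₀
  obtain ⟨e₃⟩ := nonempty_projH_iso f I
  let eH : projH f I ≅ DCoh.Lpull f ⋙ DCoh.LTensorCx P :=
    e₃ ≪≫ Functor.isoWhiskerLeft (DCoh.Lpull f) cP
  haveI : ∀ K : DCoh.DQCoh Y, IsIso ((projθ f I a).app K.obj) := fun K => by
    let Q' := DerivedCategory.Q.objPreimage K.obj
    let eQ : DerivedCategory.Q.obj Q' ≅ K.obj := DerivedCategory.Q.objObjPreimageIso _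
    haveI := isIso_projθ f I a (isKFlat_kRes _) hIq Q' (isQCohD_of_iso eQ.symm K.property)
    exact (NatTrans.isIso_app_iff_of_iso _ eQ).1 inferInstance
  haveI : IsIso (Functor.whiskerLeft (ObjectProperty.ι (DCoh.IsQCohD (X := Y))) (projθ f I a)) := by
    haveI : ∀ K, IsIso ((Functor.whiskerLeft (ObjectProperty.ι (DCoh.IsQCohD (X := Y))) (projθ f I a)).app K) :=
      fun K => inferInstanceAs (IsIso ((projθ f I a).app K.obj))
    exact NatIso.isIso_of_isIso_app _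
  refine ⟨⟨Functor.isoWhiskerLeft _ ((Functor.associator _ _ _).symm ≪≫
      Functor.isoWhiskerRight eH.symm (DCoh.Rpush f)) ≪≫
    (asIso (Functor.whiskerLeft (ObjectProperty.ι (DCoh.IsQCohD (X := Y))) (projθ f I a))).symm ≪≫
      Functor.isoWhiskerLeft _ (e₁ ≪≫ cR)⟩, fun M => ?_⟩
  exact isQCohD_of_iso (eH.app M.obj) (isQCohD_projH f I hIq M.property)

/-- `Rf_* RHom(P, a K) ≅ RHom(Rf_* P, K)`. -/
theorem nonempty_rpush_RSheafHom_iso (f : X ⟶ Y) [QuasiCompact f] [QuasiSeparated f] [DCoh.HasRpush f]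
    (hf : DCoh.RpushPreservesQCoh f) (a : DCoh.DQCoh Y ⥤ DCoh.DQCoh X) (adj : DCoh.RpushQ f hf ⊣ a)
    (P : CochainComplex X.Modules ℤ) [DCoh.HasLTensorCx P] [DCoh.HasRSheafHom P]
    (hP : DCoh.IsQCohD (DCoh.toD X P)) (R : CochainComplex Y.Modules ℤ) [DCoh.HasLTensorCx R]
    [DCoh.HasRSheafHom R] (hR : Nonempty (DCoh.toD Y R ≅ (DCoh.Rpush f).obj (DCoh.toD X P)))
    (K : DCoh.DQCoh Y) (h1 : DCoh.IsQCohD ((DCoh.RSheafHom P).obj (a.obj K).obj))
    (h2 : DCoh.IsQCohD ((DCoh.RSheafHom R).obj K.obj)) :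
    Nonempty ((DCoh.Rpush f).obj ((DCoh.RSheafHom P).obj (a.obj K).obj) ≅
      (DCoh.RSheafHom R).obj K.obj) := by
  haveI := hasLpull f
  obtain ⟨la⟩ := nonempty_lpull_rpush_adj f
  obtain ⟨⟨θ⟩, hq⟩ := nonempty_ltensor_rpush_iso f P hP R hR
  let hff := ObjectProperty.fullyFaithfulι (DCoh.IsQCohD (X := Y))
  let hffX := ObjectProperty.fullyFaithfulι (DCoh.IsQCohD (X := X))
  let T : DCoh.DQCoh Y ⥤ DCoh.DQCoh X := ObjectProperty.lift _
    (ObjectProperty.ι (DCoh.IsQCohD (X := Y)) ⋙ DCoh.Lpull f ⋙ DCoh.LTensorCx P) hq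
  let A : DCoh.DQCoh Y := ⟨(DCoh.Rpush f).obj ((DCoh.RSheafHom P).obj (a.obj K).obj), hf _ h1⟩
  let B : DCoh.DQCoh Y := ⟨(DCoh.RSheafHom R).obj K.obj, h2⟩
  let eq : ∀ (M : DCoh.DQCoh Y), (M ⟶ A) ≃ (M ⟶ B) := fun M =>
    hff.homEquiv.trans <| (la.homEquiv M.obj ((DCoh.RSheafHom P).obj (a.obj K).obj)).symm.trans <|
      ((DCoh.RSheafHomAdj P).homEquiv _ _).symm.trans <|
      (hffX.homEquiv (X := T.obj M) (Y := a.obj K)).symm.trans <|
        (adj.homEquiv _ _).symm.trans <| hff.homEquiv.trans <| (θ.app M).homFromEquiv.trans <|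
          ((DCoh.RSheafHomAdj R).homEquiv M.obj K.obj).trans (hff.homEquiv (Y := B)).symm
  have hM : ∀ {M M' : DCoh.DQCoh Y} (v : M' ⟶ M) (z), eq M' (v ≫ z) = v ≫ eq M z := by
    intro M M' v z
    apply ObjectProperty.hom_ext
    simp only [eq, Equiv.trans_apply]
    have h1 : (adj.homEquiv (T.obj M') K).symm (ObjectProperty.homMk
        (((DCoh.RSheafHomAdj P).homEquiv _ _).symm
          ((la.homEquiv M'.obj ((DCoh.RSheafHom P).obj (a.obj K).obj)).symm (v ≫ z).hom))) =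
        (DCoh.RpushQ f hf).map (T.map v) ≫ (adj.homEquiv _ K).symm (ObjectProperty.homMk
          (((DCoh.RSheafHomAdj P).homEquiv _ _).symm
            ((la.homEquiv M.obj ((DCoh.RSheafHom P).obj (a.obj K).obj)).symm z.hom))) := by
      rw [← adj.homEquiv_naturality_left_symm]
      congr 1
      ext1
      exact (congrArg _ (la.homEquiv_naturality_left_symm v.hom z.hom)).trans
        ((DCoh.RSheafHomAdj P).homEquiv_naturality_left_symm _ _)
    change (DCoh.RSheafHomAdj R).homEquiv M'.obj K.obj ((θ.app M').inv ≫ ((adj.homEquiv (T.obj M') K).symm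
      (ObjectProperty.homMk (((DCoh.RSheafHomAdj P).homEquiv _ _).symm
          ((la.homEquiv M'.obj ((DCoh.RSheafHom P).obj (a.obj K).obj)).symm (v ≫ z).hom)))).hom) = v.hom ≫
      (DCoh.RSheafHomAdj R).homEquiv M.obj K.obj ((θ.app M).inv ≫ ((adj.homEquiv (T.obj M) K).symm
      (ObjectProperty.homMk (((DCoh.RSheafHomAdj P).homEquiv _ _).symm
          ((la.homEquiv M.obj ((DCoh.RSheafHom P).obj (a.obj K).obj)).symm z.hom)))).hom)
    rw [h1, ← (DCoh.RSheafHomAdj R).homEquiv_naturality_left]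
    refine congrArg _ ?_
    exact ((Category.assoc _ _ _).symm.trans (congrArg (· ≫ _) (θ.inv.naturality v).symm)).trans (Category.assoc _ _ _)
  exact ⟨(ObjectProperty.ι _).mapIso (Yoneda.fullyFaithful.preimageIso (X := A) (Y := B)
    (NatIso.ofComponents (fun M => (eq M.unop).toIso) (fun {M M'} v => by ext z; exact hM v.unop z)))⟩

end Groth.Agent.DualityLC
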