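import Groth.Agent.DualityLC.SheafDuality
import Groth.Agent.DualityLC.FlatProperPerfect
import Groth.Agent.KFlatLib.Scheme.RightAdjBound
import Groth.Agent.DEqT.RHomExists
import Groth.Agent.S1116

/-!
# Sheafified duality for proper morphisms of Noetherian schemes
-/

set_option autoImplicit false
set_option linter.style.haveILetI false
set_option backward.isDefEq.respectTransparency false

universe u

open CategoryTheory CategoryTheory.Limits AlgebraicGeometry

attribute [local instance] HasDerivedCategory.standard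

namespace Groth.Agent.DualityLC

open KFlatLib

/-- Bounded above with coherent cohomology is pseudo-coherent. -/
theorem isPseudoCoherentD_of_coh {X : Scheme.{u}} [IsLocallyNoetherian X] {E : DCoh.D X}
    (h : DCoh.IsCohD E) (b : ℤ) [E.IsLE b] (m : ℤ) : DCoh.IsPseudoCoherentD m E :=
  (isPseudoCoherentD_iff _ _).2 (locPC_of_coh (isCohD_isQCohD h) (fun i _ => h i) b
    ((DerivedCategory.isLE_iff _ b).1 inferInstance))

/-- `O[0] ⊗ - = id`. -/
theorem nonempty_ltensor_singleO {X : Scheme.{u}}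
    [DCoh.HasLTensorCx ((HomologicalComplex.single X.Modules (ComplexShape.up ℤ) 0).obj (Coh.structureModule X))] :
    Nonempty (DCoh.LTensorCx ((HomologicalComplex.single X.Modules (ComplexShape.up ℤ) 0).obj
      (Coh.structureModule X)) ≅ 𝟭 (DCoh.D X)) := by
  let S := (HomologicalComplex.single X.Modules (ComplexShape.up ℤ) 0).obj (Coh.structureModule X)
  let c := (DCoh.tensorCxQ S).totalLeftDerivedCounit DerivedCategory.Q (qisX X)
  haveI : ∀ C, IsIso ((Functor.whiskerLeft (kRes X) c).app C) := fun C =>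
    isIso_LTensorCx_counit S (isKFlat_kRes C)
  haveI := NatIso.isIso_of_isIso_app (Functor.whiskerLeft (kRes X) c)
  let eT : DCoh.tensorCx.flip.obj S ≅ 𝟭 _ :=
    singleIso (DCoh.tensorBi (X := X)) (Coh.structureModule X) ≪≫
      NatIso.mapHomologicalComplex (tensorStructureIso X) (ComplexShape.up ℤ) ≪≫
      Functor.mapHomologicalComplexIdIso _ _
  let A : DerivedCategory.Q ⋙ DCoh.LTensorCx S ≅ DerivedCategory.Q ⋙ 𝟭 (DCoh.D X) :=
    Functor.isoWhiskerRight (resQIso X).symm (DCoh.LTensorCx S) ≪≫ Functor.associator _ _ _ ≪≫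
      asIso (Functor.whiskerLeft (kRes X) c) ≪≫
      Functor.isoWhiskerLeft (kRes X) (Functor.isoWhiskerRight eT DerivedCategory.Q ≪≫
        Functor.leftUnitor _) ≪≫ resQIso X ≪≫ (Functor.rightUnitor _).symm
  exact ⟨Localization.liftNatIso DerivedCategory.Q (qisX X) _ _ _ _ A⟩

/-- A representative of the structure sheaf has trivial `RHom`. -/
theorem nonempty_RSheafHom_unit {X : Scheme.{u}} (S : CochainComplex X.Modules ℤ) [DCoh.HasLTensorCx S]
    [DCoh.HasRSheafHom S] (hS : Nonempty (DCoh.toD X S ≅ DCoh.inD X (Coh.structureModule X))) :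
    Nonempty (DCoh.RSheafHom S ≅ 𝟭 (DCoh.D X)) := by
  obtain ⟨e⟩ := hS
  let S₀ := (HomologicalComplex.single X.Modules (ComplexShape.up ℤ) 0).obj (Coh.structureModule X)
  haveI := hasLTensorCx S₀
  obtain ⟨e₀⟩ := nonempty_ltensor_singleO (X := X)
  obtain ⟨c⟩ := nonempty_LTensorCx_congr_D (P := S) (E := S₀)
    (e ≪≫ (DerivedCategory.singleFunctorIsoCompQ X.Modules 0).app _)
  exact ⟨((DCoh.RSheafHomAdj S).ofNatIsoLeft (c ≪≫ e₀)).rightAdjointUniq Adjunction.id⟩

variable {X Y : Scheme.{u}} [IsNoetherian Y] (f : X ⟶ Y) [IsProper f] [DCoh.HasRpush f]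

/-- The source of a proper morphism to a Noetherian scheme is Noetherian. -/
theorem isNoetherian_of_proper {X Y : Scheme.{u}} [IsNoetherian Y] (f : X ⟶ Y) [IsProper f] : IsNoetherian X := by
  haveI : IsLocallyNoetherian X := LocallyOfFiniteType.isLocallyNoetherian f
  haveI : CompactSpace X := QuasiCompact.compactSpace_of_compactSpace f
  exact {}

/-- `Rf_*` preserves boundedness with coherent cohomology. -/
theorem bddCoh_rpush {E : DCoh.D X} (hc : DCoh.IsCohD E) (a b : ℤ) [E.IsGE a] [E.IsLE b] :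
    DCoh.IsCohD ((DCoh.Rpush f).obj E) ∧ ∃ N : ℤ, ((DCoh.Rpush f).obj E).IsLE N := by
  have hq : ∀ i, Perf52.IsCohProper f (DCoh.HD E i) := fun i => by
    refine ⟨hc i, ?_⟩
    have hu : ClSub.IsProperOver f (Set.univ : Set X) := by
      simpa using (QCoh.isProperOver_iff (f := f) (𝟙 X)).2 (by rw [Category.id_comp]; infer_instance)
    exact QCoh.IsProperOver.subset (p := f) hu (QCoh.isClosed_support_of_isFT (hc i).1 (hc i).2)
      (Set.subset_univ _)
  refine ⟨Perf52.isCohD_rpush_cohProper f E a hq, ?_⟩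
  exact (Perf52.rpush_cohProper_bounded f (b - a).toNat a E inferInstance
    (DerivedCategory.TStructure.t.isLE_of_le E b _ (by omega)) hq).2

variable (hf : DCoh.RpushPreservesQCoh f) (a : DCoh.DQCoh Y ⥤ DCoh.DQCoh X)
  (adj : DCoh.RpushQ f hf ⊣ a)

include adj in
/-- The right adjoint preserves bounded below objects. -/
theorem exists_isGE_rightAdjoint (K : DCoh.DQCoh Y) (c : ℤ) [hc : DerivedCategory.IsGE K.obj c] :
    ∃ c' : ℤ, DerivedCategory.IsGE (a.obj K).obj c' := by
  haveI := isNoetherian_of_proper f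
  obtain ⟨N, hN⟩ := exists_rightAdjoint_bound f hf a adj
  exact ⟨c - N, (DerivedCategory.isGE_iff _ _).2 fun i hi => hN K (c - 1)
    (fun j hj => DerivedCategory.isZero_of_isGE K.obj c j (by omega)) i (by omega)⟩

include adj in
/-- `Rf_* RHom(P, a K) ≅ RHom(Rf_* P, K)` for bounded coherent `P` and bounded below `K`. -/
theorem nonempty_rpush_RSheafHom_iso_of_bddCoh (P : CochainComplex X.Modules ℤ) [DCoh.HasLTensorCx P]
    [DCoh.HasRSheafHom P] (hP : DCoh.IsCohD (DCoh.toD X P)) (p q : ℤ) [(DCoh.toD X P).IsGE p]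
    [(DCoh.toD X P).IsLE q] (R : CochainComplex Y.Modules ℤ) [DCoh.HasLTensorCx R] [DCoh.HasRSheafHom R]
    (hR : Nonempty (DCoh.toD Y R ≅ (DCoh.Rpush f).obj (DCoh.toD X P)))
    (K : DCoh.DQCoh Y) (c : ℤ) [DerivedCategory.IsGE K.obj c] :
    Nonempty ((DCoh.Rpush f).obj ((DCoh.RSheafHom P).obj (a.obj K).obj) ≅
      (DCoh.RSheafHom R).obj K.obj) := by
  haveI := isNoetherian_of_proper f
  obtain ⟨c', hc'⟩ := exists_isGE_rightAdjoint f hf a adj K c
  haveI := hc'
  obtain ⟨hRc, N, hN⟩ := bddCoh_rpush f hP p q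
  obtain ⟨eR⟩ := hR
  haveI := hN
  haveI : (DCoh.toD Y R).IsLE N := DerivedCategory.TStructure.t.isLE_of_iso eR.symm N
  exact nonempty_rpush_RSheafHom_iso f hf a adj P (isCohD_isQCohD hP) R ⟨eR⟩ K
    (isQCohD_RSheafHom_of_pseudoCoherent P (isPseudoCoherentD_of_coh hP q) _ (a.obj K).property c')
    (isQCohD_RSheafHom_of_pseudoCoherent R (isPseudoCoherentD_of_coh (isCohD_of_iso eR.symm hRc) N) _
      K.property c)

include adj in
/-- `Rf_* (a K) ≅ RHom(Rf_* O, K)`. -/
theorem nonempty_rpush_rightAdjoint_iso (R : CochainComplex Y.Modules ℤ) [DCoh.HasLTensorCx R]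
    [DCoh.HasRSheafHom R]
    (hR : Nonempty (DCoh.toD Y R ≅ (DCoh.Rpush f).obj (DCoh.inD X (Coh.structureModule X))))
    (K : DCoh.DQCoh Y) (c : ℤ) [DerivedCategory.IsGE K.obj c] :
    Nonempty ((DCoh.Rpush f).obj (a.obj K).obj ≅ (DCoh.RSheafHom R).obj K.obj) := by
  haveI := isNoetherian_of_proper f
  let P := DerivedCategory.Q.objPreimage (DCoh.inD X (Coh.structureModule X))
  let eP : DCoh.toD X P ≅ DCoh.inD X (Coh.structureModule X) := DerivedCategory.Q.objObjPreimageIso _
  haveI := hasLTensorCx P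
  haveI := DEqT.hasRSheafHom P
  haveI : (DCoh.toD X P).IsGE 0 := DerivedCategory.TStructure.t.isGE_of_iso eP.symm 0
  haveI : (DCoh.toD X P).IsLE 0 := DerivedCategory.TStructure.t.isLE_of_iso eP.symm 0
  obtain ⟨eR⟩ := hR
  obtain ⟨e⟩ := nonempty_rpush_RSheafHom_iso_of_bddCoh f hf a adj P
    (isCohD_of_iso eP.symm (Dual349.isCohD_inD QCoh.isCoh_structureModule')) 0 0 R
    ⟨eR ≪≫ (DCoh.Rpush f).mapIso eP.symm⟩ K c
  obtain ⟨u⟩ := nonempty_RSheafHom_unit P ⟨eP⟩
  exact ⟨(DCoh.Rpush f).mapIso (u.app (a.obj K).obj).symm ≪≫ e⟩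

include adj in
/-- `Rf_* (a K)` is coherent for coherent bounded below `K`. -/
theorem isCohD_rpush_rightAdjoint (K : DCoh.DQCoh Y) (c : ℤ) [DerivedCategory.IsGE K.obj c]
    (hK : DCoh.IsCohD K.obj) : DCoh.IsCohD ((DCoh.Rpush f).obj (a.obj K).obj) := by
  haveI := isNoetherian_of_proper f
  obtain ⟨hc, N, hN⟩ := bddCoh_rpush f (Dual349.isCohD_inD (QCoh.isCoh_structureModule' (X := X))) 0 0
  let R := DerivedCategory.Q.objPreimage ((DCoh.Rpush f).obj (DCoh.inD X (Coh.structureModule X)))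
  let eR : DCoh.toD Y R ≅ (DCoh.Rpush f).obj (DCoh.inD X (Coh.structureModule X)) :=
    DerivedCategory.Q.objObjPreimageIso _
  haveI := hasLTensorCx R
  haveI := DEqT.hasRSheafHom R
  haveI := hN
  haveI : (DCoh.toD Y R).IsLE N := DerivedCategory.TStructure.t.isLE_of_iso eR.symm N
  obtain ⟨e⟩ := nonempty_rpush_rightAdjoint_iso f hf a adj R ⟨eR⟩ K c
  exact isCohD_of_iso e.symm (S1116.result Y R N (isCohD_of_iso eR.symm hc) K.obj c hK).1

end Groth.Agent.DualityLC
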