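import Groth.Agent.DualityLC.TildeTensor
import Groth.Agent.DualityLC.RHomFiniteInj
import Groth.Agent.DualityLC.HomCxAdj
import Groth.Agent.KFlatLib.Scheme.ProjFormula
import Groth.Agent.Perf52.InjQC
import Groth.Agent.S1039

/-!
# Affine duality: `RSheafHom(K^~, L^~) ≅ RHom(K, L)^~`
-/

set_option autoImplicit false
set_option linter.style.haveILetI false
set_option backward.isDefEq.respectTransparency false
set_option backward.isDefEq.respectTransparency.types false
set_option maxHeartbeats 1000000

universe u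

open CategoryTheory CategoryTheory.Limits AlgebraicGeometry MonoidalCategory

attribute [local instance] HasDerivedCategory.standard
attribute [local instance] Groth.Agent.DualityLC.additive_tilde_functor

namespace Groth.Agent.DualityLC

open Groth.Agent.KFlatLib

variable {R : CommRingCat.{u}}

/-- The evaluation `(Hom(P, I))^~ ⊗ P^~ ⟶ I^~`. -/
noncomputable def tildeEv (P I : DRing.Cx R) :
    (DCoh.tensorCx.obj ((tildeCx R).obj (DRing.homCx P I))).obj
        ((tildeCx R).obj P) ⟶ (tildeCx R).obj I :=
  (tildeTensorCxIso (DRing.homCx P I) P).hom ≫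
    (tildeCx R).map ((tenHomAdj P).counit.app I)

lemma tildeEv_naturality (P I : DRing.Cx R) {N : DRing.Cx R} (g : N ⟶ DRing.homCx P I) :
    (DCoh.tensorCx.map ((tildeCx R).map g)).app ((tildeCx R).obj P) ≫
        tildeEv P I =
      (tildeTensorCxIso N P).hom ≫
        (tildeCx R).map (((tenHomAdj P).homEquiv N I).symm g) := by
  rw [tildeEv, ← Category.assoc, tildeTensorCxIso_naturality, Category.assoc,
    Adjunction.homEquiv_counit, Functor.map_comp]
  rfl

/-- A bounded complex of injective modules gives a bounded complex of injective sheaves. -/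
lemma injective_tildeCx_X [IsNoetherianRing R] (I : DRing.Cx R) (hI : DRing.TermwiseInjective I) (n : ℤ) :
    Injective (((tildeCx R).obj I).X n) := by
  haveI := hI n
  haveI : Injective (I.X n) := Module.injective_object_of_injective_module R (I.X n)
  exact Perf52.injective_tilde (A := R) (I.X n)

/-- Homotopies of maps into the Hom complex are detected after transposing. -/
lemma nonempty_homotopy_homEquiv (P I : DRing.Cx R) [∀ n, Injective (I.X n)] {N : DRing.Cx R}
    (g g' : N ⟶ DRing.homCx P I)
    (h : Homotopy (((tenHomAdj P).homEquiv N I).symm g) (((tenHomAdj P).homEquiv N I).symm g')) :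
    Nonempty (Homotopy g g') := by
  let e := (innerHomIso P).app I
  have key : ∀ k : N ⟶ DRing.homCx P I,
      ((innerAdj P).homEquiv N I).symm (k ≫ e.inv) = ((tenHomAdj P).homEquiv N I).symm k := fun k => by
    rw [Adjunction.homEquiv_counit, Adjunction.homEquiv_counit, Functor.map_comp, Category.assoc]
    refine congrArg (_ ≫ ·) ?_
    exact Adjunction.rightAdjointUniq_hom_app_counit (tenHomAdj P) (innerAdj P) I
  haveI : (tenCx P).Additive := inferInstance
  obtain ⟨H⟩ := nonempty_homotopy_of_homEquiv (P := P) ((g - g') ≫ e.inv)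
    ((Homotopy.ofEq (by
      rw [key, Adjunction.homEquiv_counit, Adjunction.homEquiv_counit, Adjunction.homEquiv_counit,
        Functor.map_sub, Preadditive.sub_comp])).trans h.equivSubZero)
  have H' := (H.compRight e.hom)
  exact ⟨Homotopy.equivSubZero.symm ((Homotopy.ofEq (by simp)).trans (H'.trans (Homotopy.ofEq zero_comp)))⟩

variable [IsNoetherianRing R] [PreservesFiniteLimits (tilde.functor R)]

/-- The tilde of a complex with finite cohomology has coherent cohomology. -/
theorem isCohD_tildeD_of_finite (M : Dual.D R) (hM : ∀ i : ℤ, Module.Finite R (Dual.HD R M i)) :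
    DCoh.IsCohD ((DCoh.tildeD R).obj M) := fun i => by
  exact QCohAb92.isCoh_of_iso' ((mapDCHomologyIso (tilde.functor R) i).app M).symm
    ((isCoh_tilde_iff _).2 (hM i))

/-- The core comparison, for a K-flat source and a bounded complex of injectives as target. -/
theorem nonempty_tilde_RSheafHom_iso (P : DRing.Cx R) (hP : KFlat (curriedTensor (ModuleCat.{u} R)) P)
    (hPf : ∀ i : ℤ, Module.Finite R (Dual.HD R (DRing.toD P) i))
    (I : DRing.Cx R) (hI : DRing.TermwiseInjective I) (a b : ℤ) [I.IsStrictlyGE a] [I.IsStrictlyLE b]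
    [DCoh.HasLTensorCx ((tildeCx R).obj P)]
    [DCoh.HasRSheafHom ((tildeCx R).obj P)] :
    Nonempty ((DCoh.tildeD R).obj (DerivedCategory.Q.obj (DRing.homCx P I)) ≅
      (DCoh.RSheafHom ((tildeCx R).obj P)).obj
        (DerivedCategory.Q.obj ((tildeCx R).obj I))) := by
  let T := tildeCx R
  let J := T.obj I
  let Ef := T.obj P
  let H := DRing.homCx P I
  haveI : ∀ n, Injective (I.X n) := fun n => haveI := hI n; Module.injective_object_of_injective_module R (I.X n)
  haveI : I.IsKInjective := CochainComplex.isKInjective_of_injective I a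
  haveI hJinj : ∀ n, Injective (J.X n) := injective_tildeCx_X I hI
  haveI : J.IsStrictlyGE a := (CochainComplex.isStrictlyGE_iff _ _).2 fun i hi =>
    (tilde.functor R).map_isZero (I.isZero_of_isStrictlyGE a i hi)
  haveI : J.IsStrictlyLE b := (CochainComplex.isStrictlyLE_iff _ _).2 fun i hi =>
    (tilde.functor R).map_isZero (I.isZero_of_isStrictlyLE b i hi)
  haveI : J.IsKInjective := CochainComplex.isKInjective_of_injective J a
  haveI : H.IsKInjective := by
    haveI := KFlatLib.isKInjective_innerHom hP I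
    exact CochainComplex.isKInjective_of_iso ((innerHomIso P).app I)
  have hEf : DCoh.IsKFlat Ef := isKFlat_tilde P hP
  let tQ : ∀ N : DRing.Cx R, (DCoh.tildeD R).obj (DerivedCategory.Q.obj N) ≅ DerivedCategory.Q.obj (T.obj N) :=
    fun N => (tilde.functor R).mapDerivedCategoryFactors.app N
  have htQ : ∀ {N N' : DRing.Cx R} (g : N ⟶ N'),
      (DCoh.tildeD R).map (DerivedCategory.Q.map g) ≫ (tQ N').hom = (tQ N).hom ≫ DerivedCategory.Q.map (T.map g) :=
    fun g => (tilde.functor R).mapDerivedCategoryFactors.hom.naturality g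
  let adj := DCoh.RSheafHomAdj Ef
  let c := (DCoh.tensorCxQ Ef).totalLeftDerivedCounit DerivedCategory.Q (qisX (Spec R))
  haveI := fun N => isIso_LTensorCx_counit_of_isKFlat_right Ef hEf N
  let RH := (DCoh.RSheafHom Ef).obj (DerivedCategory.Q.obj J)
  let cmp : DerivedCategory.Q.obj (T.obj H) ⟶ RH :=
    adj.homEquiv _ _ (c.app (T.obj H) ≫ DerivedCategory.Q.map (tildeEv P I))
  have key : ∀ (N : DRing.Cx R) (g : N ⟶ H),
      (adj.homEquiv _ _).symm (DerivedCategory.Q.map (T.map g) ≫ cmp) =
        c.app (T.obj N) ≫ DerivedCategory.Q.map ((tildeTensorCxIso N P).hom ≫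
          T.map (((tenHomAdj P).homEquiv N I).symm g)) := fun N g => by
    refine (Equiv.symm_apply_eq _).2 ?_
    refine (adj.homEquiv_naturality_left _ _).symm.trans (congrArg _ ?_)
    rw [← tildeEv_naturality]
    refine Eq.trans ?_ (congrArg (c.app (T.obj N) ≫ ·) (DerivedCategory.Q.map_comp _ _).symm)
    exact ((Category.assoc _ _ _).symm.trans (congrArg (· ≫ _) (c.naturality (T.map g)))).trans
      (Category.assoc _ _ _)
  have hbij : ∀ M : Dual.D R, Function.Bijective fun x : M ⟶ DerivedCategory.Q.obj H =>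
      (DCoh.tildeD R).map x ≫ (tQ H).hom ≫ cmp := fun M => by
    obtain ⟨N, ⟨e⟩⟩ : ∃ N, Nonempty (DerivedCategory.Q.obj N ≅ M) :=
      ⟨_, ⟨DerivedCategory.Q.objObjPreimageIso M⟩⟩
    suffices h : Function.Bijective fun x : DerivedCategory.Q.obj N ⟶ DerivedCategory.Q.obj H =>
        (DCoh.tildeD R).map x ≫ (tQ H).hom ≫ cmp by
      refine ⟨fun x y hxy => (cancel_epi e.hom).1 (h.1 ?_), fun y => ?_⟩
      · simp only [Functor.map_comp, Category.assoc] at hxy ⊢
        rw [hxy]
      · obtain ⟨x, hx⟩ := h.2 ((DCoh.tildeD R).map e.hom ≫ y)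
        refine ⟨e.inv ≫ x, ?_⟩
        simp only at hx ⊢
        rw [Functor.map_comp, Category.assoc, hx, ← Functor.map_comp_assoc, Iso.inv_hom_id,
          CategoryTheory.Functor.map_id, Category.id_comp]
    have hform : ∀ g : N ⟶ H, (DCoh.tildeD R).map (DerivedCategory.Q.map g) ≫ (tQ H).hom ≫ cmp =
        (tQ N).hom ≫ adj.homEquiv _ _ (c.app (T.obj N) ≫ DerivedCategory.Q.map
          ((tildeTensorCxIso N P).hom ≫ T.map (((tenHomAdj P).homEquiv N I).symm g))) := fun g => by
      rw [← Category.assoc, htQ, Category.assoc, ← key, Equiv.apply_symm_apply]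
    have htff : ∀ (X : DRing.Cx R) (f f' : X ⟶ I),
        DerivedCategory.Q.map (T.map f) = DerivedCategory.Q.map (T.map f') →
          DerivedCategory.Q.map f = DerivedCategory.Q.map f' := fun X f f' h =>
      (tildeD_map_bijective _ _).1 (by rw [← cancel_mono (tQ I).hom, htQ, htQ, h])
    refine ⟨fun x y hxy => ?_, fun y => ?_⟩
    · obtain ⟨g, rfl⟩ := exists_Q_map x
      obtain ⟨g', rfl⟩ := exists_Q_map y
      simp only [hform, cancel_epi] at hxy
      have h1 := (cancel_epi (c.app (T.obj N))).1 ((adj.homEquiv _ _).injective hxy)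
      rw [Functor.map_comp, Functor.map_comp, cancel_epi] at h1
      obtain ⟨h2⟩ := homotopy_of_Q_map_eq _ _ (htff _ _ _ h1)
      refine DerivedCategory.Q_map_eq_of_homotopy _ ?_
      haveI : (tenCx P).Additive := inferInstance
      exact (nonempty_homotopy_homEquiv P I g g' h2).some
    · obtain ⟨z, hz⟩ := (tildeD_map_bijective (DerivedCategory.Q.obj ((tenCx P).obj N))
        (DerivedCategory.Q.obj I)).2 ((tQ ((tenCx P).obj N)).hom ≫
          DerivedCategory.Q.map (tildeTensorCxIso N P).inv ≫ inv (c.app (T.obj N)) ≫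
            (adj.homEquiv _ _).symm ((tQ N).inv ≫ y) ≫ (tQ I).inv)
      obtain ⟨f, rfl⟩ := exists_Q_map z
      refine ⟨DerivedCategory.Q.map ((tenHomAdj P).homEquiv N I f), ?_⟩
      simp only
      rw [hform, Equiv.symm_apply_apply, ← Iso.eq_inv_comp, ← Equiv.eq_symm_apply, Functor.map_comp]
      have h3 := congrArg (· ≫ (tQ I).hom) hz
      simp only [htQ, Category.assoc, Iso.inv_hom_id, Category.comp_id, cancel_epi] at h3
      rw [h3]
      simp
      rfl
  have hcoh : DCoh.IsCohD (DCoh.toD (Spec R) Ef) :=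
    isCohD_of_iso (tQ P) (isCohD_tildeD_of_finite (DRing.toD P) hPf)
  have hJq : DCoh.IsQCohD (DCoh.toD (Spec R) J) := isQCohD_of_iso (tQ I) (isQCohD_tildeD R _)
  have hRq : DCoh.IsQCohD RH := isQCohD_RSheafHom_of_injBounded Ef hcoh J a b hJq
  obtain ⟨M, ⟨eM⟩⟩ := exists_tildeD_iso hRq
  obtain ⟨x, hx⟩ := (hbij M).2 eM.hom
  simp only at hx
  haveI : IsIso x := by
    obtain ⟨w, hw⟩ := (tildeD_map_bijective (DerivedCategory.Q.obj H) M).2
      ((tQ H).hom ≫ cmp ≫ eM.inv)
    refine ⟨w, ?_, ?_⟩
    · refine (tildeD_map_bijective M M).1 ?_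
      rw [Functor.map_comp, hw, ← Category.assoc, ← Category.assoc, Category.assoc _ (tQ H).hom, hx,
        Iso.hom_inv_id, CategoryTheory.Functor.map_id]
    · refine (hbij _).1 ?_
      simp only [Functor.map_comp, Category.assoc, hw, hx, Iso.inv_hom_id, Category.comp_id,
        CategoryTheory.Functor.map_id, Category.id_comp]
  exact ⟨(DCoh.tildeD R).mapIso (asIso x).symm ≪≫ eM⟩

end Groth.Agent.DualityLC
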