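import Groth.Agent.KFlatLib.TotalMap

/-!
# The comparison of total complexes is natural in the first variable
-/

set_option autoImplicit false
set_option linter.style.haveILetI false

universe v₁ u₁ v₂ u₂ v u v₁' u₁' v₂' u₂' v' u'

open CategoryTheory CategoryTheory.Limits

namespace Groth.Agent.DualityLC

open Groth.Agent.KFlatLib

variable {A₁ : Type u₁} [Category.{v₁} A₁] [Preadditive A₁]
  {A₂ : Type u₂} [Category.{v₂} A₂] [Preadditive A₂]
  {A : Type u} [Category.{v} A] [Abelian A] [∀ S : Type, HasColimitsOfShape (Discrete S) A]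
  {B₁ : Type u₁'} [Category.{v₁'} B₁] [Preadditive B₁]
  {B₂ : Type u₂'} [Category.{v₂'} B₂] [Preadditive B₂]
  {B : Type u'} [Category.{v'} B] [Abelian B] [∀ S : Type, HasColimitsOfShape (Discrete S) B]
  {Φ₁ : A₁ ⥤ B₁} {Φ₂ : A₂ ⥤ B₂} {Ψ : A ⥤ B} [Φ₁.Additive] [Φ₂.Additive] [Ψ.Additive]
  {T : A₁ ⥤ A₂ ⥤ A} [T.Additive] [∀ X, (T.obj X).Additive]
  {T' : B₁ ⥤ B₂ ⥤ B} [T'.Additive] [∀ X, (T'.obj X).Additive]
  (θ : T ⋙ (Functor.whiskeringRight A₂ A B).obj Ψ ≅
    Φ₁ ⋙ T' ⋙ (Functor.whiskeringLeft A₂ B₂ B).obj Φ₂)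

lemma totalMapHom_naturality {L L' : CochainComplex A₁ ℤ} (g : L ⟶ L') (K : CochainComplex A₂ ℤ) :
    (T'.map₂CochainComplex.map ((Φ₁.mapHomologicalComplex (ComplexShape.up ℤ)).map g)).app
        ((Φ₂.mapHomologicalComplex (ComplexShape.up ℤ)).obj K) ≫ totalMapHom θ L' K =
      totalMapHom θ L K ≫ (Ψ.mapHomologicalComplex (ComplexShape.up ℤ)).map
        ((T.map₂CochainComplex.map g).app K) := by
  refine HomologicalComplex.hom_ext _ _ fun n => HomologicalComplex.mapBifunctor.hom_ext fun p q h => ?_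
  change p + q = n at h
  change _ ≫ (HomologicalComplex.mapBifunctorMap ((Φ₁.mapHomologicalComplex (ComplexShape.up ℤ)).map g)
      (𝟙 ((Φ₂.mapHomologicalComplex (ComplexShape.up ℤ)).obj K)) T' (ComplexShape.up ℤ)).f n ≫
      (totalMapHom θ L' K).f n =
    _ ≫ (totalMapHom θ L K).f n ≫
      Ψ.map ((HomologicalComplex.mapBifunctorMap g (𝟙 K) T (ComplexShape.up ℤ)).f n)
  have h1 := HomologicalComplex.ι_mapBifunctorMap ((Φ₁.mapHomologicalComplex (ComplexShape.up ℤ)).map g)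
      (𝟙 ((Φ₂.mapHomologicalComplex (ComplexShape.up ℤ)).obj K)) T' (ComplexShape.up ℤ) p q n h
  have h2 := HomologicalComplex.ι_mapBifunctorMap g (𝟙 K) T (ComplexShape.up ℤ) p q n h
  have h3 := ι_totalMapHom θ L' K p q n h
  have h4 := ι_totalMapHom θ L K p q n h
  refine ((Category.assoc _ _ _).symm.trans (congrArg (· ≫ _) h1)).trans ?_
  refine Eq.trans ?_ ((Category.assoc _ _ _).symm.trans (congrArg (· ≫ _) h4)).symm
  simp only [HomologicalComplex.id_f, CategoryTheory.Functor.map_id, Category.id_comp] at h2 ⊢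
  refine (Category.assoc _ _ _).trans ?_
  refine (congrArg (((T'.map (Φ₁.map (g.f p))).app (Φ₂.obj (K.X q))) ≫ ·)
    h3).trans ?_
  simp only [totalMapι]
  erw [Category.assoc, ← Ψ.map_comp, h2]
  rw [Ψ.map_comp]
  exact ((Category.assoc _ _ _).symm.trans (congrArg (· ≫ _) (NatTrans.congr_app (θ.inv.naturality (g.f p)) (K.X q)))).trans
    (Category.assoc _ _ _)

end Groth.Agent.DualityLC
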