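import Groth.Agent.KFlatLib.Scheme.QCohTensor
import Groth.Agent.KFlatLib.Scheme.PullTensorCx
import Groth.Agent.KFlatLib.TotalMap
import Groth.Agent.QCoh.TensorSections
import Groth.Agent.QCoh.Tilde
import Groth.Agent.DualityLC.TotalMapNat

/-!
# `(M ⊗ N)^~ ≅ M^~ ⊗ N^~`, natural in both variables
-/

set_option autoImplicit false
set_option linter.style.haveILetI false
set_option backward.isDefEq.respectTransparency false
set_option backward.isDefEq.respectTransparency.types false
set_option maxHeartbeats 1000000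

universe u

open CategoryTheory CategoryTheory.Limits AlgebraicGeometry MonoidalCategory Opposite
open scoped TensorProduct

attribute [local instance] HasDerivedCategory.standard

namespace Groth.Agent.DualityLC

variable {R : CommRingCat.{u}}

theorem algebraMap_spec_surjective : Function.Surjective (algebraMap R Γ(Spec R, ⊤)) := fun x => by
  refine ⟨(Scheme.ΓSpecIso R).hom x, ?_⟩
  change ((Spec R).presheaf.map (⊤ : (Spec R).Opens).leTop.op) ((Scheme.ΓSpecIso R).inv ((Scheme.ΓSpecIso R).hom x)) = x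
  rw [Subsingleton.elim (⊤ : (Spec R).Opens).leTop (𝟙 _), op_id, CategoryTheory.Functor.map_id]
  exact congr($((Scheme.ΓSpecIso R).hom_inv_id) x)

/-- A global section of `M^~`. -/
noncomputable abbrev gsec (M : ModuleCat.{u} R) : M →ₗ[R] Γ(tilde M, ⊤) :=
  (tilde.adjunction (R := R)).unit.app M |>.hom

lemma gsec_bijective (M : ModuleCat.{u} R) : Function.Bijective (gsec M) :=
  ConcreteCategory.bijective_of_isIso ((tilde.adjunction (R := R)).unit.app M)

lemma gsec_naturality {M M' : ModuleCat.{u} R} (g : M ⟶ M') (m : M) :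
    gsec M' (g.hom m) = (moduleSpecΓFunctor.map ((tilde.functor R).map g)).hom (gsec M m) :=
  congr($((tilde.adjunction (R := R)).unit.naturality g) m)

lemma compatibleSMul_gsec (M N : ModuleCat.{u} R) :
    TensorProduct.CompatibleSMul R Γ(Spec R, ⊤) Γ(tilde M, ⊤) Γ(tilde N, ⊤) := ⟨fun g m n => by
    obtain ⟨r, rfl⟩ := algebraMap_spec_surjective g
    rw [algebraMap_smul, algebraMap_smul, TensorProduct.smul_tmul]⟩

/-- The bilinear map on global sections. -/
noncomputable def muEquiv (M N : ModuleCat.{u} R) :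
    M ⊗[R] N ≃ₗ[R] Γ((DCoh.tensorBi.obj (tilde M)).obj (tilde N), ⊤) :=
  haveI := compatibleSMul_gsec M N
  (TensorProduct.congr (LinearEquiv.ofBijective (gsec M) (gsec_bijective M))
      (LinearEquiv.ofBijective (gsec N) (gsec_bijective N))).trans
    ((TensorProduct.equivOfCompatibleSMul Γ(Spec R, ⊤) R R Γ(tilde M, ⊤) Γ(tilde N, ⊤)).trans
      ((LinearEquiv.ofBijective _ (QCoh.bijective_tmLin (M := tilde M) (N := tilde N) inferInstance
        inferInstance (isAffineOpen_top (Spec R)))).restrictScalars R))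

lemma muEquiv_tmul (M N : ModuleCat.{u} R) (m : M) (n : N) :
    muEquiv M N (m ⊗ₜ[R] n) = QCoh.tmS (tilde M) (tilde N) (gsec M m) (gsec N n) :=
  rfl

/-- The isomorphism on global sections. -/
noncomputable def muIso (M N : ModuleCat.{u} R) :
    (M ⊗ N : ModuleCat.{u} R) ≅
      moduleSpecΓFunctor.obj ((DCoh.tensorBi.obj (tilde M)).obj (tilde N)) :=
  let e : M ⊗[R] N ≃ₗ[R] moduleSpecΓFunctor.obj ((DCoh.tensorBi.obj (tilde M)).obj (tilde N)) :=
    muEquiv M N
  e.toModuleIso

/-- The map on global sections. -/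
noncomputable abbrev muΓ (M N : ModuleCat.{u} R) :
    (M ⊗ N : ModuleCat.{u} R) ⟶
      moduleSpecΓFunctor.obj ((DCoh.tensorBi.obj (tilde M)).obj (tilde N)) :=
  (muIso M N).hom

lemma muΓ_tmul (M N : ModuleCat.{u} R) (m : M) (n : N) :
    (muΓ M N).hom (m ⊗ₜ[R] n) = QCoh.tmS (tilde M) (tilde N) (gsec M m) (gsec N n) :=
  muEquiv_tmul M N m n

lemma isIso_muΓ (M N : ModuleCat.{u} R) : IsIso (muΓ M N) :=
  inferInstance

/-- The comparison `(M ⊗ N)^~ ⟶ M^~ ⊗ N^~`. -/
noncomputable def mu (M N : ModuleCat.{u} R) :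
    (tilde.functor R).obj (M ⊗ N) ⟶ (DCoh.tensorBi.obj (tilde M)).obj (tilde N) :=
  ((tilde.adjunction (R := R)).homEquiv _ _).symm (muΓ M N)

lemma isIso_mu (M N : ModuleCat.{u} R) : IsIso (mu M N) := by
  haveI := isIso_muΓ M N
  haveI : IsIso ((tilde.adjunction (R := R)).counit.app ((DCoh.tensorBi.obj (tilde M)).obj (tilde N))) :=
    (isQuasicoherent_iff_isIso_fromTildeΓ _).1
      (KFlatLib.isQCoh_tensor (inferInstance : Coh.IsQCoh (tilde M)) (inferInstance : Coh.IsQCoh (tilde N)))
  rw [mu, Adjunction.homEquiv_counit]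
  infer_instance

lemma mu_naturality_right (M : ModuleCat.{u} R) {N N' : ModuleCat.{u} R} (g : N ⟶ N') :
    (tilde.functor R).map (M ◁ g) ≫ mu M N' =
      mu M N ≫ (DCoh.tensorBi.obj (tilde M)).map ((tilde.functor R).map g) := by
  rw [mu, mu, ← Adjunction.homEquiv_naturality_left_symm, ← Adjunction.homEquiv_naturality_right_symm]
  refine congrArg _ (ModuleCat.MonoidalCategory.tensor_ext fun m n => ?_)
  refine (muΓ_tmul M N' m (g.hom n)).trans (Eq.trans ?_ (congrArg _ (muΓ_tmul M N m n)).symm)
  exact ((KFlatLib.tmSh_naturality_right (tilde M) ((tilde.functor R).map g) (gsec M m : Γ(tilde M, ⊤))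
    (gsec N n : Γ(tilde N, ⊤))).trans
      (congrArg (fun z => KFlatLib.tmSh (tilde M) _ (gsec M m : Γ(tilde M, ⊤)) z) (gsec_naturality g n).symm)).symm

lemma mu_naturality_left {M M' : ModuleCat.{u} R} (g : M ⟶ M') (N : ModuleCat.{u} R) :
    (tilde.functor R).map (g ▷ N) ≫ mu M' N =
      mu M N ≫ (DCoh.tensorBi.map ((tilde.functor R).map g)).app (tilde N) := by
  rw [mu, mu, ← Adjunction.homEquiv_naturality_left_symm, ← Adjunction.homEquiv_naturality_right_symm]
  refine congrArg _ (ModuleCat.MonoidalCategory.tensor_ext fun m n => ?_)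
  refine (muΓ_tmul M' N (g.hom m) n).trans (Eq.trans ?_ (congrArg _ (muΓ_tmul M N m n)).symm)
  exact ((KFlatLib.tmSh_naturality_left ((tilde.functor R).map g) (tilde N) (gsec M m : Γ(tilde M, ⊤))
    (gsec N n : Γ(tilde N, ⊤))).trans
      (congrArg (fun z => KFlatLib.tmSh _ (tilde N) z (gsec N n : Γ(tilde N, ⊤))) (gsec_naturality g m).symm)).symm

/-- `(M ⊗ N)^~ ≅ M^~ ⊗ N^~`, natural in both variables. -/
noncomputable def tildeTensorBiIso :
    curriedTensor (ModuleCat.{u} R) ⋙ (Functor.whiskeringRight _ _ _).obj (tilde.functor R) ≅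
      tilde.functor R ⋙ DCoh.tensorBi ⋙ (Functor.whiskeringLeft _ _ _).obj (tilde.functor R) :=
  NatIso.ofComponents
    (fun M => NatIso.ofComponents (fun N => haveI := isIso_mu M N; asIso (mu M N))
      fun {N N'} g => mu_naturality_right M g)
    fun {M M'} g => by
      ext N : 2
      exact mu_naturality_left g N

lemma additive_tilde_functor (R : CommRingCat.{u}) : (tilde.functor R).Additive := by
  haveI := (tilde.adjunction (R := R)).leftAdjoint_preservesColimits
  haveI := preservesBinaryBiproducts_of_preservesBinaryCoproducts (tilde.functor R)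
  exact Functor.additive_of_preservesBinaryBiproducts _

attribute [local instance] additive_tilde_functor

/-- The derived-level tilde of complexes. -/
noncomputable abbrev tildeCx (R : CommRingCat.{u}) :
    CochainComplex (ModuleCat.{u} R) ℤ ⥤ CochainComplex (Spec R).Modules ℤ :=
  (tilde.functor R).mapHomologicalComplex (ComplexShape.up ℤ)

/-- Tilde commutes with tensor products of complexes. -/
noncomputable def tildeTensorCxIso (L K : CochainComplex (ModuleCat.{u} R) ℤ) :
    (DCoh.tensorCx.obj ((tildeCx R).obj L)).obj ((tildeCx R).obj K) ≅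
      (tildeCx R).obj (((curriedTensor (ModuleCat.{u} R)).map₂CochainComplex.obj L).obj K) :=
  KFlatLib.totalMapIso tildeTensorBiIso L K

lemma tildeTensorCxIso_naturality {L L' : CochainComplex (ModuleCat.{u} R) ℤ} (g : L ⟶ L')
    (K : CochainComplex (ModuleCat.{u} R) ℤ) :
    (DCoh.tensorCx.map ((tildeCx R).map g)).app ((tildeCx R).obj K) ≫ (tildeTensorCxIso L' K).hom =
      (tildeTensorCxIso L K).hom ≫
        (tildeCx R).map (((curriedTensor (ModuleCat.{u} R)).map₂CochainComplex.map g).app K) :=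
  totalMapHom_naturality tildeTensorBiIso g K

end Groth.Agent.DualityLC
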