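import Groth.Agent.DualityLC.ExtRegSeq
import Groth.Agent.SGA7X.TorSeq
import Groth.Agent.CAlgOdd.TorSymm.Main

/-!
# Tor against the quotient by a weakly regular sequence
-/

set_option autoImplicit false
set_option linter.style.haveILetI false
set_option backward.isDefEq.respectTransparency false

universe u

open CategoryTheory CategoryTheory.Limits MonoidalCategory
open scoped Pointwise

namespace Groth.Agent.DualityLC

variable {A : Type u} [CommRing A]

theorem linearMap_factor_range {I I' : Ideal A} (h : I ≤ I') (x : A) (hI : I' = I ⊔ Ideal.span {x})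
    (M : Type u) [AddCommGroup M] [Module A M] :
    Nonempty (((A ⧸ I') →ₗ[A] M) ≃ₗ[A] LinearMap.ker (x • (LinearMap.id : ((A ⧸ I) →ₗ[A] M) →ₗ[A] _))) := by
  let ι : ((A ⧸ I') →ₗ[A] M) →ₗ[A] ((A ⧸ I) →ₗ[A] M) := LinearMap.lcomp A M (Submodule.factor h)
  have hinj : Function.Injective ι := fun f g hfg => LinearMap.ext fun z => by
    obtain ⟨a, rfl⟩ := Submodule.Quotient.mk_surjective _ z
    exact LinearMap.congr_fun hfg (Submodule.Quotient.mk a)
  refine ⟨(LinearEquiv.ofInjective ι hinj).trans (LinearEquiv.ofEq _ _ ?_)⟩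
  ext g
  constructor
  · rintro ⟨f, rfl⟩
    refine LinearMap.ext fun z => ?_
    obtain ⟨a, rfl⟩ := Submodule.Quotient.mk_surjective _ z
    show x • f (Submodule.Quotient.mk a) = 0
    rw [← map_smul, ← Submodule.Quotient.mk_smul, (Submodule.Quotient.mk_eq_zero _).2 ?_, map_zero]
    rw [hI, smul_eq_mul]
    exact Submodule.mem_sup_right (Ideal.mul_mem_right _ _ (Ideal.mem_span_singleton_self x))
  · intro hg
    have hg' : ∀ z, x • g z = 0 := fun z => LinearMap.congr_fun (LinearMap.mem_ker.1 hg) z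
    refine ⟨Submodule.liftQ I' (g ∘ₗ Submodule.mkQ I) ?_, LinearMap.ext fun z => ?_⟩
    · rw [hI, sup_le_iff]
      refine ⟨fun a ha => ?_, (Ideal.span_singleton_le_iff_mem _).2 ?_⟩
      · show g (Submodule.Quotient.mk a) = 0
        rw [(Submodule.Quotient.mk_eq_zero _).2 ha, map_zero]
      · show g (Submodule.Quotient.mk x) = 0
        rw [show (Submodule.Quotient.mk x : A ⧸ I) = x • Submodule.Quotient.mk 1 by
          rw [← Submodule.Quotient.mk_smul, smul_eq_mul, mul_one], map_smul, hg']
    · obtain ⟨a, rfl⟩ := Submodule.Quotient.mk_surjective _ z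
      rfl

/-- `Tor` against `A/J` above the length vanishes and in top degree is `Hom(A/J, M)`. -/
theorem tor_regSeq (M : Type u) [AddCommGroup M] [Module A M] : ∀ (xs : List A),
    RingTheory.Sequence.IsWeaklyRegular A xs →
    (∀ i, xs.length < i → IsZero (((Tor (ModuleCat.{u} A) i).obj (ModuleCat.of A (A ⧸ Ideal.ofList xs))).obj
        (ModuleCat.of A M))) ∧
      Nonempty ((((Tor (ModuleCat.{u} A) xs.length).obj (ModuleCat.of A (A ⧸ Ideal.ofList xs))).obj
        (ModuleCat.of A M) : Type u) ≃ₗ[A] ((A ⧸ Ideal.ofList xs) →ₗ[A] M)) := by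
  intro xs
  induction xs using List.reverseRecOn with
  | nil =>
    intro _
    let e : (A ⧸ Ideal.ofList ([] : List A)) ≃ₗ[A] A := Submodule.quotEquivOfEqBot _ Ideal.ofList_nil
    haveI : Module.Flat A (A ⧸ Ideal.ofList ([] : List A)) := Module.Flat.of_linearEquiv e
    refine ⟨fun i hi => ?_, ⟨?_⟩⟩
    · obtain ⟨j, rfl⟩ := Nat.exists_eq_succ_of_ne_zero (by simp only [List.length_nil] at hi; omega : i ≠ 0)
      exact SGA7X.isZero_tor_flat (ModuleCat.of A (A ⧸ Ideal.ofList ([] : List A))) _ j
    · exact ((((tensoringLeft (ModuleCat.{u} A)).obj (ModuleCat.of A (A ⧸ Ideal.ofList ([] : List A)))).leftDerivedZeroIsoSelf.app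
        (ModuleCat.of A M)).toLinearEquiv.trans ((TensorProduct.congr e (LinearEquiv.refl A M)).trans
          (TensorProduct.lid A M))).trans ((LinearMap.ringLmapEquivSelf A A M).symm.trans (e.congrLeft M A).symm)
  | append_singleton ys x ih =>
    intro h
    obtain ⟨hvan, ⟨eb⟩⟩ := ih ((RingTheory.Sequence.isWeaklyRegular_append_iff A ys [x]).1 h).1
    obtain ⟨w, hS⟩ := exists_regStep ys x h
    let B := ModuleCat.of A (A ⧸ Ideal.ofList ys)
    let Q : ProjectiveResolution (ModuleCat.of A M) := ProjectiveResolution.of _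
    let φ : SGA7X.TC B Q ⟶ SGA7X.TC B Q := (NatTrans.mapHomologicalComplex
      ((tensoringLeft (ModuleCat.{u} A)).map (ModuleCat.ofHom (x • LinearMap.id : (A ⧸ Ideal.ofList ys) →ₗ[A] _) :
        B ⟶ B)) (ComplexShape.down ℕ)).app Q.complex
    let ψ : SGA7X.TC B Q ⟶ SGA7X.TC (ModuleCat.of A (A ⧸ Ideal.ofList (ys ++ [x]))) Q :=
      (NatTrans.mapHomologicalComplex ((tensoringLeft (ModuleCat.{u} A)).map (ModuleCat.ofHom
        (Submodule.factor (by rw [Ideal.ofList_append]; exact le_sup_left) :
          (A ⧸ Ideal.ofList ys) →ₗ[A] A ⧸ Ideal.ofList (ys ++ [x])))) (ComplexShape.down ℕ)).app Q.complex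
    have w' : φ ≫ ψ = 0 := by
      ext1 j
      haveI := Q.projective j
      exact (SGA7X.shortExact_tensor hS (Q.complex.X j)).1
    have hT : (ShortComplex.mk φ ψ w').ShortExact := HomologicalComplex.shortExact_of_degreewise_shortExact _ fun j => by
      haveI := Q.projective j
      exact (SGA7X.shortExact_tensor hS (Q.complex.X j)).2
    have hφ : φ = x • 𝟙 _ := by
      ext1 j
      refine ModuleCat.hom_ext (TensorProduct.ext' fun b q => ?_)
      rfl
    have hz : ∀ i, ys.length < i → IsZero ((SGA7X.TC B Q).homology i) := fun i hi =>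
      (hvan i hi).of_iso (Q.isoLeftDerivedObj _ i).symm
    have hmap : ∀ i, HomologicalComplex.homologyMap φ i = x • 𝟙 _ := fun i => by
      rw [hφ]
      have h1 : (HomologicalComplex.shortComplexFunctor (ModuleCat.{u} A) (ComplexShape.down ℕ) i).map
          (x • 𝟙 (SGA7X.TC B Q)) = x • 𝟙 _ := by ext <;> rfl
      show ShortComplex.homologyMap _ = _
      rw [h1, ShortComplex.homologyMap_smul, ShortComplex.homologyMap_id]
      rfl
    have hlen : (ys ++ [x]).length = ys.length + 1 := by simp
    refine ⟨fun i hi => ?_, ?_⟩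
    · obtain ⟨n, rfl⟩ := Nat.exists_eq_succ_of_ne_zero (by omega : i ≠ 0)
      refine IsZero.of_iso ?_ (Q.isoLeftDerivedObj _ (n + 1))
      exact (hT.homology_exact₃ (n + 1) n rfl).isZero_X₂ ((hz (n + 1) (by omega)).eq_of_src _ _)
        ((hz n (by omega)).eq_of_tgt _ _)
    · rw [hlen]
      let δ := hT.δ (ys.length + 1) ys.length rfl
      haveI : Mono δ := (hT.homology_exact₃ (ys.length + 1) ys.length rfl).mono_g
        ((hz (ys.length + 1) (by omega)).eq_of_src _ _)
      have hinj : Function.Injective δ.hom := (ModuleCat.mono_iff_injective δ).1 inferInstance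
      have hrange : LinearMap.range δ.hom =
          LinearMap.ker (x • (LinearMap.id : ((SGA7X.TC B Q).homology ys.length : Type u) →ₗ[A] _)) := by
        have hex := (ShortComplex.moduleCat_exact_iff_range_eq_ker _).1 (hT.homology_exact₁ (ys.length + 1) ys.length rfl)
        refine hex.trans ?_
        show LinearMap.ker (HomologicalComplex.homologyMap φ ys.length).hom = _
        rw [hmap]
        rfl
      let e₁ := (Q.isoLeftDerivedObj ((tensoringLeft (ModuleCat.{u} A)).obj
        (ModuleCat.of A (A ⧸ Ideal.ofList (ys ++ [x])))) (ys.length + 1)).toLinearEquiv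
      let e₀ : ((SGA7X.TC B Q).homology ys.length : Type u) ≃ₗ[A] ((A ⧸ Ideal.ofList ys) →ₗ[A] M) :=
        (Q.isoLeftDerivedObj ((tensoringLeft (ModuleCat.{u} A)).obj B) ys.length).toLinearEquiv.symm.trans eb
      obtain ⟨e₃⟩ := linearMap_factor_range (M := M) (I := Ideal.ofList ys) (I' := Ideal.ofList (ys ++ [x]))
        (by rw [Ideal.ofList_append]; exact le_sup_left) x (by rw [Ideal.ofList_append, Ideal.ofList_singleton])
      have hk : (LinearMap.ker (x • (LinearMap.id : ((SGA7X.TC B Q).homology ys.length : Type u) →ₗ[A] _))).map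
          (e₀ : _ →ₗ[A] _) = LinearMap.ker (x • (LinearMap.id : ((A ⧸ Ideal.ofList ys) →ₗ[A] M) →ₗ[A] _)) := by
        ext g
        simp only [Submodule.mem_map, LinearMap.mem_ker, LinearMap.smul_apply, LinearMap.id_apply]
        constructor
        · rintro ⟨z, hz, rfl⟩
          show x • e₀ z = 0
          rw [← map_smul, hz, map_zero]
        · intro hg
          exact ⟨e₀.symm g, by rw [← map_smul, hg, map_zero], e₀.apply_symm_apply g⟩
      exact ⟨e₁.trans ((LinearEquiv.ofInjective δ.hom hinj).trans ((LinearEquiv.ofEq _ _ hrange).trans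
        ((e₀.submoduleMap _).trans ((LinearEquiv.ofEq _ _ hk).trans e₃.symm))))⟩

/-- The same with Mathlib's `Tor'`. -/
theorem exists_tor'_regSeq (xs : List A) (hreg : RingTheory.Sequence.IsWeaklyRegular A xs) (M : Type u)
    [AddCommGroup M] [Module A M] :
    Nonempty ((((Tor' (ModuleCat.{u} A) xs.length).obj (ModuleCat.of A (A ⧸ Ideal.ofList xs))).obj
      (ModuleCat.of A M) : Type u) ≃ₗ[A] ((A ⧸ Ideal.ofList xs) →ₗ[A] M)) := by
  obtain ⟨e⟩ := (tor_regSeq M xs hreg).2
  obtain ⟨s⟩ := CAlgOdd.TorSymm.nonempty_flip (R := A) xs.length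
  let X := ModuleCat.of A M
  let Y := ModuleCat.of A (A ⧸ Ideal.ofList xs)
  let b : (tensoringRight (ModuleCat.{u} A)).obj X ≅ (tensoringLeft (ModuleCat.{u} A)).obj X :=
    NatIso.ofComponents (fun Z => β_ Z X) fun f => BraidedCategory.braiding_naturality_left f X
  let i₁ : ((Tor' (ModuleCat.{u} A) xs.length).obj Y).obj X ≅ ((Tor (ModuleCat.{u} A) xs.length).obj X).obj Y :=
    { hom := (NatTrans.leftDerived b.hom xs.length).app Y
      inv := (NatTrans.leftDerived b.inv xs.length).app Y
      hom_inv_id := by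
        rw [← NatTrans.comp_app, ← NatTrans.leftDerived_comp, Iso.hom_inv_id, NatTrans.leftDerived_id]
        rfl
      inv_hom_id := by
        rw [← NatTrans.comp_app, ← NatTrans.leftDerived_comp, Iso.inv_hom_id, NatTrans.leftDerived_id]
        rfl }
  exact ⟨(i₁ ≪≫ ((s.app X).app Y)).toLinearEquiv.trans e⟩

end Groth.Agent.DualityLC
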