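import Groth.Agent.DualityLC.DualTriangle
import Groth.Agent.KFlatLib.Ring.InvertibleTwist
import Groth.Agent.InvMod.Local
import Mathlib.RingTheory.Spectrum.Prime.FreeLocus
import Mathlib.LinearAlgebra.Contraction

/-!
# Duals of finite projective modules and twists
-/

set_option autoImplicit false
set_option linter.style.haveILetI false
set_option backward.isDefEq.respectTransparency false

universe u

open CategoryTheory CategoryTheory.Limits MonoidalCategory TensorProduct
open CochainComplex.HomComplex
open Groth.Agent.H9Misc.DRingHomCx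

attribute [local instance] HasDerivedCategory.standard

namespace Groth.Agent.DualityLC

variable {A : Type u} [CommRing A] (P : ModuleCat.{u} A)

/-- The dual module. -/
abbrev dualMod : ModuleCat.{u} A := ModuleCat.of A (Module.Dual A P)

variable [Module.Finite A P] [Module.Projective A P]

/-- Maps out of a finite projective module. -/
noncomputable def tensorDualEquiv (X : ModuleCat.{u} A) :
    ((tensorRight (dualMod P)).obj X : Type u) ≃ₗ[A] (P ⟶ X) :=
  (TensorProduct.comm A X (Module.Dual A P)).trans
    ((dualTensorHomEquiv A P X).trans (ModuleCat.homLinearEquiv (S := A)).symm)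

theorem tensorDualEquiv_tmul (X : ModuleCat.{u} A) (x : X) (φ : Module.Dual A P) (z : P) :
    (tensorDualEquiv P X (x ⊗ₜ[A] φ)).hom z = φ z • x := by
  simp [tensorDualEquiv, dualTensorHomEquiv]
  rfl

/-- The twist by the dual as a Hom complex. -/
theorem exists_twistHomCxIso (J : DRing.Cx A) :
    Nonempty (((tensorRight (dualMod P)).mapHomologicalComplex (ComplexShape.up ℤ)).obj J ≅
      DRing.homCx ((single₀ A).obj P) J) := by
  let Φ : ∀ n, ((tensorRight (dualMod P)).obj (J.X n) : Type u) ≃ₗ[A] Cochain ((single₀ A).obj P) J n := fun n =>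
    (tensorDualEquiv P (J.X n)).trans
      { toFun := fun f => Cochain.fromSingleMk f (zero_add n)
        map_add' := fun f g => Cochain.fromSingleMk_add _ _ _
        map_smul' := fun r f => H9Misc.DRingCechCompl.fromSingleMk_smul r f (zero_add n)
        invFun := fun z => Cochain.fromSingleEquiv (zero_add n) z
        left_inv := fun f => (Cochain.fromSingleEquiv (zero_add n)).apply_symm_apply f
        right_inv := fun z => (Cochain.fromSingleEquiv (zero_add n)).symm_apply_apply z }
  refine ⟨HomologicalComplex.Hom.isoOfComponents (fun n => (Φ n).toModuleIso) fun i j hij => ?_⟩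
  obtain rfl : i + 1 = j := hij
  refine ModuleCat.hom_ext (TensorProduct.ext (LinearMap.ext fun x => LinearMap.ext fun φ => ?_))
  show δ i (i + 1) (Cochain.fromSingleMk (tensorDualEquiv P (J.X i) (x ⊗ₜ[A] φ)) (zero_add i)) =
    Cochain.fromSingleMk (tensorDualEquiv P (J.X (i + 1)) ((J.d i (i + 1)).hom x ⊗ₜ[A] φ)) (zero_add (i + 1))
  rw [Cochain.δ_fromSingleMk _ _ _ (i + 1) (zero_add _)]
  congr 1
  refine ModuleCat.hom_ext (LinearMap.ext fun z => ?_)
  rw [ModuleCat.hom_comp, LinearMap.comp_apply, tensorDualEquiv_tmul, tensorDualEquiv_tmul, map_smul]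

/-- Derived hom out of a finite projective module is the twist by its dual. -/
theorem exists_rhomR_twistIso [DTen.HasLTen A] [DTen.HasRHom A] [PreservesFiniteLimits (tensorRight (dualMod P))]
    {ω : Dual.D A} (hω : Dual.IsDualizing A ω) :
    Nonempty ((DTen.RHomR A (Dual.inD A P)).obj ω ≅ (KFlatLib.twist (dualMod P)).obj ω) := by
  obtain ⟨c, d, J, hJ, hJinj, ⟨eω⟩⟩ := KFlatLib.finiteInjDim_of_isDualizing hω
  haveI := isKInjective_of_bounded hJ hJinj
  obtain ⟨e⟩ := exists_rhomR_boundedIso ((single₀ A).obj P) J (X := Dual.inD A P) (Iso.refl _) eω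
  obtain ⟨t⟩ := exists_twistHomCxIso P J
  exact ⟨e ≪≫ DerivedCategory.Q.mapIso t.symm ≪≫
    ((tensorRight (dualMod P)).mapDerivedCategoryFactors.app J).symm ≪≫ (KFlatLib.twist (dualMod P)).mapIso eω⟩

/-- Locally free of rank one at every prime: invertible. -/
theorem invertible_of_rankAtStalk_one {M : Type u} [AddCommGroup M] [Module A M] [Module.FinitePresentation A M]
    (h : ∀ p : PrimeSpectrum A, p ∈ Module.freeLocus A M ∧ Module.rankAtStalk M p = 1) :
    Module.Invertible A M := by
  refine InvMod.invertible_of_locally_free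
    {r : A | Nonempty (LocalizedModule.Away r M ≃ₗ[Localization.Away r] Localization.Away r)} ?_ fun r hr => hr
  by_contra hne
  obtain ⟨m, hm, hle⟩ := Ideal.exists_le_maximal _ hne
  let p : PrimeSpectrum A := ⟨m, hm.isPrime⟩
  haveI : Module.Free (Localization.AtPrime p.asIdeal) (LocalizedModule p.asIdeal.primeCompl M) := (h p).1
  obtain ⟨r, hr, hfree, hrk⟩ := Module.FinitePresentation.exists_free_localizedModule_powers
    p.asIdeal.primeCompl (LocalizedModule.mkLinearMap p.asIdeal.primeCompl M) (Localization.AtPrime p.asIdeal)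
  have hr' : r ∉ m := hr
  haveI : Nontrivial (Localization.Away r) :=
    (IsLocalization.map (M := .powers r) (T := p.asIdeal.primeCompl) (Localization.AtPrime p.asIdeal) (RingHom.id A)
      (Submonoid.powers_le.mpr hr) : Localization.Away r →+* Localization.AtPrime p.asIdeal).domain_nontrivial
  exact hr' (hle (Ideal.subset_span (FiniteDimensional.nonempty_linearEquiv_of_finrank_eq
    ((hrk.trans (h p).2).trans (Module.finrank_self _).symm))))

end Groth.Agent.DualityLC
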